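import Cfsg.Agent.Signalizer.Reduction
import Cfsg.Agent.Fusion.SignalizerTrivial

/-!
Consequences of the solvable signalizer functor theorem, from the two-colour hypothesis.
-/

set_option autoImplicit false
set_option linter.unusedSectionVars false

namespace Cfsg.Agent.Signalizer

open Subgroup

universe u

variable {r : ℕ} [hr : Fact r.Prime]

/-- The rank-three solvable signalizer functor theorem, in every group of the universe. -/
theorem theorem_of_closed (hTwo : TwoColourClosed.{u} r) (G : Type u) [Group G] [Finite G] :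
    H30.Signalizer.Theorem G r :=
  fun A θ hA hA3 hθ => solved_of_closed hTwo A θ hA hA3 hθ

/-- The closure has order prime to `r`, is solvable and meets each centralizer in the value. -/
theorem closure_spec_of_closed (hTwo : TwoColourClosed.{u} r) {G : Type u} [Group G] [Finite G]
    {A : Subgroup G} {θ : G → Subgroup G} (hA : Cfsg.IsElementaryAbelian r A)
    (hA3 : r ^ 3 ≤ Nat.card A) (hθ : Cfsg.IsSolvableSignalizerFunctor r A θ) :
    ¬ r ∣ Nat.card ↥(Cfsg.signalizerClosure A θ) ∧
      Group.IsSolvable ↥(Cfsg.signalizerClosure A θ) ∧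
      ∀ a ∈ A, a ≠ 1 → Cfsg.signalizerClosure A θ ⊓ centralizer {a} = θ a :=
  H30.Signalizer.closure_spec hA hA3 (solved_of_closed hTwo A θ hA hA3 hθ)

/-- Completeness, in the form of `Fusion.SignalizerTrivial`. -/
theorem complete_hyp_of_closed (hTwo : TwoColourClosed.{u} r) (G : Type u) [Group G] [Finite G] :
    Fusion.Signalizer.CompleteHyp r G :=
  fun A θ hA hA3 hθ => H30.Signalizer.complete_of_solved hθ (solved_of_closed hTwo A θ hA hA3 hθ)

/-- Solvability from solvable centralizers. -/
theorem isSolvable_of_closed (hTwo : TwoColourClosed.{u} r) {G : Type u} [Group G] [Finite G]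
    {A K : Subgroup G} (hA : Cfsg.IsElementaryAbelian r A) (hA3 : r ^ 3 ≤ Nat.card A)
    (hK : (Nat.card K).Coprime r) (hAK : A ≤ normalizer (K : Set G))
    (hC : ∀ a ∈ A, a ≠ 1 → Group.IsSolvable ↥(K ⊓ centralizer ({a} : Set G))) :
    Group.IsSolvable K :=
  H30.Signalizer.isSolvable_of_centralizers (theorem_of_closed hTwo G) hA hA3
    (hr.out.coprime_iff_not_dvd.mp hK.symm) hAK hC

end Cfsg.Agent.Signalizer
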