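import Cfsg.Agent.Signalizer.Many
import Cfsg.Agent.H30.SignalizerCor
import Cfsg.Agent.H42.Transitivity

/-!
The induction and the reduction to rank three for the solvable signalizer functor theorem. The case of
two primes enters as the hypothesis `TwoColourClosed`.
-/

set_option autoImplicit false
set_option linter.unusedSectionVars false

namespace Cfsg.Agent.Signalizer

open Subgroup

universe u

/-- No minimal counterexample has all but two of the prime parts trivial. -/
def TwoColourClosed (r : ℕ) : Prop :=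
  ∀ (H : Type u) [Group H] [Finite H] (S : Setup H r), S.Minimal → ∀ p q : ℕ, p.Prime → q.Prime →
    p ≠ q → (∀ x : ℕ, x.Prime → x ≠ p → x ≠ q → S.Y {x} = ⊥) → False

variable {r : ℕ} [hr : Fact r.Prime]

/-- A minimal counterexample has two colours. -/
theorem Setup.Minimal.false_of_closed (hTwo : TwoColourClosed.{u} r) {G : Type u} [Group G] [Finite G]
    {S : Setup G r} (hS : S.Minimal) : False := by
  have H : ∀ a b : ℕ, a.Prime → b.Prime → ∃ s, s.Prime ∧ s ≠ a ∧ s ≠ b ∧ S.Y {s} ≠ ⊥ := by
    intro a b ha hb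
    by_contra hc
    push Not at hc
    by_cases hab : a = b
    · subst hab
      by_cases ha2 : a = 2
      · exact hTwo G S hS a 3 ha Nat.prime_three (by omega)
          fun x hx h1 _ => hc x hx h1 h1
      · exact hTwo G S hS a 2 ha Nat.prime_two ha2 fun x hx h1 _ => hc x hx h1 h1
    · exact hTwo G S hS a b ha hb hab fun x hx h1 h2 => hc x hx h1 h2
  obtain ⟨q, hq, hq2, hq3, hqY⟩ := H 2 3 Nat.prime_two Nat.prime_three
  haveI := Fact.mk hq
  exact hS.false_of_large (hq.five_le_of_ne_two_of_ne_three hq2 hq3) hqY fun z hz => H q z hq hz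

/-- The theorem for `A` of order `r ^ 3`. -/
theorem Setup.complete_of_closed (hTwo : TwoColourClosed.{u} r) : ∀ (n : ℕ) (G : Type u) [Group G]
    [Finite G] (S : Setup G r), S.weight = n → S.Complete := by
  intro n
  induction n using Nat.strong_induction_on with
  | _ n ih =>
    intro G _ _ S hn
    by_contra hc
    have hmin : S.Minimal :=
      ⟨hc, fun H _ _ S' hlt => ih S'.weight (hn ▸ hlt) H S' rfl⟩
    exact hmin.false_of_closed hTwo

/-- The theorem for every rank at least three. -/
theorem solved_of_closed (hTwo : TwoColourClosed.{u} r) {G : Type u} [Group G] [Finite G]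
    (A : Subgroup G) (θ : G → Subgroup G) (hA : Cfsg.IsElementaryAbelian r A)
    (hA3 : r ^ 3 ≤ Nat.card A) (hθ : Cfsg.IsSolvableSignalizerFunctor r A θ) :
    H30.Signalizer.Solved r A θ := by
  obtain ⟨⟨hC, hp, hinv, hbal⟩, hsolv⟩ := hθ
  obtain ⟨A₀, hle, hel, hcard⟩ := H42.exists_card_cube hA hA3
  let S : Setup G r :=
    { A := A₀, θ := θ, elem := hel, card_A := hcard
      functor := ⟨⟨fun a ha => hC a (hle ha), fun a ha => hp a (hle ha),
        fun a ha h1 b hb => hinv a (hle ha) h1 b (hle hb),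
        fun a ha h1 b hb => hbal a (hle ha) h1 b (hle hb)⟩, fun a ha => hsolv a (hle ha)⟩ }
  obtain ⟨X, hX, hθX⟩ := Setup.complete_of_closed hTwo S.weight G S rfl
  set W := ⨆ a : {a : G // a ∈ A₀ ∧ a ≠ 1}, θ a with hW
  have hWX : W ≤ X := iSup_le fun a => hθX a a.2.1 a.2.2
  have hAW : A ≤ normalizer (W : Set G) := by
    intro b hb
    refine Coprime.mem_normalizer_of_map_conj ?_
    rw [hW, Subgroup.map_iSup]
    exact iSup_congr fun a => Coprime.map_conj_eq
      (le_normalizer_iff.mpr (hinv a (hle a.2.1) a.2.2) hb)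
  have hWr : ¬ r ∣ Nat.card W := fun hd => hX.not_dvd (hd.trans (card_dvd_of_le hWX))
  have hsq : r ^ 2 ≤ Nat.card S.A := hcard ▸ Nat.pow_le_pow_right hr.out.pos (by norm_num)
  have hA₀c : ∀ {a : G}, a ∈ A → A₀ ≤ normalizer (centralizer ({a} : Set G) : Set G) := by
    intro a ha b hb
    exact Subgroup.le_normalizer (mem_centralizer_singleton_iff.mpr
      (H40.elemAb_commute hA (hle hb) ha))
  refine ⟨W, ⟨Coprime.isSolvable_of_le hWX hX.solvable, hWr, le_normalizer_iff.mp hAW,
    fun a ha h1 => ?_⟩, fun a ha h1 => le_antisymm ?_ (le_inf ?_ (hC a ha h1))⟩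
  rotate_right
  · -- `θ a ≤ W`
    refine Setup.le_of_points (S := S) le_rfl hsq (hp a ha h1)
      (le_normalizer_iff.mpr fun b hb => hinv a ha h1 b (hle hb)) fun b hb hb1 => ?_
    exact (hbal a ha h1 b (hle hb) hb1).trans
      (le_iSup (fun a : {a : G // a ∈ A₀ ∧ a ≠ 1} => θ a) ⟨b, hb, hb1⟩)
  all_goals
    -- `W ∩ C(a) ≤ θ a`
    refine Setup.le_of_points (S := S) le_rfl hsq
      (fun hd => hWr (hd.trans (card_dvd_of_le inf_le_left)))
      ((le_inf (hle.trans hAW) (hA₀c ha)).trans inf_normalizer_le_normalizer_inf)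
      fun b hb hb1 => ?_
    calc W ⊓ centralizer ({a} : Set G) ⊓ centralizer ({b} : Set G)
        ≤ X ⊓ centralizer ({b} : Set G) ⊓ centralizer ({a} : Set G) :=
          le_inf (le_inf (inf_le_left.trans (inf_le_left.trans hWX)) inf_le_right)
            (inf_le_left.trans inf_le_right)
      _ ≤ θ b ⊓ centralizer ({a} : Set G) :=
          inf_le_inf_right _ (hX.inf_centralizer_le (a := b) hb hb1)
      _ ≤ θ a := hbal b (hle hb) hb1 a ha h1

end Cfsg.Agent.Signalizer
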