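import Cfsg.Agent.Signalizer.TwoPrimes
import Cfsg.Agent.Signalizer.Reduction

/-!
The solvable signalizer functor theorem.
-/

set_option autoImplicit false

namespace Cfsg.Agent.Signalizer

universe u

/-- The two-colour case does not occur. -/
theorem twoColourClosed (r : ℕ) [Fact r.Prime] : TwoColourClosed.{u} r :=
  fun _ _ _ _ hS _ _ hp hq hpq hY => hS.false_of_two_colours hp hq hpq hY

/-- A solvable signalizer functor on an elementary abelian group of rank at least three is solved. -/
theorem solved {G : Type u} [Group G] [Finite G] {r : ℕ} [Fact r.Prime] (A : Subgroup G)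
    (θ : G → Subgroup G) (hA : Cfsg.IsElementaryAbelian r A) (hA3 : r ^ 3 ≤ Nat.card A)
    (hθ : Cfsg.IsSolvableSignalizerFunctor r A θ) : H30.Signalizer.Solved r A θ :=
  solved_of_closed (twoColourClosed r) A θ hA hA3 hθ

end Cfsg.Agent.Signalizer
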