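import Cfsg.Agent.Thompson.ActionStable
import Cfsg.Agent.Cores.Constrained
import Cfsg.Agent.Cores.Fitting
import Cfsg.Agent.Coprime.SchurZassenhaus
import Cfsg.Agent.Components.PAction
import Cfsg.Agent.H40.Factor

/-!
Facts about a solvable subgroup `K`: the core `core q K`, `K = core q K ⊔ N_K(Z J(R))` for `5 ≤ q` and a
Sylow `q`-subgroup `R`, and `q'`-subgroups normalized by a Sylow `q`-subgroup lie in the core.
-/

set_option autoImplicit false
set_option linter.unusedSectionVars false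

namespace Cfsg.Agent.Signalizer

open Subgroup
open scoped commutatorElement

universe u

variable {G : Type u} [Group G] [Finite G] {q : ℕ} [hq : Fact q.Prime]

/-- `O_{q'}(K)` inside `G`. -/
def core (q : ℕ) (K : Subgroup G) : Subgroup G := (Cfsg.pPrimeCore q ↥K).map K.subtype

theorem core_le (K : Subgroup G) : core q K ≤ K := map_subtype_le _

theorem not_dvd_card_core (K : Subgroup G) : ¬ q ∣ Nat.card (core q K) := by
  rw [core, card_map_of_injective K.subtype_injective]
  exact Cores.not_dvd_card_pPrimeCore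

theorem normalizer_le_normalizer_core (K : Subgroup G) :
    normalizer (K : Set G) ≤ normalizer (core q K : Set G) :=
  Components.le_normalizer_map_characteristic _ le_rfl

theorem le_normalizer_core (K : Subgroup G) : K ≤ normalizer (core q K : Set G) :=
  le_normalizer.trans (normalizer_le_normalizer_core K)

theorem le_core {K N : Subgroup G} (hNK : N ≤ K) (hn : K ≤ normalizer (N : Set G))
    (h : ¬ q ∣ Nat.card N) : N ≤ core q K := by
  haveI : (N.subgroupOf K).Normal := normal_subgroupOf_of_le_normalizer hn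
  rw [core, ← map_subgroupOf_eq_of_le hNK]
  refine map_mono (Cores.le_pPrimeCore ?_)
  rw [Nat.card_congr (subgroupOfEquivOfLe hNK).toEquiv]
  exact ((hq.out.coprime_iff_not_dvd).mpr h).symm

theorem isPSolvable_of_solvable {K : Subgroup G} (hK : Group.IsSolvable K) :
    Cfsg.IsPSolvable q K :=
  Cores.isPSolvable_of_isSolvable

/-- `K = O_{q'}(K) N_K(Z J(R))`. -/
theorem le_core_sup_normalizer {K R : Subgroup G} (h5 : 5 ≤ q) (hK : Group.IsSolvable K)
    (hR : H40.IsSylowOf q R K) :
    K ≤ core q K ⊔ (K ⊓ normalizer (Thompson.zjay 0 R : Set G)) := by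
  let O := Cfsg.pPrimeCore q ↥K
  let π : ↥K →* ↥K ⧸ O := QuotientGroup.mk' O
  have hs : Cfsg.IsPSolvable q ↥K := isPSolvable_of_solvable hK
  have hsQ : Cfsg.IsPSolvable q (↥K ⧸ O) := Cores.isPSolvable_quotient hs O
  have hbot : Cfsg.pPrimeCore q (↥K ⧸ O) = ⊥ := Cores.pPrimeCore_quotient_pPrimeCore
  have hc := Cores.centralizer_pCore_le hsQ hbot
  have hst : Thompson.StableOnNormal q (↥K ⧸ O) := Thompson.stableOnNormal_of_sl2_free
    (by omega) (Thompson.not_hasSection_sl2_of_isPSolvable h5 hsQ)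
  have hidx : ¬ q ∣ (R.subgroupOf K).index := by
    rintro ⟨e, he⟩
    have h1 : (R.subgroupOf K).index * Nat.card (R.subgroupOf K) = Nat.card K := index_mul_card _
    rw [Nat.card_congr (subgroupOfEquivOfLe hR.1).toEquiv, hR.2.2, he] at h1
    exact Nat.pow_succ_factorization_not_dvd Nat.card_pos.ne' hq.out
      ⟨e, by rw [pow_succ]; linarith⟩
  let Rs : Sylow q ↥K := (hR.2.1.comap_subtype (K := K)).toSylow hidx
  have hRs : (Rs : Subgroup ↥K).map K.subtype = R := map_subgroupOf_eq_of_le hR.1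
  have hnorm := Thompson.zjay_zero_normal (by omega) hc hst
    (Rs.mapSurjective (QuotientGroup.mk'_surjective O))
  rw [Sylow.coe_mapSurjective] at hnorm
  set R₀ : Subgroup ↥K := (Rs : Subgroup ↥K)
  have hinj : Function.Injective (π.comp R₀.subtype) := by
    refine (injective_iff_map_eq_one _).mpr fun x hx => ?_
    have h1 : (x : ↥K) ∈ R₀ ⊓ O := ⟨x.2, (QuotientGroup.eq_one_iff _).mp hx⟩
    rw [Cores.disjoint_of_isPGroup_of_coprime Rs.isPGroup' Cores.coprime_card_pPrimeCore,
      mem_bot] at h1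
    exact Subtype.ext h1
  set Z₀ := Thompson.zjay 0 R₀
  have hmapZ : Thompson.zjay 0 (R₀.map π) = Z₀.map π := by
    have e1 := Thompson.zjay_map (e := 0) (P := (⊤ : Subgroup R₀)) (π.comp R₀.subtype) hinj
    have e2 := Thompson.zjay_map (e := 0) (P := (⊤ : Subgroup R₀)) R₀.subtype R₀.subtype_injective
    rw [← MonoidHom.range_eq_map, range_subtype] at e2
    rw [← Subgroup.map_map, ← Subgroup.map_map, ← MonoidHom.range_eq_map, range_subtype] at e1
    rw [e1, show Z₀ = _ from e2]
  rw [hmapZ] at hnorm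
  have hZR : Z₀ ≤ R₀ := Thompson.zjay_le
  have hcop : (Nat.card Z₀).Coprime (Nat.card O) := by
    obtain ⟨n, hn⟩ := IsPGroup.iff_card.mp (Rs.isPGroup'.to_le hZR)
    rw [hn]
    exact (Cores.coprime_card_pPrimeCore (p := q) (G := ↥K)).symm.pow_left n
  have hmain : ∀ k : ↥K, ∃ n ∈ O, n⁻¹ * k ∈ normalizer (Z₀ : Set ↥K) := by
    intro k
    have hle : Z₀.map (MulAut.conj k).toMonoidHom ≤ O ⊔ Z₀ := by
      rintro _ ⟨z, hz, rfl⟩
      have := hnorm.conj_mem _ (mem_map_of_mem π hz) (π k)
      rw [← map_mul, ← map_inv, ← map_mul] at this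
      have h2 : k * z * k⁻¹ ∈ (Z₀.map π).comap π := this
      rw [comap_map_eq, QuotientGroup.ker_mk', sup_comm] at h2
      exact h2
    obtain ⟨n, hn, he⟩ := Coprime.exists_conj_of_le_sup (N := O)
      (le_top.trans (normalizer_eq_top (H := O)).ge) hle (Coprime.card_map_conj _ _) hcop
      (Or.inr (by haveI := hK; infer_instance))
    refine ⟨n, hn, Coprime.mem_normalizer_of_map_conj ?_⟩
    rw [← Coprime.map_conj_map_conj, he, Coprime.map_conj_map_conj, inv_mul_cancel,
      Coprime.map_conj_one]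
  intro x hx
  obtain ⟨n, hn, hk⟩ := hmain ⟨x, hx⟩
  have hZ : Thompson.zjay 0 R = Z₀.map K.subtype := by
    rw [← hRs]; exact Thompson.zjay_map K.subtype K.subtype_injective
  have h2 : (((n⁻¹ * ⟨x, hx⟩ : ↥K)) : G) ∈ K ⊓ normalizer (Thompson.zjay 0 R : Set G) := by
    refine ⟨SetLike.coe_mem _, ?_⟩
    rw [hZ]
    refine Coprime.mem_normalizer_of_map_conj ?_
    conv_rhs => rw [← Coprime.map_conj_eq hk]
    rw [Subgroup.map_map, Subgroup.map_map]
    rfl
  have := mul_mem (mem_sup_left (T := K ⊓ normalizer (Thompson.zjay 0 R : Set G))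
    (mem_map_of_mem K.subtype hn : (n : G) ∈ core q K)) (mem_sup_right h2)
  simpa [core] using this

/-- A `q'`-subgroup normalized by a Sylow `q`-subgroup lies in the core. -/
theorem le_core_of_sylow {K R U : Subgroup G} (hK : Group.IsSolvable K) (hR : H40.IsSylowOf q R K)
    (hUK : U ≤ K) (hU : ¬ q ∣ Nat.card U) (hn : R ≤ normalizer (U : Set G)) : U ≤ core q K := by
  let O := Cfsg.pPrimeCore q ↥K
  let π : ↥K →* ↥K ⧸ O := QuotientGroup.mk' O
  have hsQ : Cfsg.IsPSolvable q (↥K ⧸ O) :=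
    Cores.isPSolvable_quotient (isPSolvable_of_solvable hK) O
  set Ub := (U.subgroupOf K).map π
  set F := Cfsg.pCore q (↥K ⧸ O)
  have hidx : ¬ q ∣ (R.subgroupOf K).index := by
    rintro ⟨e, he⟩
    have h1 : (R.subgroupOf K).index * Nat.card (R.subgroupOf K) = Nat.card K := index_mul_card _
    rw [Nat.card_congr (subgroupOfEquivOfLe hR.1).toEquiv, hR.2.2, he] at h1
    exact Nat.pow_succ_factorization_not_dvd Nat.card_pos.ne' hq.out
      ⟨e, by rw [pow_succ]; linarith⟩
  let Rs : Sylow q ↥K := (hR.2.1.comap_subtype (K := K)).toSylow hidx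
  have hFR : F ≤ (Rs : Subgroup ↥K).map π := by
    have := Cores.pCore_le_sylow (Rs.mapSurjective (QuotientGroup.mk'_surjective O))
    rwa [Sylow.coe_mapSurjective] at this
  have hUbc : (Nat.card Ub).Coprime q := by
    refine Nat.Coprime.coprime_dvd_left (card_map_dvd _ _) ?_
    rw [Nat.card_congr (subgroupOfEquivOfLe hUK).toEquiv]
    exact (hq.out.coprime_iff_not_dvd.mpr hU).symm
  have hRU : (Rs : Subgroup ↥K).map π ≤ normalizer (Ub : Set (↥K ⧸ O)) := by
    rintro _ ⟨x, hx, rfl⟩
    refine le_normalizer_map π ⟨x, ?_, rfl⟩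
    exact mem_normalizer_iff.mpr fun y => by
      have hxR : (x : G) ∈ R := hx
      exact mem_normalizer_iff.mp (hn hxR) (y : G)
  have hdisj : F ⊓ Ub = ⊥ :=
    Cores.disjoint_of_isPGroup_of_coprime Cores.pCore_isPGroup hUbc
  have hle : Ub ≤ centralizer (F : Set (↥K ⧸ O)) := by
    refine fun u hu => mem_centralizer_iff.mpr fun f hf => commutatorElement_eq_one_iff_mul_comm.mp ?_
    refine mem_bot.mp (hdisj.le ⟨?_, ?_⟩)
    · rw [commutatorElement_def, mul_assoc f u f⁻¹, mul_assoc f]
      exact F.mul_mem hf ((inferInstance : F.Normal).conj_mem _ (F.inv_mem hf) u)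
    · exact Ub.mul_mem (Coprime.conj_mem (hRU (hFR hf)) hu) (Ub.inv_mem hu)
  have hUbot : Ub = ⊥ := by
    rw [eq_bot_iff, ← hdisj]
    exact le_inf (hle.trans (Cores.centralizer_pCore_le hsQ Cores.pPrimeCore_quotient_pPrimeCore))
      le_rfl
  rw [Subgroup.map_eq_bot_iff, QuotientGroup.ker_mk'] at hUbot
  rw [← map_subgroupOf_eq_of_le hUK]
  exact map_mono hUbot

end Cfsg.Agent.Signalizer
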