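import Cfsg.Prelude.Def_PLocal
import Cfsg.Agent.H59.PSLFacts
import Cfsg.Agent.H59.PIrred
import Cfsg.Agent.H59.ThompsonMap
import Cfsg.Agent.H59.ThompsonComplement

/-!
# Pushing up `PSL₂(q)`: the centre of the Thompson subgroup

`G` has `C(O_p) ≤ O_p`, a Sylow subgroup `S` in a unique maximal subgroup and a quotient `PSL₂(q)`.
-/

set_option autoImplicit false

namespace Cfsg.Agent.Signalizer.PushUpJ

open Subgroup Cfsg.Agent
open scoped Pointwise commutatorElement

variable {G : Type*} [Group G]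

theorem isMulCommutative_sup {A B : Subgroup G} (hA : A ≤ centralizer (A : Set G))
    (hB : B ≤ centralizer (B : Set G)) (hAB : A ≤ centralizer (B : Set G)) :
    IsMulCommutative (A ⊔ B : Subgroup G) := by
  have h2 : A ⊔ B ≤ centralizer ((A ⊔ B : Subgroup G) : Set G) := by
    refine sup_le ?_ ?_
    · rw [le_centralizer_iff, sup_le_iff]
      exact ⟨hA, le_centralizer_iff.mp hAB⟩
    · rw [le_centralizer_iff, sup_le_iff]
      exact ⟨hAB, hB⟩
  exact ⟨⟨fun a b => Subtype.ext (mem_centralizer_iff.mp (h2 b.2) _ a.2)⟩⟩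

theorem normal_of_le_center {N : Subgroup G} (h : N ≤ center G) : N.Normal :=
  ⟨fun y hy g => by rwa [mem_center_iff.mp (h hy) g, mul_inv_cancel_right]⟩

theorem exists_maxAbelian_of_not_le [Finite G] {T P : Subgroup G}
    (h : ¬ Cfsg.thompsonSubgroupAOf T ≤ P) :
    ∃ A : Subgroup G, A ≤ T ∧ IsMulCommutative A ∧
      (∀ B : Subgroup G, B ≤ T → IsMulCommutative B → Nat.card B ≤ Nat.card A) ∧ ¬ A ≤ P := by
  by_contra hcon
  push Not at hcon
  refine h (map_le_iff_le_comap.mpr (sSup_le fun A hA => map_le_iff_le_comap.mp ?_))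
  refine hcon _ (map_subtype_le A) (H59.isMulCommutative_map _ hA.1) fun B hBS hB => ?_
  rw [card_map_of_injective T.subtype_injective,
    ← Nat.card_congr (subgroupOfEquivOfLe hBS).toEquiv]
  exact hA.2 _ ⟨⟨fun x y => Subtype.ext (Subtype.ext (congrArg (fun z : B => (z : G))
    (hB.is_comm.comm (⟨_, x.2⟩ : B) ⟨_, y.2⟩)))⟩⟩

variable [Finite G] {p : ℕ} [Fact p.Prime]

theorem card_sup_mul_card_inf_of_commute {V X Y : Subgroup G} (hV : V ≤ centralizer (V : Set G))
    (hX : X ≤ V) (hY : Y ≤ V) :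
    Nat.card ↥(X ⊔ Y) * Nat.card ↥(X ⊓ Y) = Nat.card X * Nat.card Y := by
  have hYn : (Y.subgroupOf V).Normal := ⟨fun y hy v => by
    have h : v * y * v⁻¹ = y := Subtype.ext (by
      simp only [Subgroup.coe_mul, InvMemClass.coe_inv]
      rw [← hV v.2 _ y.2, mul_inv_cancel_right])
    rwa [h]⟩
  have h := Cores.card_sup_mul_card_inf (X.subgroupOf V) (Y.subgroupOf V)
  rw [← subgroupOf_sup hX hY, show X.subgroupOf V ⊓ Y.subgroupOf V = (X ⊓ Y).subgroupOf V from rfl, Nat.card_congr (subgroupOfEquivOfLe hX).toEquiv,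
    Nat.card_congr (subgroupOfEquivOfLe hY).toEquiv,
    Nat.card_congr (subgroupOfEquivOfLe (sup_le hX hY)).toEquiv,
    Nat.card_congr (subgroupOfEquivOfLe (inf_le_left.trans hX : X ⊓ Y ≤ V)).toEquiv] at h
  exact h

theorem exists_conj_eq (S : Sylow p G) {M : Subgroup G} (hSM : (S : Subgroup G) ≤ M) (g : G)
    (h : (S : Subgroup G).map (MulAut.conj g).toMonoidHom ≤ M) :
    ∃ m : G, m ∈ M ∧
      (S : Subgroup G).map (MulAut.conj (m⁻¹ * g)).toMonoidHom = (S : Subgroup G) := by
  obtain ⟨m, hm⟩ := MulAction.exists_smul_eq M (S.subtype hSM) ((g • S).subtype h)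
  rw [Sylow.smul_subtype] at hm
  have h1 := Sylow.subtype_injective hm
  refine ⟨m, m.2, ?_⟩
  have h2 : ((m : G)⁻¹ * g) • S = S := by
    rw [mul_smul, ← h1]; exact inv_smul_smul _ _
  exact congrArg (fun T : Sylow p G => (T : Subgroup G)) h2

/-- Conjugates of `p`-elements fix a chain `1 ≤ E ≤ V` with `E` central and `|V/E| = p`. -/
theorem pResidual_le_centralizer_of_chain {V E : Subgroup G} [E.Normal] (hVn : V.Normal) (hEV : E ≤ V)
    (hE : E ≤ center G) (hVp : IsPGroup p V) (hidx : E.relIndex V = p) {A : Subgroup G} (hA : IsPGroup p A)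
    (hR : Cfsg.pResidual p G ≤ normalClosure (A : Set G)) :
    Cfsg.pResidual p G ≤ centralizer (V : Set G) := by
  let σ := QuotientGroup.mk' E
  set Vb := V.map σ with hVb
  have hVbn : Vb.Normal := hVn.map σ (QuotientGroup.mk'_surjective E)
  have hcard : Nat.card Vb = p := by
    rw [← hidx, relIndex]
    have hker : E.subgroupOf V = (σ.comp V.subtype).ker := by
      ext ⟨y, hy⟩
      exact (QuotientGroup.eq_one_iff (N := E) y).symm
    rw [hker, index_ker, MonoidHom.range_comp, range_subtype]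
  have hAV : A ≤ (centralizer (Vb : Set (G ⧸ E))).comap σ := by
    intro a ha
    have hne : Vb ≠ ⊥ := fun h => by
      rw [h, card_bot] at hcard; exact (Fact.out : p.Prime).one_lt.ne hcard
    have h1 := H60.inf_centralizer_ne_bot (hA.map σ) (hVp.map σ)
      (fun x _ => le_normalizer_of_normal (mem_top x)) hne
    have : Fact (Nat.card Vb).Prime := ⟨hcard ▸ (Fact.out : p.Prime)⟩
    rcases ((Vb ⊓ centralizer ((A.map σ : Subgroup (G ⧸ E)) : Set (G ⧸ E))).subgroupOf Vb).eq_bot_or_eq_top_of_prime_card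
      with h | h
    · exact absurd (by
        rw [← inf_of_le_left (inf_le_left : Vb ⊓ centralizer _ ≤ Vb)]
        exact disjoint_iff.mp (subgroupOf_eq_bot.mp h)) h1
    · intro v hv
      exact (((subgroupOf_eq_top.mp h) hv).2 (σ a) (mem_map_of_mem σ ha)).symm
  have hL : normalClosure (A : Set G) ≤ (centralizer (Vb : Set (G ⧸ E))).comap σ :=
    normalClosure_le_normal hAV
  refine Fusion.pResidual_le.mpr fun x hx v hv => ?_
  have h1 : σ v * σ x = σ x * σ v := hL (hR (Fusion.mem_pResidual hx)) _ (mem_map_of_mem σ hv)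
  set w := x * v * x⁻¹ * v⁻¹ with hw
  have hwE : w ∈ E := by
    refine (QuotientGroup.eq_one_iff _).mp ?_
    change σ (x * v * x⁻¹ * v⁻¹) = 1
    rw [map_mul, map_mul, map_mul, map_inv, map_inv, ← h1]
    group
  have hpow : ∀ k : ℕ, x ^ k * v * (x ^ k)⁻¹ = w ^ k * v := by
    intro k
    induction k with
    | zero => simp
    | succ k ih =>
      have hc : x * w ^ k = w ^ k * x := mem_center_iff.mp (pow_mem (hE hwE) k) x
      calc x ^ (k + 1) * v * (x ^ (k + 1))⁻¹ = x * (x ^ k * v * (x ^ k)⁻¹) * x⁻¹ := by rw [pow_succ']; group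
        _ = x * (w ^ k * v) * x⁻¹ := by rw [ih]
        _ = x * w ^ k * (v * x⁻¹) := by group
        _ = w ^ k * x * (v * x⁻¹) := by rw [hc]
        _ = _ := by rw [pow_succ, hw]; group
  have h2 := hpow (orderOf x)
  rw [pow_orderOf_eq_one, one_mul, inv_one, mul_one] at h2
  have h3 : w ^ orderOf x = 1 := mul_eq_right.mp h2.symm
  obtain ⟨k, hk⟩ := hVp ⟨w, hEV hwE⟩
  have h4 : w = 1 := orderOf_eq_one_iff.mp (Nat.eq_one_of_dvd_coprimes ((hx.pow_right k))
    (orderOf_dvd_of_pow_eq_one h3) (orderOf_dvd_of_pow_eq_one (congrArg Subtype.val hk)))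
  have h5 := hpow 1
  rw [h4] at h5
  simp only [pow_one, one_mul] at h5
  exact (mul_inv_eq_iff_eq_mul.mp h5).symm

variable {F : Type} [Field F] [Fintype F]

/-- Either `Z(S)` is central, or `C_S(Z(J(S)))` is normal, or `[Z(J(S)),S] ∩ Z(S)` is central and
`C_S(Z(J(S)))` is a Sylow subgroup of its normal closure. -/
theorem main (S : Sylow p G)
    (hE₁ : centralizer (Cfsg.pCore p G : Set G) ≤ Cfsg.pCore p G)
    (hE₂ : ∃! M : Subgroup G, IsCoatom M ∧ (S : Subgroup G) ≤ M) (K : Subgroup G) [K.Normal]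
    {n : ℕ} (hF : Fintype.card F = p ^ n)
    (e : G ⧸ K ≃* Matrix.ProjectiveSpecialLinearGroup (Fin 2) F) :
    (S : Subgroup G) ⊓ centralizer ((S : Subgroup G) : Set G) ≤ center G ∨
    ((S : Subgroup G) ⊓ centralizer (Cfsg.centerThompsonAOf (S : Subgroup G) : Set G)).Normal ∨
    (⁅Cfsg.centerThompsonAOf (S : Subgroup G), (S : Subgroup G)⁆ ⊓
        ((S : Subgroup G) ⊓ centralizer ((S : Subgroup G) : Set G)) ≤ center G ∧
      (S : Subgroup G) ⊓ normalClosure
        (((S : Subgroup G) ⊓ centralizer (Cfsg.centerThompsonAOf (S : Subgroup G) : Set G)) : Set G) ≤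
        centralizer (Cfsg.centerThompsonAOf (S : Subgroup G) : Set G)) := by
  classical
  obtain ⟨M, ⟨hM, hSM⟩, huniq⟩ := hE₂
  obtain ⟨hchar, hn0⟩ := H59.charP_of_card_eq hF
  set P := Cfsg.pCore p G with hP
  have hPn : P.Normal := inferInstance
  have hPS : P ≤ (S : Subgroup G) := Cores.pCore_le_sylow S
  set R := Cfsg.pResidual p G with hR
  have hRS : (S : Subgroup G) ⊔ R = ⊤ := Fusion.sylow_sup_pResidual S
  -- a subgroup containing `S` and not in `M` is everything
  have htop : ∀ X : Subgroup G, (S : Subgroup G) ≤ X → ¬ X ≤ M → X = ⊤ := fun X hSX hXM => by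
    by_contra hne
    obtain ⟨M', hM', hle⟩ := (eq_top_or_exists_le_coatom X).resolve_left hne
    exact hXM (huniq M' ⟨hM', hSX.trans hle⟩ ▸ hle)
  -- normal subgroups not covering
  have hN : ∀ N : Subgroup G, N.Normal → ¬ R ≤ N → N ≤ M ∧ (S : Subgroup G) ⊓ N ≤ P := by
    intro N hNn hRN
    have hNM : N ≤ M := by
      by_contra hNM
      exact hRN (H59.pResidual_le_of_sylow_sup S
        (htop _ le_sup_left fun h => hNM (le_sup_right.trans h)))
    refine ⟨hNM, ?_⟩
    obtain ⟨Q, hQ⟩ := H59.exists_sylow_eq_inf S (C := N) le_normalizer_of_normal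
    have hfr := Sylow.normalizer_sup_eq_top Q
    rw [hQ, subgroupOf_map_subtype, inf_of_le_left inf_le_right] at hfr
    have hSn : (S : Subgroup G) ≤ normalizer (((S : Subgroup G) ⊓ N : Subgroup G) : Set G) :=
      fun t ht => H59.mem_normalizer_of_forall fun u hu =>
        ⟨(mul_mem (mul_mem ht hu.1) (inv_mem ht) : t * u * t⁻¹ ∈ (S : Subgroup G)), hNn.conj_mem u hu.2 t⟩
    have hntop : normalizer (((S : Subgroup G) ⊓ N : Subgroup G) : Set G) = ⊤ :=
      htop _ hSn fun hle => hM.1 (top_le_iff.mp (hfr ▸ sup_le hle hNM))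
    have := normalizer_eq_top_iff.mp hntop
    exact Cores.le_pCore (S.isPGroup'.to_le inf_le_left)
  have hcentral : ∀ (L : Subgroup G), (S : Subgroup G) ⊔ L = ⊤ → ∀ x : G,
      x ∈ centralizer ((S : Subgroup G) : Set G) → x ∈ centralizer (L : Set G) → x ∈ center G := by
    intro L hL x hxS hxL
    have : (⊤ : Subgroup G) ≤ centralizer ({x} : Set G) := hL ▸ sup_le
      (fun s hs => by rintro _ rfl; exact (hxS s hs).symm)
      (fun s hs => by rintro _ rfl; exact (hxL s hs).symm)
    exact mem_center_iff.mpr fun g => (this (mem_top g) x rfl).symm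
  set Z := (S : Subgroup G) ⊓ centralizer ((S : Subgroup G) : Set G) with hZ
  set J := Cfsg.thompsonSubgroupAOf (S : Subgroup G) with hJ
  set D := Cfsg.centerThompsonAOf (S : Subgroup G) with hD
  have hJS : J ≤ (S : Subgroup G) := H59.thompsonAOf_le _
  have hDS : D ≤ (S : Subgroup G) := inf_le_left.trans hJS
  by_cases hJP : J ≤ P
  · have hJn : ∀ g : G, g ∈ normalizer (J : Set G) := fun g => by
      have h1 := H59.thompsonAOf_eq_of_le hPS hJP
      rw [hJ, ← h1]
      exact H59.normalizer_le_normalizer_thompsonAOf P (le_normalizer_of_normal (mem_top g))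
    set C := centralizer (D : Set G) with hC
    have hCn : C.Normal := by
      have : D.Normal := normalizer_eq_top_iff.mp (top_le_iff.mp fun g _ =>
        H59.normalizer_le_normalizer_center J (hJn g))
      exact normal_centralizer
    by_cases hRC : R ≤ C
    · left
      intro x hx
      suffices hxD : x ∈ D from hcentral R hRS x hx.2 (le_centralizer_iff.mp hRC hxD)
      refine ⟨?_, centralizer_le hJS hx.2⟩
      obtain ⟨A, hA1, hA2⟩ := (Set.toFinite {B : Subgroup G | B ≤ (S : Subgroup G) ∧ IsMulCommutative B})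
        |>.exists_maximalFor (fun B : Subgroup G => Nat.card B) _
          ⟨⊥, bot_le, (inferInstance : IsMulCommutative (⊥ : Subgroup G))⟩
      refine H59.le_thompsonAOf (sup_le hA1.1 (zpowers_le.mpr hx.1))
        (isMulCommutative_sup (H59.le_centralizer_self hA1.2) (H59.le_centralizer_self inferInstance)
          (le_centralizer_iff.mp (zpowers_le.mpr (centralizer_le hA1.1 hx.2))))
        (fun B hB hBc => ?_) (mem_sup_right (S := A) (mem_zpowers x))
      refine le_trans ?_ (Subgroup.card_le_of_le le_sup_left)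
      exact (le_total (Nat.card B) (Nat.card A)).elim id fun hle => hA2 ⟨hB, hBc⟩ hle
    · right; left
      have h2 : (S : Subgroup G) ⊓ C = P ⊓ C :=
        le_antisymm (le_inf (hN C hCn hRC).2 inf_le_right) (inf_le_inf_right _ hPS)
      rw [h2]
      exact ⟨fun v hv g => ⟨hPn.conj_mem v hv.1 g, hCn.conj_mem v hv.2 g⟩⟩
  set V := P ⊓ centralizer (P : Set G) with hV
  have hVn : V.Normal := ⟨fun v hv g => ⟨hPn.conj_mem v hv.1 g,
    (normal_centralizer (H := P)).conj_mem v hv.2 g⟩⟩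
  have hVV : V ≤ centralizer (V : Set G) := fun a ha b hb => ha.2 b hb.1
  have hVp : IsPGroup p V := (Cores.pCore_isPGroup (p := p) (G := G)).to_le inf_le_left
  have hZV : Z ≤ V := fun z hz => by
    have h1 : z ∈ centralizer (P : Set G) := centralizer_le hPS hz.2
    exact ⟨hE₁ h1, h1⟩
  have hCVn : (centralizer (V : Set G)).Normal := normal_centralizer
  by_cases hRV : R ≤ centralizer (V : Set G)
  · exact Or.inl fun z hz => hcentral R hRS z hz.2 (le_centralizer_iff.mp hRV (hZV hz))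
  obtain ⟨hCVM, hSCV⟩ := hN _ hCVn hRV
  -- the quotient
  let f₀ : G →* Matrix.ProjectiveSpecialLinearGroup (Fin 2) F :=
    e.toMonoidHom.comp (QuotientGroup.mk' K)
  have hf₀ : Function.Surjective f₀ := e.surjective.comp (QuotientGroup.mk'_surjective K)
  have hKer : ∀ x : G, f₀ x = 1 ↔ x ∈ K := fun x => by
    refine ⟨fun h => (QuotientGroup.eq_one_iff x).mp (e.injective (h.trans (map_one e).symm)),
      fun h => ?_⟩
    change e (QuotientGroup.mk' K x) = 1
    rw [show QuotientGroup.mk' K x = 1 from (QuotientGroup.eq_one_iff x).mpr h, map_one]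
  have hRK : ¬ R ≤ K := by
    intro hRK
    refine H59.not_isPGroup_psl (F := F) (p := p) (S.isPGroup'.of_surjective
      (f₀.comp (S : Subgroup G).subtype) fun y => ?_)
    obtain ⟨x, rfl⟩ := hf₀ y
    have hx : x ∈ (((S : Subgroup G) ⊔ R : Subgroup G) : Set G) := hRS ▸ mem_top x
    rw [mul_normal] at hx
    obtain ⟨s, hs, r, hr, rfl⟩ := hx
    refine ⟨⟨s, hs⟩, ?_⟩
    change f₀ s = f₀ (s * r)
    rw [map_mul, (hKer r).mpr (hRK hr), mul_one]
  have hPK : P ≤ K := fun x hx => by
    refine (hKer x).mp (mem_bot.mp ?_)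
    rw [← H59.pCore_psl (F := F) (p := p)]
    exact Cores.pCore_map_le hf₀ (mem_map_of_mem f₀ hx)
  obtain ⟨hKM, hSK⟩ := hN K inferInstance hRK
  have hq : 2 ≤ n → ∀ x : G, x ∈ centralizer (V : Set G) → f₀ x = 1 := by
    intro hn2 x hx
    have h4 : 4 ≤ Nat.card F := by
      rw [Nat.card_eq_fintype_card, hF]
      calc 4 = 2 ^ 2 := by norm_num
        _ ≤ p ^ 2 := Nat.pow_le_pow_left (Fact.out : p.Prime).two_le 2
        _ ≤ p ^ n := Nat.pow_le_pow_right (Fact.out : p.Prime).pos hn2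
    have := Linear.isSimpleGroup_PSL_fin (F := F) (n := 2) le_rfl fun _ => h4
    rcases (hCVn.map f₀ hf₀).eq_bot_or_eq_top with h0 | h0
    · exact mem_bot.mp (h0 ▸ mem_map_of_mem f₀ hx)
    · exfalso
      refine hM.1 (eq_top_iff.mpr fun g _ => ?_)
      obtain ⟨c, hc, hcg⟩ := (h0 ▸ mem_top (f₀ g) : f₀ g ∈ (centralizer (V : Set G)).map f₀)
      have : c⁻¹ * g ∈ K := (hKer _).mp (by rw [map_mul, map_inv, hcg, inv_mul_cancel])
      simpa using mul_mem (hCVM hc) (hKM this)
  -- an offender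
  obtain ⟨A, hAS, hAc, hAmax, hAP⟩ := exists_maxAbelian_of_not_le hJP
  obtain ⟨a, haA, haP⟩ := SetLike.not_le_iff_exists.mp hAP
  have haK : a ∉ K := fun h => haP (hSK ⟨hAS haA, h⟩)
  set C := V ⊓ A with hC
  have hCC : C ≤ V ⊓ centralizer ({a} : Set G) := fun y hy => ⟨hy.1, by
    rintro _ rfl; exact H59.le_centralizer_self hAc hy.2 _ haA⟩
  have hbound : p ^ n ≤ C.relIndex V := by
    refine le_trans ?_ (Nat.le_of_dvd (Nat.pos_of_ne_zero index_ne_zero_of_finite)
      (relIndex_dvd_of_le_left V hCC))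
    refine (H59.sl2_bound' (V := V) (H := (⊤ : Subgroup G)) hVp (fun g _ => le_normalizer_of_normal (mem_top g))
      hF (f₀.comp (⊤ : Subgroup G).subtype) (hf₀.comp (fun g => ⟨⟨g, mem_top g⟩, rfl⟩))
      (fun hn2 h hh => hq hn2 (h : G) hh) ⟨a, mem_top a⟩ ?_ (fun h => haK ((hKer a).mp h))
      (fun h => haP (hSCV ⟨hAS haA, h⟩))).1
    obtain ⟨k, hk⟩ := S.isPGroup' ⟨a, hAS haA⟩
    exact ⟨k, Subtype.ext (by simpa using congrArg Subtype.val hk)⟩
  have hidxA : (A ⊓ P).relIndex A ≤ p ^ n := by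
    rw [← hF]
    refine le_trans (le_of_eq ?_) (H59.card_le_of_pGroup_psl (p := p) ((S.isPGroup'.to_le hAS).map f₀))
    have hker : (A ⊓ P).subgroupOf A = (f₀.comp A.subtype).ker := by
      ext ⟨y, hy⟩
      exact ⟨fun h => (hKer y).mpr (hPK h.2), fun h => ⟨hy, hSK ⟨hAS hy, (hKer y).mp h⟩⟩⟩
    rw [relIndex, hker, index_ker, MonoidHom.range_comp, range_subtype]
  have hidx : ∀ {X Y : Subgroup G}, X ≤ Y → Nat.card X * X.relIndex Y = Nat.card Y := by
    intro X Y h
    have := (X.subgroupOf Y).card_mul_index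
    rwa [Nat.card_congr (subgroupOfEquivOfLe h).toEquiv] at this
  set A' := (A ⊓ P) ⊔ V with hA'
  have hA'c : IsMulCommutative A' := isMulCommutative_sup
    (inf_le_left.trans ((H59.le_centralizer_self hAc).trans (centralizer_le inf_le_left))) hVV
    fun y hy v hv => (hv.2 y hy.2).symm
  have hA'P : A' ≤ P := sup_le inf_le_right inf_le_left
  have hA'le := hAmax A' (hA'P.trans hPS) hA'c
  have h5 : Nat.card A' = Nat.card ↥(A ⊓ P) * C.relIndex V := by
    have h3 := Cores.card_sup_mul_card_inf (A ⊓ P) V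
    rw [show (A ⊓ P) ⊓ V = C by
      rw [inf_assoc, inf_of_le_right (inf_le_left : V ≤ P), inf_comm],
      ← hidx (inf_le_left : C ≤ V), mul_comm (Nat.card C) (C.relIndex V), ← mul_assoc] at h3
    exact Nat.eq_of_mul_eq_mul_right Nat.card_pos h3
  have e2 := hidx (inf_le_left : A ⊓ P ≤ A)
  have hCV : C.relIndex V ≤ (A ⊓ P).relIndex A :=
    Nat.le_of_mul_le_mul_left (by rw [← h5, e2]; exact hA'le) Nat.card_pos
  have hCeq : C.relIndex V = p ^ n := le_antisymm (hCV.trans hidxA) hbound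
  have hA'card : Nat.card A' = Nat.card A := by
    rw [h5, ← e2, hCeq, le_antisymm hidxA (hbound.trans hCV)]
  have hAeq : (A ⊓ P).relIndex A = p ^ n := le_antisymm hidxA (hbound.trans hCV)
  -- `S = AP`
  have hSAP : (S : Subgroup G) = A ⊔ P := by
    refine (eq_of_le_of_card_ge (sup_le hAS hPS) ?_).symm
    have h3 := Cores.card_sup_mul_card_inf A P
    rw [← e2, hAeq, mul_comm (Nat.card ↥(A ⊓ P)), mul_right_comm] at h3
    rw [Nat.eq_of_mul_eq_mul_right Nat.card_pos h3, ← hidx hPS, mul_comm]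
    refine Nat.mul_le_mul_right _ ?_
    rw [← hF]
    refine le_trans (le_of_eq ?_) (H59.card_le_of_pGroup_psl (p := p) (S.isPGroup'.map f₀))
    have hker : P.subgroupOf (S : Subgroup G) = (f₀.comp (S : Subgroup G).subtype).ker := by
      ext ⟨y, hy⟩
      exact ⟨fun h => (hKer y).mpr (hPK h), fun h => hSK ⟨hy, (hKer y).mp h⟩⟩
    rw [relIndex, hker, index_ker, MonoidHom.range_comp, range_subtype]
  -- `Y`: the intersection of the large abelian subgroups of `P`
  set J₀ : Set (Subgroup G) :=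
    {B | B ≤ P ∧ IsMulCommutative B ∧ Nat.card B = Nat.card A} with hJ₀
  have hA'J₀ : A' ∈ J₀ := ⟨hA'P, hA'c, hA'card⟩
  have habs : ∀ B ∈ J₀, ∀ X : Subgroup G, X ≤ (S : Subgroup G) → X ≤ centralizer (X : Set G) →
      B ≤ centralizer (X : Set G) → X ≤ B := by
    intro B hB X hXS hX hBX
    have h1 := hAmax _ (sup_le (hB.1.trans hPS) hXS)
      (isMulCommutative_sup (H59.le_centralizer_self hB.2.1) hX hBX)
    have h2 := eq_of_le_of_card_ge (le_sup_left : B ≤ B ⊔ X) (h1.trans hB.2.2.ge)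
    exact le_sup_right.trans h2.ge
  have hJmem : ∀ B : Subgroup G, B ≤ (S : Subgroup G) → IsMulCommutative B →
      Nat.card B = Nat.card A → B ≤ J := fun B hB hBc hBA =>
    H59.le_thompsonAOf hB hBc fun B' hB' hB'c => (hAmax B' hB' hB'c).trans hBA.ge
  have hDD : D ≤ centralizer (D : Set G) := inf_le_right.trans (centralizer_le inf_le_left)
  have hAD : A ≤ centralizer (D : Set G) :=
    (hJmem A hAS hAc rfl).trans (le_centralizer_iff.mp inf_le_right)
  set Y := sInf J₀ with hY
  have hVY : V ≤ Y := le_sInf fun B hB => habs B hB V (inf_le_left.trans hPS) hVV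
    fun b hb v hv => (hv.2 b (hB.1 hb)).symm
  have hDY : D ≤ Y := le_sInf fun B hB => habs B hB D hDS hDD
    ((hJmem B (hB.1.trans hPS) hB.2.1 hB.2.2).trans (le_centralizer_iff.mp inf_le_right))
  have hYconj : ∀ (g : G), ∀ y ∈ Y, g * y * g⁻¹ ∈ Y := by
    intro g y hy
    refine mem_sInf.mpr fun B hB => ?_
    have h1 : B.map (MulAut.conj g⁻¹).toMonoidHom ∈ J₀ := by
      refine ⟨?_, H59.isMulCommutative_map _ hB.2.1,
        (card_map_of_injective (MulEquiv.injective _)).trans hB.2.2⟩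
      rintro _ ⟨b, hb, rfl⟩
      exact hPn.conj_mem b (hB.1 hb) g⁻¹
    obtain ⟨b, hb, hby⟩ := mem_sInf.mp hy _ h1
    have : b = g * y * g⁻¹ := by
      have hby' : g⁻¹ * b * g = y := by simpa using hby
      rw [← hby']; group
    exact this ▸ hb
  have hYdec : ∀ y ∈ Y, ∃ u ∈ A, ∃ v ∈ V, y = u * v := by
    intro y hy
    have h1 : y ∈ ((A ⊓ P ⊔ V : Subgroup G) : Set G) := mem_sInf.mp hy A' hA'J₀
    rw [mul_normal] at h1
    obtain ⟨u, hu, v, hv, rfl⟩ := h1
    exact ⟨u, hu.1, v, hv, rfl⟩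
  -- `L` acts trivially on `Y / V`
  let π := QuotientGroup.mk' V
  set L := normalClosure (A : Set G) with hL
  have hAL : A ≤ L := le_normalClosure
  have hYL : ∀ y ∈ Y, ∀ l ∈ L, l * y * l⁻¹ * y⁻¹ ∈ V := by
    intro y hy l hl
    have h1 : L ≤ (centralizer (π '' (Y : Set G))).comap π := by
      have : ((centralizer (π '' (Y : Set G))).comap π).Normal :=
        ⟨fun x hx g => by
          rintro _ ⟨y', hy', rfl⟩
          have h1 := hx _ ⟨_, hYconj g⁻¹ y' hy', rfl⟩
          have h2 := (show Commute _ _ from h1).map (MulAut.conj (π g)).toMonoidHom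
          simpa [mul_assoc] using h2.eq⟩
      refine normalClosure_le_normal (N := (centralizer (π '' (Y : Set G))).comap π) ?_
      intro a' ha' 
      rintro _ ⟨y', hy', rfl⟩
      obtain ⟨u, hu, v, hv, rfl⟩ := hYdec y' hy'
      rw [map_mul π u v, show π v = 1 from (QuotientGroup.eq_one_iff v).mpr hv, mul_one, ← map_mul,
        ← map_mul, H59.le_centralizer_self hAc ha' u hu]
    have h2 := h1 hl _ ⟨y, hy, rfl⟩
    refine (QuotientGroup.eq_one_iff _).mp ?_
    change π (l * y * l⁻¹ * y⁻¹) = 1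
    rw [map_mul, map_mul, map_mul, map_inv, map_inv, ← h2]
    group
  have hSL : (S : Subgroup G) ⊔ L = ⊤ := by
    refine top_le_iff.mp (hRS ▸ sup_le le_sup_left (le_trans ?_ le_sup_right))
    by_contra hne
    exact hAP fun x hx => (hN L normalClosure_normal hne).2 ⟨hAS hx, hAL hx⟩
  -- `D V` is normal, and `A` centralises `P` modulo its centraliser
  set D' := D ⊔ V with hD'
  have hD'n : D'.Normal := by
    refine normalizer_eq_top_iff.mp (top_le_iff.mp (hSL ▸ sup_le ?_ ?_))
    · intro s hs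
      have h1 : s ∈ normalizer (J : Set G) :=
        H59.normalizer_le_normalizer_thompsonAOf _ (Subgroup.le_normalizer hs)
      have h2 : s ∈ normalizer (D : Set G) := H59.normalizer_le_normalizer_center J h1
      rw [mem_normalizer_iff_map_conj_eq, hD', Subgroup.map_sup,
        mem_normalizer_iff_map_conj_eq.mp h2,
        mem_normalizer_iff_map_conj_eq.mp (le_normalizer_of_normal (mem_top s))]
    · intro l hl
      refine H59.mem_normalizer_of_forall fun u hu => ?_
      have : D' ≤ D'.comap (MulAut.conj l).toMonoidHom := sup_le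
        (fun d hd => by
          have h1 := hYL d (hDY hd) l hl
          have h2 : l * d * l⁻¹ = (l * d * l⁻¹ * d⁻¹) * d := by group
          change l * d * l⁻¹ ∈ D'
          rw [h2]
          exact mul_mem (mem_sup_right h1) (mem_sup_left hd))
        (fun v hv => mem_sup_right (hVn.conj_mem v hv l))
      exact this hu
  set K₂ := P ⊓ centralizer (D' : Set G) with hK₂
  have hK₂n : K₂.Normal := ⟨fun x hx g => ⟨hPn.conj_mem x hx.1 g,
    (normal_centralizer (H := D')).conj_mem x hx.2 g⟩⟩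
  have hK₂mem : ∀ {x : G}, x ∈ P → x ∈ centralizer (D : Set G) → x ∈ K₂ := fun {x} hx hxD =>
    ⟨hx, le_centralizer_iff.mp (sup_le (le_centralizer_iff.mp (zpowers_le.mpr hxD))
      (le_centralizer_iff.mp (zpowers_le.mpr (fun v hv => (hv.2 x hx).symm)))) (mem_zpowers x)⟩
  have hconjA : ∀ x ∈ (S : Subgroup G), ∀ a' ∈ A, x * a' * x⁻¹ ∈ centralizer (D : Set G) := by
    intro x hx a' ha'
    refine le_centralizer_iff.mp (inf_le_right (a := J)) ?_
    refine hJmem (A.map (MulAut.conj x).toMonoidHom) ?_ (H59.isMulCommutative_map _ hAc)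
      (card_map_of_injective (MulEquiv.injective _)) ⟨a', ha', rfl⟩
    rintro _ ⟨z, hz, rfl⟩
    exact mul_mem (mul_mem hx (hAS hz)) (inv_mem hx)
  have hPA : ∀ x ∈ P, ∀ a' ∈ A, x * a' * x⁻¹ * a'⁻¹ ∈ K₂ := by
    intro x hx a' ha'
    refine hK₂mem ?_ (mul_mem (hconjA x (hPS hx) a' ha') (inv_mem (hAD ha')))
    have : x * a' * x⁻¹ * a'⁻¹ = x * (a' * x⁻¹ * a'⁻¹) := by group
    rw [this]
    exact mul_mem hx (hPn.conj_mem _ (inv_mem hx) a')
  have hPL : ∀ x ∈ P, ∀ l ∈ L, l * x * l⁻¹ * x⁻¹ ∈ K₂ := by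
    intro x hx l hl
    let σ := QuotientGroup.mk' K₂
    have h1 : L ≤ (centralizer (σ '' (P : Set G))).comap σ := by
      have : ((centralizer (σ '' (P : Set G))).comap σ).Normal :=
        ⟨fun z hz g => by
          rintro _ ⟨y', hy', rfl⟩
          have h1 := hz _ ⟨_, hPn.conj_mem y' hy' g⁻¹, rfl⟩
          have h2 := (show Commute _ _ from h1).map (MulAut.conj (σ g)).toMonoidHom
          simpa [mul_assoc] using h2.eq⟩
      refine normalClosure_le_normal (N := (centralizer (σ '' (P : Set G))).comap σ) ?_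
      intro a' ha'
      rintro _ ⟨x', hx', rfl⟩
      have h2 : σ (x' * a' * x'⁻¹ * a'⁻¹) = 1 := (QuotientGroup.eq_one_iff _).mpr (hPA x' hx' a' ha')
      rwa [map_mul, map_mul, map_mul, map_inv, map_inv, mul_inv_eq_one, mul_inv_eq_iff_eq_mul] at h2
    have h2 := h1 hl _ ⟨x, hx, rfl⟩
    refine (QuotientGroup.eq_one_iff _).mp ?_
    change σ (l * x * l⁻¹ * x⁻¹) = 1
    rw [map_mul, map_mul, map_mul, map_inv, map_inv, ← h2]
    group
  -- `L` centralises `[D, P]`
  have hfix : ∀ d ∈ D, ∀ x ∈ P, ⁅d, x⁆ ∈ centralizer (L : Set G) := by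
    intro d hd x hx l hl
    set v := l * d * l⁻¹ * d⁻¹ with hv
    set k := l * x * l⁻¹ * x⁻¹ with hk
    have hvV : v ∈ V := hYL d (hDY hd) l hl
    have hkK : k ∈ K₂ := hPL x hx l hl
    have hcV : ∀ z ∈ P, Commute v z := fun z hz => (hvV.2 z hz).symm
    have hkd : Commute k d := (hkK.2 d (mem_sup_left hd)).symm
    have hdP : d ∈ P := hA'P (mem_sInf.mp (hDY hd) A' hA'J₀)
    have hcomm : ⁅d, x⁆ ∈ D' := by
      rw [commutatorElement_def, show d * x * d⁻¹ * x⁻¹ = d * (x * d⁻¹ * x⁻¹) by group]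
      exact mul_mem (mem_sup_left hd) (hD'n.conj_mem _ (inv_mem (mem_sup_left hd)) x)
    have h1 : l * ⁅d, x⁆ * l⁻¹ = ⁅v * d, k * x⁆ := by
      rw [hv, hk, commutatorElement_def, commutatorElement_def]; group
    have h2 : ⁅v * d, k * x⁆ = ⁅d, k * x⁆ := by
      have hy : Commute v ((k * x) * d⁻¹ * (k * x)⁻¹ * d) :=
        hcV _ (mul_mem (hPn.conj_mem _ (inv_mem hdP) _) hdP)
      rw [commutatorElement_def, commutatorElement_def]
      have hz : Commute v (d * (k * x) * d⁻¹) := hcV _ (mul_mem (mul_mem hdP (mul_mem hkK.1 hx)) (inv_mem hdP))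
      calc v * d * (k * x) * (v * d)⁻¹ * (k * x)⁻¹
          = v * (d * (k * x) * d⁻¹) * v⁻¹ * (k * x)⁻¹ := by group
        _ = _ := by rw [hz.eq]; group
    have h3 : ⁅d, k * x⁆ = ⁅d, x⁆ := by
      rw [commutatorElement_def, commutatorElement_def]
      calc d * (k * x) * d⁻¹ * (k * x)⁻¹ = d * k * (x * d⁻¹ * x⁻¹) * k⁻¹ := by group
        _ = k * d * (x * d⁻¹ * x⁻¹) * k⁻¹ := by rw [hkd.eq]
        _ = k * ⁅d, x⁆ * k⁻¹ := by rw [commutatorElement_def]; group
        _ = _ := by
          rw [← show ⁅d, x⁆ * k = k * ⁅d, x⁆ from hkK.2 _ hcomm, mul_inv_cancel_right,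
            commutatorElement_def]
    rw [h2, h3] at h1
    exact mul_inv_eq_iff_eq_mul.mp h1
  have hDSL : ⁅D, (S : Subgroup G)⁆ ≤ centralizer (L : Set G) := by
    refine commutator_le.mpr fun d hd s hs => ?_
    have h1 : s ∈ ((A ⊔ P : Subgroup G) : Set G) := hSAP ▸ hs
    rw [mul_normal] at h1
    obtain ⟨a', ha', x, hx, rfl⟩ := h1
    have h2 : Commute d a' := hAD ha' d hd
    have h3 : ⁅d, a' * x⁆ = a' * ⁅d, x⁆ * a'⁻¹ := by
      rw [commutatorElement_def, commutatorElement_def,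
        show d * (a' * x) = a' * d * x by rw [← mul_assoc, h2.eq]]
      group
    rw [h3, show a' * ⁅d, x⁆ = ⁅d, x⁆ * a' from hfix d hd x hx a' (hAL ha'), mul_inv_cancel_right]
    exact hfix d hd x hx
  refine Or.inr (Or.inr ⟨fun z hz => hcentral L hSL z hz.2.2 (hDSL hz.1), ?_⟩)
  -- `C_V(G)` has index at least `q²`
  set E := V ⊓ center G with hE
  have hEbig : Nat.card E * (p ^ n * p ^ n) ≤ Nat.card V := by
    rw [← hidx (inf_le_left : E ≤ V)]
    refine Nat.mul_le_mul_left _ ?_
    rw [← pow_add, ← two_mul]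
    rcases Nat.lt_or_ge n 2 with hn2 | hn2
    · obtain rfl : n = 1 := by omega
      obtain ⟨b, hb⟩ := IsPGroup.iff_card.mp hVp
      obtain ⟨j, -, hj⟩ := (Nat.dvd_prime_pow (Fact.out : p.Prime)).mp
        ⟨Nat.card E, by rw [← hb, ← hidx (inf_le_left : E ≤ V), mul_comm]⟩
      rw [hj]
      refine Nat.pow_le_pow_right (Fact.out : p.Prime).pos ?_
      have hEC : E ≤ C := fun y hy => by
        refine ⟨hy.1, ?_⟩
        have hy2 : zpowers y ≤ centralizer (A : Set G) :=
          zpowers_le.mpr fun z _ => mem_center_iff.mp hy.2 z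
        have h1 := hAmax _ (sup_le hAS (zpowers_le.mpr (hPS hy.1.1)))
          (isMulCommutative_sup (H59.le_centralizer_self hAc) (H59.le_centralizer_self inferInstance)
            (le_centralizer_iff.mp hy2))
        exact (eq_of_le_of_card_ge le_sup_left h1).ge (mem_sup_right (mem_zpowers y))
      have h1 := relIndex_mul_relIndex E C V hEC inf_le_left
      rw [hCeq, hj] at h1
      by_contra hlt
      have hj1 : j = 1 := by
        rcases Nat.eq_zero_or_pos j with rfl | hj0
        · rw [pow_zero] at h1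
          have := Nat.eq_one_of_mul_eq_one_left h1
          rw [pow_one] at this
          exact absurd this (Fact.out : p.Prime).one_lt.ne'
        · omega
      have hEC1 : E.relIndex C = 1 := by
        subst hj1
        exact Nat.eq_of_mul_eq_mul_right (Nat.pow_pos (Fact.out : p.Prime).pos)
          (h1.trans (one_mul _).symm)
      have hCE : C ≤ E := relIndex_eq_one.mp hEC1
      -- `L` stabilises `1 ≤ C ≤ V`, so `R` centralises `V`
      have hEn : E.Normal := normal_of_le_center inf_le_right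
      refine hRV ?_
      exact pResidual_le_centralizer_of_chain hVn (inf_le_left : E ≤ V) inf_le_right hVp
        (by rw [hj, hj1, pow_one]) (S.isPGroup'.to_le hAS) (H59.pResidual_le_of_sylow_sup S hSL)
    · obtain ⟨r, hr⟩ := H59.exists_primitivePow (p := p) Fact.out hn2
      let π' := QuotientGroup.mk' (center (Matrix.SpecialLinearGroup (Fin 2) F))
      obtain ⟨h, hh⟩ := H59.exists_word_order hF hr
        (Linear.not_isScalarTwo_upSL (F := F) one_ne_zero) (Linear.trace_upSL (1 : F))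
      set t := (Linear.upSL (1 : F) * (h * Linear.upSL (1 : F) * h⁻¹)) ^ 2 with ht
      obtain ⟨g, hg⟩ := hf₀ (π' t)
      have himg : ∀ k : ℕ, g ^ k ∈ centralizer (V : Set G) → r ∣ k := fun k hk => by
        refine (hh k).mp ((QuotientGroup.eq_one_iff _).mp ?_)
        change π' (t ^ k) = 1
        rw [map_pow, ← hg, ← map_pow]
        exact hq hn2 _ hk
      set Q := centralizer (V : Set G) with hQ
      set N := orderOf (QuotientGroup.mk' Q g) with hNo
      have hord : ∀ k : ℕ, g ^ k ∈ centralizer (V : Set G) ↔ N ∣ k := by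
        intro k
        rw [hNo, orderOf_dvd_iff_pow_eq_one, ← map_pow, QuotientGroup.mk'_apply,
          QuotientGroup.eq_one_iff]
      obtain ⟨m, hm⟩ := himg N ((hord N).mpr dvd_rfl)
      have hm0 : m ≠ 0 := by
        rintro rfl
        rw [mul_zero] at hm
        exact (orderOf_pos _).ne' hm
      exact H59.pow_le_relIndex (U := E) hVp (le_normalizer_of_normal (mem_top _))
        (fun v hv => mem_center_iff.mp hv.2 (g ^ m)) hr
        (H59.mem_centralizer_of_pow (fun k => hm ▸ hord k) hm0)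
  -- a second conjugate of `A`
  obtain ⟨g, hgM⟩ : ∃ g : G, g ∉ M := by
    by_contra h
    push Not at h
    exact hM.1 (eq_top_iff.mpr fun g _ => h g)
  set c := (MulAut.conj g).toMonoidHom with hc
  set B := A.map c with hB
  have hgen : (S : Subgroup G) ⊔ B = ⊤ := by
    refine htop _ le_sup_left fun hle => hgM ?_
    obtain ⟨hSle, hBle⟩ := sup_le_iff.mp hle
    have hScM : (S : Subgroup G).map c ≤ M := by
      rw [hSAP, Subgroup.map_sup]
      refine sup_le hBle (le_trans ?_ (hPS.trans hSM))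
      rintro _ ⟨x, hx, rfl⟩
      exact hPn.conj_mem x hx g
    obtain ⟨m, hm⟩ := exists_conj_eq S hSM g hScM
    have hnorm : m⁻¹ * g ∈ normalizer ((S : Subgroup G) : Set G) := by
      rw [mem_normalizer_iff_map_conj_eq]
      exact hm.2
    have hNM : normalizer ((S : Subgroup G) : Set G) ≤ M := by
      by_contra hne
      have := normalizer_eq_top_iff.mp (htop _ Subgroup.le_normalizer hne)
      exact hAP (hAS.trans (Cores.le_pCore S.isPGroup'))
    simpa using mul_mem hm.1 (hNM hnorm)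
  set C' := C.map c with hC'
  have hC'V : C' ≤ V := by
    rintro _ ⟨y, hy, rfl⟩
    exact hVn.conj_mem y hy.1 g
  have hC'B : C' ≤ B := map_mono inf_le_right
  have hBc : IsMulCommutative B := H59.isMulCommutative_map _ hAc
  have hCinf : C ⊓ C' ≤ E := by
    intro y hy
    refine ⟨hy.1.1, mem_center_iff.mpr fun x => ?_⟩
    have h1 : (⊤ : Subgroup G) ≤ centralizer ({y} : Set G) := by
      rw [← hgen, hSAP]
      refine sup_le (sup_le ?_ ?_) ?_
      · intro z hz; rintro _ rfl
        exact H59.le_centralizer_self hAc hz _ hy.1.2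
      · intro z hz; rintro _ rfl
        exact (hy.1.1.2 z hz).symm
      · intro z hz; rintro _ rfl
        exact H59.le_centralizer_self hBc hz _ (hC'B hy.2)
    exact (h1 (mem_top x) y rfl).symm
  have hsupV : V ≤ C ⊔ C' := by
    refine (eq_of_le_of_card_ge (sup_le inf_le_left hC'V) ?_).ge
    have h3 : Nat.card ↥(C ⊔ C') * Nat.card ↥(C ⊓ C') = Nat.card C * Nat.card C' :=
      card_sup_mul_card_inf_of_commute hVV inf_le_left hC'V
    rw [show Nat.card C' = Nat.card C from card_map_of_injective (MulEquiv.injective _)] at h3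
    have hVC := hidx (inf_le_left : C ≤ V)
    rw [hCeq] at hVC
    have hinf := Subgroup.card_le_of_le hCinf
    refine Nat.le_of_mul_le_mul_right ?_ (Nat.card_pos (α := ↥(C ⊓ C')))
    rw [h3]
    refine Nat.le_of_mul_le_mul_right ?_ (pow_pos (Fact.out : p.Prime).pos n |> fun h => Nat.mul_pos h h)
    calc Nat.card V * Nat.card ↥(C ⊓ C') * (p ^ n * p ^ n)
        ≤ Nat.card V * (Nat.card E * (p ^ n * p ^ n)) := by
          rw [mul_assoc]; exact Nat.mul_le_mul_left _ (Nat.mul_le_mul_right _ hinf)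
      _ ≤ Nat.card V * Nat.card V := Nat.mul_le_mul_left _ hEbig
      _ = _ := by rw [← hVC]; ring
  have hVdec : ∀ v ∈ V, ∃ y ∈ C, ∃ z ∈ C', v = y * z := by
    intro v hv
    have h1 : v ∈ (((C ⊔ C') : Subgroup G) : Set G) := hsupV hv
    rw [Subgroup.coe_mul_of_left_le_normalizer_right C C' fun y hy => ?_] at h1
    · obtain ⟨y, hy, z, hz, rfl⟩ := h1
      exact ⟨y, hy, z, hz, rfl⟩
    · exact H59.mem_normalizer_of_forall fun u hu => by
        rw [show y * u * y⁻¹ = u by rw [← hVV hy.1 u (hC'V hu), mul_inv_cancel_right]]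
        exact hu
  have hYB : ∀ y ∈ Y, ∃ b ∈ B, ∃ v ∈ V, y = b * v := by
    intro y hy
    obtain ⟨u, hu, v, hv, huv⟩ := hYdec _ (hYconj g⁻¹ y hy)
    refine ⟨c u, mem_map_of_mem c hu, c v, hVn.conj_mem v hv g, ?_⟩
    rw [← map_mul, ← huv]
    simp [hc, mul_assoc]
  have hDdec : ∀ d ∈ D, ∃ z ∈ D' ⊓ A ⊓ B, ∃ v ∈ V, d = z * v := by
    intro d hd
    obtain ⟨u, hu, v, hv, rfl⟩ := hYdec d (hDY hd)
    have huY : u ∈ Y := by simpa using mul_mem (hDY hd) (inv_mem (hVY hv))
    obtain ⟨b, hb, w, hw, rfl⟩ := hYB u huY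
    obtain ⟨y, hy, z, hz, rfl⟩ := hVdec w hw
    have hyz : Commute y z := (hVV hy.1 z (hC'V hz)).symm
    refine ⟨b * z, ⟨⟨?_, ?_⟩, mul_mem hb (hC'B hz)⟩, y * v, mul_mem hy.1 hv, ?_⟩
    · have h1 : b * z = b * (y * z) * v * (v⁻¹ * y⁻¹) := by rw [hyz.eq]; group
      rw [h1]
      exact mul_mem (mem_sup_left hd)
        (mem_sup_right ((mul_mem (inv_mem hv) (inv_mem hy.1) : v⁻¹ * y⁻¹ ∈ V)))
    · have h1 : b * z = b * (y * z) * y⁻¹ := by rw [hyz.eq]; group
      rw [h1]
      exact mul_mem hu ((inv_mem hy.2) : y⁻¹ ∈ A)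
    · rw [hyz.eq]; group
  set X := A ⊔ B ⊔ K₂ with hX
  have hXn : X.Normal := by
    refine normalizer_eq_top_iff.mp (top_le_iff.mp (hgen ▸ sup_le ?_ ?_))
    · rw [hSAP]
      refine sup_le ((le_sup_left.trans le_sup_left).trans Subgroup.le_normalizer) ?_
      intro x hx
      refine H59.mem_normalizer_of_forall fun u hu => ?_
      have : X ≤ X.comap (MulAut.conj x).toMonoidHom := sup_le (sup_le
        (fun a' ha' => by
          change x * a' * x⁻¹ ∈ X
          rw [show x * a' * x⁻¹ = (x * a' * x⁻¹ * a'⁻¹) * a' by group]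
          exact mul_mem (mem_sup_right (hPA x hx a' ha')) (mem_sup_left (mem_sup_left ha')))
        (by
          rintro _ ⟨a', ha', rfl⟩
          have hx' : g⁻¹ * x * g ∈ P := by simpa using hPn.conj_mem x hx g⁻¹
          change x * (g * a' * g⁻¹) * x⁻¹ ∈ X
          rw [show x * (g * a' * g⁻¹) * x⁻¹ =
            g * ((g⁻¹ * x * g) * a' * (g⁻¹ * x * g)⁻¹ * a'⁻¹) * g⁻¹ * (g * a' * g⁻¹) by group]
          exact mul_mem (mem_sup_right (hK₂n.conj_mem _ (hPA _ hx' a' ha') g))
            (mem_sup_left (mem_sup_right ⟨a', ha', rfl⟩))))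
        (fun k hk => mem_sup_right (hK₂n.conj_mem k hk x))
      exact this hu
    · exact (le_sup_right.trans le_sup_left).trans Subgroup.le_normalizer
  have hLX : L ≤ X := normalClosure_le_normal fun a' ha' => mem_sup_left (mem_sup_left ha')
  have hkey : ∀ x ∈ P, x ∈ L → x ∈ centralizer (D : Set G) := by
    intro x hx hxL d hd
    obtain ⟨z, hz, v, hv, rfl⟩ := hDdec d hd
    have h1 : X ≤ centralizer ({z} : Set G) := by
      refine sup_le (sup_le ?_ ?_) ?_
      · intro y hy; rintro _ rfl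
        exact H59.le_centralizer_self hAc hy _ hz.1.2
      · intro y hy; rintro _ rfl
        exact H59.le_centralizer_self hBc hy _ hz.2
      · intro y hy; rintro _ rfl
        exact hy.2 _ hz.1.1
    have h2 : Commute z x := h1 (hLX hxL) z rfl
    exact (h2.mul_left ((hv.2 x hx).symm : Commute v x)).eq
  -- conclude
  have hNC : normalClosure (((S : Subgroup G) ⊓ centralizer (D : Set G)) : Set G) ≤ L ⊔ K₂ := by
    refine normalClosure_le_normal fun s hs => ?_
    have h1 : s ∈ ((A ⊔ P : Subgroup G) : Set G) := hSAP ▸ hs.1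
    rw [mul_normal] at h1
    obtain ⟨a', ha', x, hx, rfl⟩ := h1
    refine mul_mem (mem_sup_left (hAL ha')) (mem_sup_right (hK₂mem hx ?_))
    simpa using mul_mem (inv_mem (hAD ha')) hs.2
  intro s hs
  have h1 : s ∈ ((A ⊔ P : Subgroup G) : Set G) := hSAP ▸ hs.1
  rw [mul_normal] at h1
  obtain ⟨a', ha', x, hx, rfl⟩ := h1
  refine mul_mem (hAD ha') ?_
  have hxLK : x ∈ ((L ⊔ K₂ : Subgroup G) : Set G) := by
    have := mul_mem (inv_mem (mem_sup_left (hAL ha') : a' ∈ L ⊔ K₂)) (hNC hs.2)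
    simpa using this
  rw [mul_normal] at hxLK
  obtain ⟨l, hl, k, hk, rfl⟩ := hxLK
  exact mul_mem (hkey l (by simpa using mul_mem hx (inv_mem hk.1)) hl)
    fun d hd => hk.2 d (mem_sup_left hd)

end Cfsg.Agent.Signalizer.PushUpJ
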