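import Cfsg.Agent.Signalizer.TwoPrimesQuot
import Cfsg.Agent.Components.PAction
import Cfsg.Agent.Components.PLocal
import Cfsg.Agent.Cores.Fitting

/-!
Cores of the members used in the two-prime case, inside the ambient group, and criteria to lie in
`O_p` or `O_{p'}`.
-/

set_option autoImplicit false
set_option linter.unusedSectionVars false
set_option linter.style.haveILetI false

namespace Cfsg.Agent.Signalizer.TwoPrimes

open Subgroup
open scoped commutatorElement

universe u

variable {G : Type u} [Group G] [Finite G]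

/-- `O_{p'}(K)`, inside `G`. -/
def pPrimeOf (p : ℕ) (K : Subgroup G) : Subgroup G := (Cfsg.pPrimeCore p K).map K.subtype

/-- `O_{p',p}(K)`, inside `G`. -/
def core12 (p : ℕ) (K : Subgroup G) : Subgroup G := (Cfsg.pPrimePCore p K).map K.subtype

/-- The preimage of the Fitting subgroup of `K / N`, inside `G`. -/
def fitOver (K : Subgroup G) (N : Subgroup K) [N.Normal] : Subgroup G :=
  ((Cfsg.fittingSubgroup (K ⧸ N)).comap (QuotientGroup.mk' N)).map K.subtype

/-- The preimage of `F(K / O_p(K))`, inside `G`. -/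
def fitP (p : ℕ) (K : Subgroup G) : Subgroup G :=
  haveI := Cfsg.pCore_normal p K
  fitOver K (Cfsg.pCore p K)

instance characteristic_comap_quotient {K : Type u} [Group K] (N : Subgroup K) [N.Normal]
    [N.Characteristic] (C : Subgroup (K ⧸ N)) [C.Characteristic] :
    (C.comap (QuotientGroup.mk' N)).Characteristic := by
  rw [characteristic_iff_map_le]
  rintro φ _ ⟨x, hx, rfl⟩
  have hN : N.map φ.toMonoidHom = N := characteristic_iff_map_eq.mp inferInstance φ
  let e : K ⧸ N ≃* K ⧸ N := QuotientGroup.congr N N φ hN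
  show QuotientGroup.mk' N (φ x) ∈ C
  have h := characteristic_iff_map_le.mp (inferInstance : C.Characteristic) e
    (mem_map_of_mem e.toMonoidHom hx)
  exact h

theorem mk_mem_map {K : Subgroup G} {C : Subgroup K} {x : G} (hx : x ∈ K) :
    x ∈ C.map K.subtype ↔ (⟨x, hx⟩ : K) ∈ C := by
  refine ⟨?_, fun h => ⟨_, h, rfl⟩⟩
  rintro ⟨y, hy, e⟩
  rwa [show (⟨x, hx⟩ : K) = y from Subtype.ext e.symm]

theorem normalizer_le_normalizer_map {K : Subgroup G} (C : Subgroup K) [C.Characteristic] :
    normalizer (K : Set G) ≤ normalizer (C.map K.subtype : Set G) :=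
  Components.le_normalizer_map_characteristic C le_rfl

theorem subgroupOf_map_subtype_self {K : Subgroup G} (C : Subgroup K) :
    (C.map K.subtype).subgroupOf K = C :=
  comap_map_eq_self_of_injective K.subtype_injective C

section pPrime

variable {p : ℕ} [Fact p.Prime]

theorem pPrimeOf_le (K : Subgroup G) : pPrimeOf p K ≤ K := map_subtype_le _

instance pPrimeCore_characteristic' {K : Type u} [Group K] [Finite K] :
    (Cfsg.pPrimeCore p K).Characteristic := by
  rw [characteristic_iff_map_le]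
  exact fun e => Cores.pPrimeCore_map_le e.surjective

theorem normalizer_le_normalizer_pPrimeOf (K : Subgroup G) :
    normalizer (K : Set G) ≤ normalizer (pPrimeOf p K : Set G) :=
  normalizer_le_normalizer_map _

theorem le_normalizer_pPrimeOf (K : Subgroup G) : K ≤ normalizer (pPrimeOf p K : Set G) :=
  Subgroup.le_normalizer.trans (normalizer_le_normalizer_pPrimeOf K)

theorem coprime_pPrimeOf (K : Subgroup G) : (Nat.card (pPrimeOf p K)).Coprime p := by
  rw [pPrimeOf, card_map_of_injective K.subtype_injective]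
  exact Cores.coprime_card_pPrimeCore

theorem le_pPrimeOf {K N : Subgroup G} (hN : N ≤ K) (hn : K ≤ normalizer (N : Set G))
    (hp : (Nat.card N).Coprime p) : N ≤ pPrimeOf p K := by
  haveI : (N.subgroupOf K).Normal := (normal_subgroupOf_iff_le_normalizer hN).mpr hn
  have h : N.subgroupOf K ≤ Cfsg.pPrimeCore p K :=
    Cores.le_pPrimeCore (by rwa [Nat.card_congr (subgroupOfEquivOfLe hN).toEquiv])
  intro x hx
  exact (mk_mem_map (hN hx)).mpr (h (mem_subgroupOf.mpr hx))

theorem core12_le (K : Subgroup G) : core12 p K ≤ K := map_subtype_le _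

theorem pPrimeOf_le_core12 (K : Subgroup G) : pPrimeOf p K ≤ core12 p K :=
  Subgroup.map_mono Cores.pPrimeCore_le_pPrimePCore

theorem pCoreOf_le_core12 (K : Subgroup G) : Cfsg.pCoreOf p K ≤ core12 p K :=
  Subgroup.map_mono Cores.pCore_le_pPrimePCore

theorem normalizer_le_normalizer_core12 (K : Subgroup G) :
    normalizer (K : Set G) ≤ normalizer (core12 p K : Set G) :=
  normalizer_le_normalizer_map _

theorem le_normalizer_core12 (K : Subgroup G) : K ≤ normalizer (core12 p K : Set G) :=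
  Subgroup.le_normalizer.trans (normalizer_le_normalizer_core12 K)

theorem exists_pow_mem_of_mem_core12 {K : Subgroup G} {x : G} (hx : x ∈ core12 p K) :
    ∃ k, x ^ p ^ k ∈ pPrimeOf p K := by
  obtain ⟨y, hy, rfl⟩ := hx
  obtain ⟨k, hk⟩ := Cores.pCore_isPGroup (⟨_, hy⟩ : Cfsg.pCore p (K ⧸ Cfsg.pPrimeCore p K))
  refine ⟨k, y ^ p ^ k, ?_, rfl⟩
  have h := congrArg Subtype.val hk
  simp only [SubgroupClass.coe_pow, OneMemClass.coe_one] at h
  rw [← map_pow, QuotientGroup.mk'_apply, QuotientGroup.eq_one_iff] at h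
  exact h

theorem le_core12 {K M : Subgroup G} (hM : M ≤ K) (hn : K ≤ normalizer (M : Set G))
    (h : ∀ x ∈ M, ∃ k, x ^ p ^ k ∈ pPrimeOf p K) : M ≤ core12 p K := by
  haveI : (M.subgroupOf K).Normal := (normal_subgroupOf_iff_le_normalizer hM).mpr hn
  set f := QuotientGroup.mk' (Cfsg.pPrimeCore p K)
  haveI : ((M.subgroupOf K).map f).Normal :=
    (inferInstance : (M.subgroupOf K).Normal).map f (QuotientGroup.mk'_surjective _)
  have hp : IsPGroup p ((M.subgroupOf K).map f) := by
    rintro ⟨_, y, hy, rfl⟩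
    obtain ⟨k, hk⟩ := h (y : G) hy
    refine ⟨k, Subtype.ext ?_⟩
    show f y ^ p ^ k = 1
    rw [← map_pow]
    exact (QuotientGroup.eq_one_iff _).mpr ((mk_mem_map (pow_mem y.2 _)).mp hk)
  intro x hx
  exact ⟨⟨x, hM hx⟩, Cores.le_pCore hp (mem_map_of_mem f hx), rfl⟩

/-- Subgroups of order prime to `p` in `O_{p',p}` lie in `O_{p'}`. -/
theorem le_pPrimeOf_of_le_core12 {K X : Subgroup G} (hX : (Nat.card X).Coprime p)
    (h : X ≤ core12 p K) : X ≤ pPrimeOf p K := by
  intro x hx
  obtain ⟨k, hk⟩ := exists_pow_mem_of_mem_core12 (h hx)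
  have ho : (orderOf x).Coprime (p ^ k) :=
    (hX.coprime_dvd_left (orderOf_dvd_natCard X hx)).pow_right k
  have h1 : x ∈ zpowers (x ^ p ^ k) := mem_zpowers_pow_iff.mpr ho.symm
  exact zpowers_le.mpr hk h1

/-- In a solvable group without `O_{p'}`, `C(O_p)` lies in `O_p`. -/
theorem inf_centralizer_pCoreOf_le {K : Subgroup G} (hs : Group.IsSolvable K)
    (h : pPrimeOf p K = ⊥) :
    K ⊓ centralizer (Cfsg.pCoreOf p K : Set G) ≤ Cfsg.pCoreOf p K := by
  haveI := hs
  refine (H60.hasCharP_iff K).mp (Cores.centralizer_pCore_le Cores.isPSolvable_of_isSolvable ?_)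
  exact (Subgroup.map_eq_bot_iff_of_injective _ K.subtype_injective).mp h

end pPrime

theorem commutator_le_of_le {X Y K : Subgroup G} (hX : X ≤ K) (hY : Y ≤ K) : ⁅X, Y⁆ ≤ K :=
  commutator_le.mpr fun x hx y hy => by
    rw [commutatorElement_def]
    exact mul_mem (mul_mem (mul_mem (hX hx) (hY hy)) (inv_mem (hX hx))) (inv_mem (hY hy))

theorem map_subgroupOf_commutator {H : Type u} [Group H] {K X Y : Subgroup G} (f : K →* H)
    (hX : X ≤ K) (hY : Y ≤ K) :
    ⁅(X.subgroupOf K).map f, (Y.subgroupOf K).map f⁆ = (⁅X, Y⁆.subgroupOf K).map f := by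
  rw [← Subgroup.map_commutator]
  congr 1
  apply map_injective K.subtype_injective
  rw [Subgroup.map_commutator, map_subgroupOf_eq_of_le hX, map_subgroupOf_eq_of_le hY,
    map_subgroupOf_eq_of_le (commutator_le_of_le hX hY)]

theorem commutator_le_frattini_of_isNilpotent {V : Type u} [Group V] [Finite V]
    [Group.IsNilpotent V] : commutator V ≤ frattini V := by
  refine le_iInf₂ fun M hM => ?_
  haveI : M.Normal := Subgroup.NormalizerCondition.normal_of_coatom M
    Group.normalizerCondition_of_isNilpotent hM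
  haveI : Nontrivial (V ⧸ M) := QuotientGroup.nontrivial_iff.mpr hM.1
  have hlt := Group.IsSolvable.commutator_lt_top_of_nontrivial (V ⧸ M)
  by_contra hle
  apply hlt.ne
  have htop : commutator V ⊔ M = ⊤ :=
    hM.2 _ (lt_of_le_of_ne le_sup_right fun e => hle (e.symm ▸ le_sup_left))
  have hmap : (commutator V).map (QuotientGroup.mk' M) = commutator (V ⧸ M) := by
    rw [commutator_def, commutator_def, Subgroup.map_commutator,
      Subgroup.map_top_of_surjective _ (QuotientGroup.mk'_surjective M)]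
  rw [← hmap, ← Subgroup.map_top_of_surjective _ (QuotientGroup.mk'_surjective M), ← htop,
    Subgroup.map_sup, (Subgroup.map_eq_bot_iff _).mpr (QuotientGroup.ker_mk' M).ge, sup_bot_eq]

/-- A coprime group acting trivially on the nilpotent `V` modulo `[V, V]` centralizes it. -/
theorem le_centralizer_of_derived {V P : Subgroup G} [Group.IsNilpotent V]
    (hPV : P ≤ normalizer (V : Set G)) (hcop : (Nat.card P).Coprime (Nat.card V))
    (h : ⁅V, P⁆ ≤ ⁅V, V⁆) : P ≤ centralizer (V : Set G) := by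
  refine Coprime.le_centralizer_of_frattini hPV
    (hcop.coprime_dvd_right (Subgroup.card_subgroup_dvd_card _)) fun a ha v hv => ?_
  have h1 : ⁅v, a⁆ ∈ (frattini V).map V.subtype := by
    refine Subgroup.map_mono commutator_le_frattini_of_isNilpotent ?_
    rw [Subgroup.map_subtype_commutator]
    exact h (commutator_mem_commutator hv ha)
  have h' := inv_mem h1
  rw [commutatorElement_inv, commutatorElement_def] at h'
  exact h'

section fitP

variable {p : ℕ} [Fact p.Prime]

theorem fitP_le (K : Subgroup G) : fitP p K ≤ K := map_subtype_le _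

instance pCore_characteristic' {K : Type u} [Group K] [Finite K] :
    (Cfsg.pCore p K).Characteristic := by
  rw [characteristic_iff_map_le]
  exact fun e => Cores.pCore_map_le e.surjective

theorem normalizer_le_normalizer_fitP (K : Subgroup G) :
    normalizer (K : Set G) ≤ normalizer (fitP p K : Set G) := by
  haveI := Cfsg.pCore_normal p K
  haveI : (Cfsg.fittingSubgroup (K ⧸ Cfsg.pCore p K)).Characteristic := inferInstance
  exact normalizer_le_normalizer_map _

theorem le_normalizer_fitP (K : Subgroup G) : K ≤ normalizer (fitP p K : Set G) :=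
  Subgroup.le_normalizer.trans (normalizer_le_normalizer_fitP K)

theorem pCoreOf_le_fitP (K : Subgroup G) : Cfsg.pCoreOf p K ≤ fitP p K := by
  refine Subgroup.map_mono fun x hx => ?_
  rw [mem_comap, QuotientGroup.mk'_apply, (QuotientGroup.eq_one_iff x).mpr hx]
  exact one_mem _

theorem fitting_le_pPrimeCore_quotient {K : Type u} [Group K] [Finite K] :
    Cfsg.fittingSubgroup (K ⧸ Cfsg.pCore p K) ≤ Cfsg.pPrimeCore p (K ⧸ Cfsg.pCore p K) := by
  have h := Cores.iSup_pCore_le_sup (G := K ⧸ Cfsg.pCore p K) p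
  rwa [Cores.pCore_quotient_pCore, sup_bot_eq, ← Cores.iSup_pCore_eq_fittingSubgroup] at h

/-- `p`-subgroups of `fitP p K` lie in `O_p(K)`. -/
theorem le_pCoreOf_of_le_fitP {K X : Subgroup G} (hX : IsPGroup p X) (h : X ≤ fitP p K) :
    X ≤ Cfsg.pCoreOf p K := by
  have hXK : X ≤ K := h.trans (fitP_le K)
  set f := QuotientGroup.mk' (Cfsg.pCore p K) with hf
  have h1 : (X.subgroupOf K).map f ≤ Cfsg.pPrimeCore p (K ⧸ Cfsg.pCore p K) := by
    rintro _ ⟨x, hx, rfl⟩
    exact fitting_le_pPrimeCore_quotient ((mk_mem_map x.2).mp (h hx))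
  have h2 := Cores.disjoint_of_isPGroup_of_coprime (A := (X.subgroupOf K).map f)
    ((hX.comap_subtype (K := K)).map f)
    (Cores.coprime_card_pPrimeCore (p := p) (G := K ⧸ Cfsg.pCore p K))
  rw [inf_eq_left.mpr h1, Subgroup.map_eq_bot_iff, hf, QuotientGroup.ker_mk'] at h2
  exact fun x hx => (mk_mem_map (hXK hx)).mpr (h2 hx)

/-- A `p`-subgroup stabilizing a short series of `fitP p K` lies in `O_p(K)`. -/
theorem le_pCoreOf_of_series {K P C : Subgroup G} (hs : Group.IsSolvable K)
    (hP : IsPGroup p P) (hPK : P ≤ K) (h₁ : ⁅fitP p K, P⁆ ≤ C)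
    (h₂ : ⁅C, P⁆ ≤ Cfsg.pCoreOf p K ⊔ ⁅fitP p K, fitP p K⁆) : P ≤ Cfsg.pCoreOf p K := by
  haveI := hs
  haveI := Cfsg.pCore_normal p K
  set f := QuotientGroup.mk' (Cfsg.pCore p K) with hf
  set V := Cfsg.fittingSubgroup (K ⧸ Cfsg.pCore p K) with hV
  set P' := (P.subgroupOf K).map f with hP'
  have hPp : IsPGroup p P' := (hP.comap_subtype).map f
  have hVimg : V = ((fitP p K).subgroupOf K).map f := by
    rw [fitP, fitOver, subgroupOf_map_subtype_self,
      map_comap_eq_self_of_surjective (QuotientGroup.mk'_surjective _)]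
  haveI : V.Normal := Cores.fittingSubgroup_normal
  have hPV : P' ≤ normalizer (V : Set (K ⧸ Cfsg.pCore p K)) :=
    le_normalizer_iff.mpr fun b _ v hv => (inferInstance : V.Normal).conj_mem v hv b
  have hVp : (Nat.card V).Coprime p :=
    Cores.coprime_card_pPrimeCore.coprime_dvd_left (card_dvd_of_le fitting_le_pPrimeCore_quotient)
  have hcop : (Nat.card P').Coprime (Nat.card V) := by
    obtain ⟨n, hn⟩ := IsPGroup.iff_card.mp hPp
    rw [hn]
    exact (hVp.symm).pow_left n
  haveI : Group.IsNilpotent V := Cores.fittingSubgroup_isNilpotent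
  have h12 : ⁅V, P'⁆ ≤ ⁅V, V⁆ := by
    rw [← Coprime.commutator_commutator_eq hPV hcop (Or.inr inferInstance)]
    have hC' : ⁅V, P'⁆ ≤ ((C ⊓ K).subgroupOf K).map f := by
      rw [hVimg, hP', map_subgroupOf_commutator f (fitP_le K) hPK]
      exact Subgroup.map_mono fun x hx => mem_subgroupOf.mpr ⟨h₁ (mem_subgroupOf.mp hx), x.2⟩
    refine (commutator_mono hC' le_rfl).trans ?_
    rw [hP', map_subgroupOf_commutator f inf_le_right hPK, hVimg,
      map_subgroupOf_commutator f (fitP_le K) (fitP_le K)]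
    have hsub : ⁅C ⊓ K, P⁆ ≤ Cfsg.pCoreOf p K ⊔ ⁅fitP p K, fitP p K⁆ :=
      (commutator_mono inf_le_left le_rfl).trans h₂
    refine (Subgroup.map_mono fun x hx => mem_subgroupOf.mpr (hsub (mem_subgroupOf.mp hx))).trans ?_
    rw [subgroupOf_sup (H60.pCoreOf_le K) (commutator_le_of_le (fitP_le K) (fitP_le K)),
      Subgroup.map_sup, sup_le_iff]
    refine ⟨le_trans (le_of_eq ((Subgroup.map_eq_bot_iff _).mpr ?_)) bot_le, le_rfl⟩
    rw [QuotientGroup.ker_mk', Cfsg.pCoreOf, subgroupOf_map_subtype_self]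
  have hcent := le_centralizer_of_derived hPV hcop h12
  have hfit : P' ≤ V := hcent.trans Cores.centralizer_fittingSubgroup_le
  have hbot : P' = ⊥ := by
    have := Coprime.inf_eq_bot hcop
    rwa [inf_eq_left.mpr hfit] at this
  rw [hP', Subgroup.map_eq_bot_iff, hf, QuotientGroup.ker_mk'] at hbot
  exact fun x hx => (mk_mem_map (hPK hx)).mpr (hbot hx)

end fitP

/-- A `p'`-subgroup stabilizing a short series of `O_{p',p}(K)` lies in `O_{p'}(K)`. -/
theorem le_pPrimeOf_of_series {p : ℕ} [Fact p.Prime] {K P C : Subgroup G} (hs : Group.IsSolvable K)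
    (hP : (Nat.card P).Coprime p) (hPK : P ≤ K) (h₁ : ⁅core12 p K, P⁆ ≤ C)
    (h₂ : ⁅C, P⁆ ≤ pPrimeOf p K) : P ≤ pPrimeOf p K := by
  haveI := hs
  set f := QuotientGroup.mk' (Cfsg.pPrimeCore p K) with hf
  set V := Cfsg.pCore p (K ⧸ Cfsg.pPrimeCore p K) with hV
  set P' := (P.subgroupOf K).map f with hP'
  have hP'p : (Nat.card P').Coprime p :=
    hP.coprime_dvd_left ((Subgroup.card_map_dvd _ _).trans
      (Subgroup.card_comap_dvd_of_injective _ _ K.subtype_injective))
  have hVp : IsPGroup p V := Cores.pCore_isPGroup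
  haveI := hVp.isNilpotent
  haveI : V.Normal := Cfsg.pCore_normal p _
  have hVimg : V = ((core12 p K).subgroupOf K).map f := by
    rw [core12, subgroupOf_map_subtype_self, Cfsg.pPrimePCore,
      map_comap_eq_self_of_surjective (QuotientGroup.mk'_surjective _)]
  have hPV : P' ≤ normalizer (V : Set (K ⧸ Cfsg.pPrimeCore p K)) :=
    le_normalizer_iff.mpr fun b _ v hv => (inferInstance : V.Normal).conj_mem v hv b
  have hcop : (Nat.card P').Coprime (Nat.card V) := by
    obtain ⟨n, hn⟩ := IsPGroup.iff_card.mp hVp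
    rw [hn]
    exact hP'p.pow_right n
  have h12 : ⁅V, P'⁆ = ⊥ := le_bot_iff.mp <| by
    rw [← Coprime.commutator_commutator_eq hPV hcop (Or.inr inferInstance)]
    have hC' : ⁅V, P'⁆ ≤ ((C ⊓ K).subgroupOf K).map f := by
      rw [hVimg, hP', map_subgroupOf_commutator f (core12_le K) hPK]
      exact Subgroup.map_mono fun x hx => mem_subgroupOf.mpr ⟨h₁ (mem_subgroupOf.mp hx), x.2⟩
    refine (commutator_mono hC' le_rfl).trans ?_
    rw [hP', map_subgroupOf_commutator f inf_le_right hPK, Subgroup.map_le_iff_le_comap,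
      MonoidHom.comap_bot, hf, QuotientGroup.ker_mk']
    exact fun x hx => (mk_mem_map x.2).mp
      ((commutator_mono inf_le_left le_rfl).trans h₂ (mem_subgroupOf.mp hx))
  rw [commutator_eq_bot_iff_le_centralizer, le_centralizer_iff] at h12
  have hfit : P' ≤ V := h12.trans
    (Cores.centralizer_pCore_le Cores.isPSolvable_of_isSolvable Cores.pPrimeCore_quotient_pPrimeCore)
  have hbot : P' = ⊥ := by
    have := Coprime.inf_eq_bot hcop
    rwa [inf_eq_left.mpr hfit] at this
  rw [hP', Subgroup.map_eq_bot_iff, hf, QuotientGroup.ker_mk'] at hbot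
  exact fun x hx => (mk_mem_map (hPK hx)).mpr (hbot hx)

/-- A `q`-subgroup normalized by the normalizer of a `p`-subgroup it normalizes lies in `O_{p'}`. -/
theorem core_le {p q : ℕ} [Fact p.Prime] [Fact q.Prime] (hpq : p ≠ q) {U P N : Subgroup G}
    (hs : Group.IsSolvable U) (hP : P ≤ U) (hPp : IsPGroup p P) (hN : N ≤ U) (hNq : IsPGroup q N)
    (hNP : N ≤ normalizer (P : Set G))
    (hn : U ⊓ normalizer (P : Set G) ≤ normalizer (N : Set G)) : N ≤ pPrimeOf p U := by
  haveI := hs
  set R := Cfsg.pPrimeCore p U with hR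
  set P₀ := P.subgroupOf U with hP₀
  set N₀ := N.subgroupOf U with hN₀
  have hP₀p : IsPGroup p P₀ := hPp.comap_subtype
  have hN₀q : IsPGroup q N₀ := hNq.comap_subtype
  have hn₀ : normalizer (P₀ : Set U) ≤ normalizer (N₀ : Set U) := by
    intro x hx
    rw [mem_normalizer_iff] at hx
    have hxP : (x : G) ∈ normalizer (P : Set G) := by
      rw [mem_normalizer_iff]
      intro z
      refine ⟨fun hz => (hx ⟨z, hP hz⟩).mp hz, fun hz => ?_⟩
      have hzU : z ∈ U := by
        simpa [mul_assoc] using U.mul_mem (U.mul_mem (U.inv_mem x.2) (hP hz)) x.2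
      exact (hx ⟨z, hzU⟩).mpr hz
    rw [mem_normalizer_iff]
    intro y
    exact mem_normalizer_iff.mp (hn ⟨x.2, hxP⟩) (y : G)
  set f := QuotientGroup.mk' R with hf
  have hNq' : IsPGroup q (N₀.map f) := hN₀q.map f
  have hA : (Nat.card (N₀.map f)).Coprime p := by
    obtain ⟨n, hn'⟩ := IsPGroup.iff_card.mp hNq'
    rw [hn']
    exact Nat.Coprime.pow_left _ ((Nat.coprime_primes Fact.out Fact.out).mpr hpq.symm)
  have h1 : ⁅Cfsg.pCore p (U ⧸ R), N₀.map f⁆ = ⊥ := by
    refine Components.commutator_pCore_of_coprime (hP₀p.map f) hA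
      ((Subgroup.map_mono (subgroupOf_le_normalizer_subgroupOf hNP)).trans
        (Subgroup.le_normalizer_map f)) ?_
    rw [← Components.map_normalizer_of_coprime R Cores.coprime_card_pPrimeCore hP₀p]
    exact (Subgroup.map_mono hn₀).trans (Subgroup.le_normalizer_map f)
  rw [commutator_eq_bot_iff_le_centralizer, le_centralizer_iff] at h1
  have h2 : N₀.map f ≤ Cfsg.pCore p (U ⧸ R) := h1.trans
    (Cores.centralizer_pCore_le Cores.isPSolvable_of_isSolvable Cores.pPrimeCore_quotient_pPrimeCore)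
  have h3 : N₀.map f = ⊥ := le_bot_iff.mp <| by
    rw [← (IsPGroup.disjoint_of_ne p q hpq _ _ Cores.pCore_isPGroup hNq').eq_bot]
    exact le_inf h2 le_rfl
  rw [Subgroup.map_eq_bot_iff, hf, QuotientGroup.ker_mk'] at h3
  intro x hx
  exact (mk_mem_map (hN hx)).mpr (h3 hx)

/-- If every `O_x(K)` with `x ≠ p, q` is trivial, the two cores contain their centralizer. -/
theorem inf_centralizer_cores_le {p q : ℕ} [Fact p.Prime] [Fact q.Prime] {K : Subgroup G}
    (hs : Group.IsSolvable K)
    (h : ∀ x : ℕ, x.Prime → x ≠ p → x ≠ q → Cfsg.pCoreOf x K = ⊥) :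
    K ⊓ centralizer ((Cfsg.pCoreOf p K ⊔ Cfsg.pCoreOf q K : Subgroup G) : Set G) ≤
      Cfsg.pCoreOf p K ⊔ Cfsg.pCoreOf q K := by
  rintro x ⟨hxK, hxC⟩
  haveI := hs
  have hF : Cfsg.fittingSubgroup K ≤ Cfsg.pCore p K ⊔ Cfsg.pCore q K := by
    rw [Cores.iSup_pCore_eq_fittingSubgroup]
    refine iSup_le fun s => ?_
    by_cases h1 : (s : ℕ) = p
    · rw [h1]; exact le_sup_left
    by_cases h2 : (s : ℕ) = q
    · rw [h2]; exact le_sup_right
    rw [(Subgroup.map_eq_bot_iff_of_injective _ K.subtype_injective).mp (h s s.2 h1 h2)]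
    exact bot_le
  have h1 : (⟨x, hxK⟩ : K) ∈ centralizer (Cfsg.fittingSubgroup K : Set K) := by
    rw [mem_centralizer_iff]
    intro f hf
    apply Subtype.ext
    refine mem_centralizer_iff.mp hxC (f : G) ?_
    show (f : G) ∈ Cfsg.pCoreOf p K ⊔ Cfsg.pCoreOf q K
    rw [Cfsg.pCoreOf, Cfsg.pCoreOf, ← Subgroup.map_sup]
    exact mem_map_of_mem K.subtype (hF hf)
  rw [Cfsg.pCoreOf, Cfsg.pCoreOf, ← Subgroup.map_sup]
  exact ⟨_, hF (Cores.centralizer_fittingSubgroup_le h1), rfl⟩

/-- If `P = [P, a]` is abelian and centralizes the fixed points of `a`, it centralizes `V`. -/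
theorem le_centralizer_of_fixed {p q r : ℕ} [Fact p.Prime] [Fact q.Prime] [Fact r.Prime] (hpq : p ≠ q) (hpr : p ≠ r) (hqr : q ≠ r) :
    ∀ {P V : Subgroup G}, IsPGroup p P → IsMulCommutative P → IsPGroup q V → ∀ {a : G}, a ^ r = 1 →
      a ∈ normalizer (P : Set G) → a ∈ normalizer (V : Set G) → P ≤ normalizer (V : Set G) →
      P ≤ ⁅P, zpowers a⁆ → V ⊓ centralizer {a} ≤ centralizer (P : Set G) →
      P ≤ centralizer (V : Set G) := by
  suffices H : ∀ (P V : Subgroup G), IsPGroup p P → IsMulCommutative P → IsPGroup q V → ∀ {a : G},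
      a ^ r = 1 → a ∈ normalizer (P : Set G) → a ∈ normalizer (V : Set G) →
      P ≤ normalizer (V : Set G) → P ≤ ⁅P, zpowers a⁆ →
      V ⊓ centralizer {a} ≤ centralizer (P : Set G) → P ≤ centralizer (V : Set G) from
    fun {P V} => H P V
  intro P V
  induction V using WellFoundedLT.induction with
  | ind V ih =>
  intro hP hPc hV a ha haP haV hPV hPa hfix
  have hcop : ∀ X : Subgroup G, IsPGroup q X → (Nat.card P).Coprime (Nat.card X) := by
    intro X hX
    obtain ⟨n, hn⟩ := IsPGroup.iff_card.mp hP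
    obtain ⟨m, hm⟩ := IsPGroup.iff_card.mp hX
    rw [hn, hm]
    exact ((Nat.coprime_primes Fact.out Fact.out).mpr hpq).pow n m
  set W := ⁅V, P⁆ with hW
  have hWV : W ≤ V := Coprime.commutator_le_left_of_normalizer hPV
  by_cases hlt : W < V
  · have h := ih W hlt hP hPc (hV.to_le hWV) ha haP (Coprime.mem_normalizer_commutator haV haP)
      (normalizer_commutator_ge_right V P) hPa
      ((inf_le_inf_right _ hWV).trans hfix)
    exact Coprime.le_centralizer_of_commutator_le hPV (hcop V hV) le_rfl h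
  have hWeq : W = V := eq_of_le_of_not_lt hWV hlt
  -- pass to `V / [V, V]`
  set D := ⁅V, V⁆ with hD
  have hDV : D ≤ V := commutator_le.mpr fun x hx y hy => by
    rw [commutatorElement_def]
    exact mul_mem (mul_mem (mul_mem hx hy) (inv_mem hx)) (inv_mem hy)
  have haD : a ∈ normalizer (D : Set G) := Coprime.mem_normalizer_commutator haV haV
  have hPD : P ≤ normalizer (D : Set G) := fun x hx =>
    Coprime.mem_normalizer_commutator (hPV hx) (hPV hx)
  have hVD : V ≤ normalizer (D : Set G) := fun x hx =>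
    Coprime.mem_normalizer_commutator (Subgroup.le_normalizer hx) (Subgroup.le_normalizer hx)
  have haD' : zpowers a ≤ normalizer (D : Set G) := zpowers_le.mpr haD
  haveI : IsMulCommutative (im D V) := by
    refine ⟨⟨fun x y => Subtype.ext ?_⟩⟩
    have hb : ⁅im D V, im D V⁆ = ⊥ := by
      rw [← im_commutator hVD hVD, im_eq_bot_iff (hDV.trans hVD)]
    exact (commutatorElement_eq_one_iff_mul_comm.mp (mem_bot.mp
      (hb.le (commutator_mem_commutator x.2 y.2))))
  have hfix' : im D V ⊓ centralizer (im D (zpowers a) : Set (Quo D)) = ⊥ := by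
    have hcopa : (Nat.card (zpowers a)).Coprime (Nat.card V) := by
      obtain ⟨m, hm⟩ := IsPGroup.iff_card.mp hV
      rw [hm, Nat.card_zpowers]
      exact Nat.Coprime.coprime_dvd_left (orderOf_dvd_of_pow_eq_one ha)
        (((Nat.coprime_primes Fact.out Fact.out).mpr hqr.symm).pow_right m)
    have h1 := inf_centralizer_im (A := zpowers a) (X := V) haD' hVD hDV (zpowers_le.mpr haV)
      hcopa (Or.inl (Coprime.isSolvable_zpowers a))
    have hcopP : (Nat.card (im D P)).Coprime (Nat.card (im D V)) :=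
      ((hcop V hV).coprime_dvd_left (card_im_dvd P)).coprime_dvd_right (card_im_dvd V)
    obtain ⟨hdis, -⟩ := Coprime.abelian_decomposition (V := im D V) (A := im D P)
      (im_le_normalizer hVD hPD hPV) hcopP
    rw [← im_commutator hVD hPD, show ⁅V, P⁆ = V from hWeq] at hdis
    refine le_bot_iff.mp (le_trans ?_ hdis.le)
    refine le_inf (le_inf inf_le_left (h1.trans ?_)) inf_le_left
    rw [← commutator_eq_bot_iff_le_centralizer, ← im_commutator (inf_le_left.trans hVD) hPD,
      im_eq_bot_iff]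
    · rw [commutator_eq_bot_iff_le_centralizer.mpr ((inf_le_inf_left V ?_).trans hfix)]
      · exact bot_le
      · rw [H42.centralizer_zpowers']
    · exact (commutator_le.mpr fun x hx y hy => by
        rw [commutatorElement_def]
        exact mul_mem (mul_mem (mul_mem (hVD hx.1) (hPD hy)) (inv_mem (hVD hx.1))) (inv_mem (hPD hy)))
  have hzp : im D (zpowers a) = zpowers (cl D a haD) := by
    refine le_antisymm ?_ (zpowers_le.mpr (cl_mem_im (mem_zpowers a) haD))
    intro z hz
    obtain ⟨x, hx, hxa, rfl⟩ := mem_im.mp hz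
    obtain ⟨i, rfl⟩ := hxa
    exact ⟨i, (map_zpow (QuotientGroup.mk' (D.subgroupOf (normalizer (D : Set G))))
      ⟨a, haD⟩ i).symm⟩
  have hC := commutator_le_centralizer_of_fpf hpq hpr (im_isPGroup hP) (im_isMulCommutative hPc)
    (im_isPGroup hV) (d := cl D a haD) (by rw [cl_pow, cl_eq_one_iff, ha]; exact one_mem D)
    (im_le_normalizer (hPD) (zpowers_le.mpr haD) (zpowers_le.mpr haP) (cl_mem_im (mem_zpowers a) haD))
    (im_le_normalizer hVD haD' (zpowers_le.mpr haV) (cl_mem_im (mem_zpowers a) haD))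
    (im_le_normalizer hVD hPD hPV)
    (by rw [← H42.centralizer_zpowers', ← hzp]; exact hfix')
  rw [← hzp, ← im_commutator hPD haD'] at hC
  have hC' : ⁅V, P⁆ ≤ D := by
    rw [← im_eq_bot_iff, im_commutator hVD hPD, commutator_eq_bot_iff_le_centralizer,
      le_centralizer_iff]
    · exact (im_mono hPa).trans hC
    · exact hWV.trans hVD
  have hV1 : V = ⊥ := by
    have := eq_of_sup_commutator hV (bot_le : ⊥ ≤ V) (le_antisymm (sup_le bot_le hDV)
      ((hWeq.ge.trans hC').trans le_sup_right))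
    exact this.symm
  rw [hV1, ← commutator_eq_bot_iff_le_centralizer, commutator_bot_right]

/-- The nilpotent version. -/
theorem le_centralizer_of_fixed_nilpotent {p r : ℕ} [Fact p.Prime] [Fact r.Prime] (hpr : p ≠ r)
    {P V : Subgroup G} (hP : IsPGroup p P) (hPc : IsMulCommutative P) (hV : Group.IsNilpotent V)
    (hVp : (Nat.card V).Coprime p) (hVr : (Nat.card V).Coprime r) {a : G} (ha : a ^ r = 1)
    (haP : a ∈ normalizer (P : Set G)) (haV : a ∈ normalizer (V : Set G))
    (hPV : P ≤ normalizer (V : Set G)) (hPa : P ≤ ⁅P, zpowers a⁆)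
    (hfix : V ⊓ centralizer {a} ≤ centralizer (P : Set G)) : P ≤ centralizer (V : Set G) := by
  rw [le_centralizer_iff]
  refine Coprime.le_of_forall_sylow_le fun x hx Q hQV hQ => ?_
  haveI := Fact.mk hx
  by_cases hxd : x ∣ Nat.card V
  · have hxp : x ≠ p := fun h =>
      (Fact.out : p.Prime).ne_one (Nat.eq_one_of_dvd_coprimes hVp (h ▸ hxd) dvd_rfl)
    have hxr : x ≠ r := fun h =>
      (Fact.out : r.Prime).ne_one (Nat.eq_one_of_dvd_coprimes hVr (h ▸ hxd) dvd_rfl)
    haveI := hV
    have hle : Q ≤ Cfsg.pCoreOf x V := by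
      obtain ⟨S, hS⟩ := (hQ.comap_subtype (K := V)).exists_le_sylow
      intro z hz
      exact (mk_mem_map (hQV hz)).mpr (Cores.le_pCore S.isPGroup' (hS (mem_subgroupOf.mpr hz)))
    have hW := le_centralizer_of_fixed hxp.symm hpr hxr hP hPc (H60.pCoreOf_isPGroup (p := x) V) ha haP
      (H60.normalizer_le_normalizer_pCoreOf V haV)
      (hPV.trans (H60.normalizer_le_normalizer_pCoreOf V)) hPa
      ((inf_le_inf_right _ (H60.pCoreOf_le V)).trans hfix)
    exact hle.trans (le_centralizer_iff.mp hW)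
  · have : Q = ⊥ := by
      obtain ⟨n, hn⟩ := IsPGroup.iff_card.mp hQ
      rcases n with _ | n
      · exact Subgroup.eq_bot_of_card_eq _ (by simpa using hn)
      · exact absurd ((hn ▸ dvd_pow_self x n.succ_ne_zero).trans (card_dvd_of_le hQV)) hxd
    rw [this]; exact bot_le

end Cfsg.Agent.Signalizer.TwoPrimes
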