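import Cfsg.Agent.Signalizer.NormOrbit
import Cfsg.Agent.Thompson.Jay
import Cfsg.Agent.Thompson.Replacement
import Cfsg.Agent.H48.SylowIn

/-!
For odd `p`, the fixed points of a Sylow `p`-subgroup `T` on an abelian normal `p`-subgroup are controlled
by the normalizer of the Thompson subgroup of `T`; hence isolated elements of a Sylow `p`-subgroup `S` are
exactly the elements of `Z(S)` centralized by `N(J(S))`.
-/

set_option autoImplicit false

namespace Cfsg.Agent.Signalizer.NormControl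

open Subgroup
open Cfsg.Agent.Thompson (maxIn jay)
open Cfsg.Agent.H48 (cj IsSylowIn cj_le)

variable {G : Type*} [Group G] [Finite G] {p : ℕ} [Fact p.Prime]

omit [Finite G] in
theorem conj_pow_of_quadratic {a v c : G} (hc : c = a * v * a⁻¹ * v⁻¹) (hac : Commute a c) :
    ∀ i : ℕ, a ^ i * v * (a ^ i)⁻¹ = c ^ i * v
  | 0 => by simp
  | i + 1 => by
    have h1 : a * c ^ i * a⁻¹ = c ^ i := by
      rw [(hac.pow_right i).eq, mul_inv_cancel_right]
    have h2 : a * v * a⁻¹ = c * v := by rw [hc]; group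
    calc a ^ (i + 1) * v * (a ^ (i + 1))⁻¹ = a * (a ^ i * v * (a ^ i)⁻¹) * a⁻¹ := by
          rw [pow_succ']; group
      _ = (a * c ^ i * a⁻¹) * (a * v * a⁻¹) := by rw [conj_pow_of_quadratic hc hac i]; group
      _ = c ^ (i + 1) * v := by rw [h1, h2, pow_succ, mul_assoc]

/-- Fixed points on an abelian normal subgroup, one step: `x ^ p` is already fixed. -/
theorem fixed_step (hp2 : p ≠ 2) (x : G) : ∀ (n : ℕ) (H D T : Subgroup G),
    Nat.card H + Nat.card D ≤ n → IsSylowIn p T H → D ≤ T →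
    (∀ a ∈ D, ∀ b ∈ D, a * b = b * a) → H ≤ normalizer (D : Set G) → x ∈ D →
    (∀ t ∈ T, t * x = x * t) → (∀ h ∈ H, h * x ^ p = x ^ p * h) →
    (∀ h ∈ H, h ∈ normalizer (jay 0 T : Set G) → h * x = x * h) →
    ∀ h ∈ H, h * x = x * h := by
  intro n
  induction n with
  | zero => intro H D T hn; have := Nat.card_pos (α := H); omega
  | succ n ih =>
  intro H D T hn hT hDT hDab hHD hxD hxT hxp hxJ
  have hp : p.Prime := Fact.out
  have hD : ∀ h ∈ H, ∀ d ∈ D, h * d * h⁻¹ ∈ D := fun h hh d hd =>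
    (mem_normalizer_iff.mp (hHD hh) d).mp hd
  let V : Subgroup G :=
    { carrier := {d | d ∈ D ∧ d ^ p = 1}
      one_mem' := ⟨one_mem D, one_pow p⟩
      mul_mem' := fun {a b} ha hb => ⟨mul_mem ha.1 hb.1, by
        rw [Commute.mul_pow (hDab a ha.1 b hb.1), ha.2, hb.2, one_mul]⟩
      inv_mem' := fun {a} ha => ⟨inv_mem ha.1, by rw [inv_pow, ha.2, inv_one]⟩ }
  have hVab : ∀ a ∈ V, ∀ b ∈ V, a * b = b * a := fun a ha b hb => hDab a ha.1 b hb.1
  have hV : ∀ h ∈ H, ∀ v ∈ V, h * v * h⁻¹ ∈ V := fun h hh v hv =>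
    ⟨hD h hh v hv.1, by rw [conj_pow, hv.2, mul_one, mul_inv_cancel]⟩
  have hVT : V ≤ T := fun v hv => hDT hv.1
  -- the cocycle
  have hy : ∀ h ∈ H, h * x * h⁻¹ * x⁻¹ ∈ V := fun h hh => by
    refine ⟨mul_mem (hD h hh x hxD) (inv_mem hxD), ?_⟩
    rw [Commute.mul_pow (hDab _ (hD h hh x hxD) _ (inv_mem hxD)), conj_pow, hxp h hh, inv_pow]
    group
  by_cases hJV : ∀ A ∈ maxIn 0 T, A ≤ centralizer (V : Set G)
  · -- `J(T)` centralizes `V`
    set C := H ⊓ centralizer (V : Set G) with hC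
    have hCn : ∀ h ∈ H, ∀ c ∈ C, h * c * h⁻¹ ∈ C := fun h hh c hc => by
      refine ⟨H.mul_mem (H.mul_mem hh hc.1) (H.inv_mem hh), mem_centralizer_iff.mpr fun v hv => ?_⟩
      have h1 := mem_centralizer_iff.mp hc.2 (h⁻¹ * v * h) (by simpa using hV h⁻¹ (inv_mem hh) v hv)
      calc v * (h * c * h⁻¹) = h * (h⁻¹ * v * h * c) * h⁻¹ := by group
        _ = h * c * h⁻¹ * v := by rw [h1]; group
    obtain ⟨R, hR, -⟩ := H48.exists_isSylowIn_ge (p := p) (Q := (⊥ : Subgroup G)) IsPGroup.of_bot (bot_le (a := C))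
    obtain ⟨u, hu, huR⟩ := hT.exists_cj_le hR.isPGroup (hR.le.trans inf_le_left)
    have hTC : IsSylowIn p (T ⊓ C) C := by
      refine hR.of_card inf_le_right (hT.isPGroup.to_le inf_le_left) ?_
      rw [← H48.card_cj u R]
      exact Subgroup.card_le_of_le (le_inf huR (cj_le.mpr fun r hr => hCn u hu r (hR.le hr)))
    have hJ : jay 0 (T ⊓ C) = jay 0 T := Thompson.jay_eq_of_le
      (sSup_le fun A hA => le_inf hA.1 (le_inf (hA.1.trans hT.le) (hJV A hA))) inf_le_left
    -- the cocycle restricted to `C` is a homomorphism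
    let ψ : C →* V := MonoidHom.mk' (fun c => ⟨(c : G) * x * (c : G)⁻¹ * x⁻¹, hy c c.2.1⟩) fun c d => by
      apply Subtype.ext
      show (c : G) * d * x * ((c : G) * d)⁻¹ * x⁻¹ =
        (c : G) * x * (c : G)⁻¹ * x⁻¹ * ((d : G) * x * (d : G)⁻¹ * x⁻¹)
      have h1 := mem_centralizer_iff.mp c.2.2 _ (hy d d.2.1)
      rw [hVab _ (hy c c.2.1) _ (hy d d.2.1)]
      calc (c : G) * d * x * ((c : G) * d)⁻¹ * x⁻¹
          = (c : G) * ((d : G) * x * (d : G)⁻¹ * x⁻¹) * (x * (c : G)⁻¹ * x⁻¹) := by group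
        _ = _ := by rw [← h1]; group
    have hψ : ψ.range = ⊥ := by
      have h1 : (T ⊓ C).subgroupOf C ≤ ψ.ker := fun c hc => by
        rw [MonoidHom.mem_ker]
        apply Subtype.ext
        show (c : G) * x * (c : G)⁻¹ * x⁻¹ = 1
        rw [hxT c hc.1]; group
      have h2 : ¬ p ∣ Nat.card ψ.range := fun hd =>
        hTC.ndvd (hd.trans ((Subgroup.index_ker ψ) ▸ Subgroup.index_dvd_of_le h1))
      obtain ⟨k, hk⟩ := IsPGroup.iff_card.mp ((hT.isPGroup.to_le hVT).to_subgroup ψ.range)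
      rw [hk] at h2
      have hk0 : k = 0 := by
        by_contra h
        exact h2 (dvd_pow_self p h)
      rw [← Subgroup.card_eq_one, hk, hk0, pow_zero]
    have hCx : ∀ c ∈ C, c * x = x * c := fun c hc => by
      have h1 : ψ ⟨c, hc⟩ = 1 := by
        have : ψ ⟨c, hc⟩ ∈ ψ.range := ⟨_, rfl⟩
        rwa [hψ, mem_bot] at this
      have h2 : c * x * c⁻¹ * x⁻¹ = 1 := congrArg Subtype.val h1
      exact mul_inv_eq_iff_eq_mul.mp (mul_inv_eq_one.mp h2)
    intro h hh
    have hcC : cj h C = C := H48.cj_eq_self_of_le (cj_le.mpr (hCn h hh))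
    obtain ⟨c, hc, hcT⟩ := (hcC ▸ hTC.cj h).exists_conj hTC
    rw [H48.cj_cj] at hcT
    have h1 := hxJ (c * h) (mul_mem hc.1 hh)
      (hJ ▸ Thompson.normalizer_le_normalizer_jay 0 (T ⊓ C) (H48.mem_normalizer_of_cj_eq hcT))
    calc h * x = c⁻¹ * (c * h * x) := by group
      _ = c⁻¹ * (x * c) * h := by rw [h1]; group
      _ = x * h := by rw [← hCx c hc]; group
  · -- offenders act quadratically
    push Not at hJV
    set F : Set (Subgroup G) := {A | A ∈ maxIn 0 T ∧
      ∀ v ∈ V, ∀ a ∈ A, Commute a (a * v * a⁻¹ * v⁻¹)} with hF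
    obtain ⟨A, hAF, hAV⟩ : ∃ A ∈ F, ¬ A ≤ centralizer (V : Set G) := by
      obtain ⟨A, ⟨hA, hAV⟩, hmax⟩ := Set.exists_max_image
        {A | A ∈ maxIn 0 T ∧ ¬ A ≤ centralizer (V : Set G)}
        (fun A => Nat.card ↥(A ⊓ V)) (Set.toFinite _) hJV
      refine ⟨A, ⟨hA, fun v hv a ha => ?_⟩, hAV⟩
      have hVA : V ≤ normalizer (A : Set G) := by
        by_contra hn
        have hcV : ⁅V, V⁆ = ⊥ := by
          rw [commutator_eq_bot_iff_le_centralizer]
          exact fun a ha => mem_centralizer_iff.mpr fun b hb => hVab b hb a ha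
        obtain ⟨A', hA'T, hA'e, hA'c, hlt, hA'N, -⟩ := Thompson.replacement (p := p) (.inl hp2) (.inl rfl)
          hT.isPGroup hVT (fun t ht => mem_normalizer_iff.mpr fun v => ⟨hV t (hT.le ht) v, fun hv => by
            simpa [mul_assoc] using hV t⁻¹ (inv_mem (hT.le ht)) _ hv⟩) hA.1 hA.2.1
          (by rw [hcV, commutator_bot_left]) (by rw [hcV]; exact bot_le) hn
        have hA'm := Thompson.mem_maxIn_of_card_eq hA hA'T hA'e hA'c
        by_cases h : A' ≤ centralizer (V : Set G)
        · refine hn fun v hv => hA'N (Thompson.mem_of_mem_centralizer hA'm (hVT hv) ?_ (pow_zero v))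
          exact mem_centralizer_iff.mpr fun a ha => (mem_centralizer_iff.mp (h ha) v hv).symm
        · have h1 := hmax A' ⟨hA'm, h⟩
          exact hlt.ne (Subgroup.eq_of_le_of_card_ge hlt.le h1)
      refine hA.2.1.comm ha ?_
      have : a * (v * a⁻¹ * v⁻¹) ∈ A :=
        mul_mem ha ((mem_normalizer_iff.mp (hVA hv) a⁻¹).mp (inv_mem ha))
      simpa [mul_assoc] using this
    set gen : Set G := {a | ∃ A ∈ F, a ∈ A}
    set E := closure gen with hE
    have hET : E ≤ T := (closure_le _).mpr fun a ⟨B, hB, ha⟩ => hB.1.1 ha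
    have hweak : ∀ h ∈ H, cj h E ≤ T → h ∈ normalizer (E : Set G) := by
      intro h hh hle
      refine H48.mem_normalizer_of_cj_eq (H48.cj_eq_self_of_le ?_)
      rw [hE, cj, MonoidHom.map_closure, closure_le]
      rintro _ ⟨a, ⟨B, hB, ha⟩, rfl⟩
      have hBT : cj h B ≤ T :=
        le_trans (H48.cj_mono (fun b hb => subset_closure ⟨B, hB, hb⟩ : B ≤ E)) hle
      refine subset_closure ⟨cj h B, ⟨Thompson.mem_maxIn_of_card_eq hB.1 hBT
        ((Thompson.isAbExp_map_iff _ (MulAut.conj h).injective).mpr hB.1.2.1) (H48.card_cj h B), ?_⟩,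
        H48.conj_mem_cj ha⟩
      intro v hv a' ha'
      rw [H48.mem_cj] at ha'
      have hv' : h⁻¹ * v * h ∈ V := by simpa using hV h⁻¹ (inv_mem hh) v hv
      have h1 := (hB.2 _ hv' _ ha').map (MulAut.conj h).toMonoidHom
      convert h1 using 1 <;> simp [mul_assoc]
    by_cases hHE : H ≤ normalizer (E : Set G)
    · -- shrink `D`
      have hlt : D ⊓ centralizer (E : Set G) < D := by
        refine lt_of_le_of_ne inf_le_left fun h => hAV fun a ha => mem_centralizer_iff.mpr fun v hv => ?_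
        exact (mem_centralizer_iff.mp ((inf_eq_left.mp h) hv.1) a (subset_closure ⟨A, hAF, ha⟩)).symm
      have hlt' : Nat.card ↥(D ⊓ centralizer (E : Set G)) < Nat.card D := by
        refine lt_of_le_of_ne (Subgroup.card_le_of_le inf_le_left) fun h => hlt.ne ?_
        exact Subgroup.eq_of_le_of_card_ge inf_le_left h.ge
      refine ih H (D ⊓ centralizer (E : Set G)) T (by omega) hT (inf_le_left.trans hDT)
        (fun a ha b hb => hDab a ha.1 b hb.1) (fun h hh => ?_)
        ⟨hxD, mem_centralizer_iff.mpr fun e he => hxT e (hET he)⟩ hxT hxp hxJ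
      refine H48.mem_normalizer_of_cj_eq (H48.cj_eq_self_of_le (cj_le.mpr fun d hd =>
        ⟨hD h hh d hd.1, mem_centralizer_iff.mpr fun e he => ?_⟩))
      have he' : h⁻¹ * e * h ∈ E := by
        simpa using (mem_normalizer_iff.mp (inv_mem (hHE hh)) e).mp he
      calc e * (h * d * h⁻¹) = h * (h⁻¹ * e * h * d) * h⁻¹ := by group
        _ = h * d * h⁻¹ * e := by rw [mem_centralizer_iff.mp hd.2 _ he']; group
    · -- shrink `H`, then take norms
      have hTE : T ≤ normalizer (E : Set G) := fun t ht => hweak t (hT.le ht) (cj_le.mpr fun e he =>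
        mul_mem (mul_mem ht (hET he)) (inv_mem ht))
      set K := H ⊓ normalizer (E : Set G) with hK
      have hlt : Nat.card K < Nat.card H := by
        refine lt_of_le_of_ne (Subgroup.card_le_of_le inf_le_left) fun h => hHE ?_
        exact inf_eq_left.mp (Subgroup.eq_of_le_of_card_ge inf_le_left h.ge)
      have hKx : ∀ h ∈ K, h * x = x * h := ih K D T (by omega)
        (⟨le_inf hT.le hTE, hT.isPGroup, fun hd => hT.ndvd (hd.trans
            (Dvd.intro _ (Subgroup.relIndex_mul_relIndex T K H (le_inf hT.le hTE) inf_le_left)))⟩)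
        hDT hDab (inf_le_left.trans hHD) hxD hxT (fun h hh => hxp h hh.1) (fun h hh => hxJ h hh.1)
      letI : CommGroup V :=
        { (inferInstance : Group V) with mul_comm := fun a b => Subtype.ext (hVab a a.2 b b.2) }
      letI : Fintype (H ⧸ T.subgroupOf H) := Fintype.ofFinite _
      let actH : H →* MulAut V :=
        { toFun := fun h =>
            { toFun := fun v => ⟨h * v * (h : G)⁻¹, hV h h.2 v v.2⟩
              invFun := fun v => ⟨(h : G)⁻¹ * v * h, by simpa using hV (h : G)⁻¹ (inv_mem h.2) v v.2⟩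
              left_inv := fun v => Subtype.ext (by simp [mul_assoc])
              right_inv := fun v => Subtype.ext (by simp [mul_assoc])
              map_mul' := fun u v => Subtype.ext (by simp [mul_assoc]) }
          map_one' := MulEquiv.ext fun v => Subtype.ext (by simp)
          map_mul' := fun a b => MulEquiv.ext fun v => Subtype.ext (by simp [mul_assoc]) }
      have hEH : E ≤ H := hET.trans hT.le
      letI : MulAction E (H ⧸ T.subgroupOf H) := MulAction.compHom _ (Subgroup.inclusion hEH)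
      let y : H ⧸ T.subgroupOf H → V := fun q => Quotient.liftOn' q
        (fun h => ⟨(h : G) * x * (h : G)⁻¹ * x⁻¹, hy h h.2⟩) (fun a b hab => by
          rw [QuotientGroup.leftRel_apply, mem_subgroupOf] at hab
          push_cast at hab
          have h1 := hxT _ hab
          refine Subtype.ext ?_
          show (a : G) * x * (a : G)⁻¹ * x⁻¹ = (b : G) * x * (b : G)⁻¹ * x⁻¹
          congr 1
          calc (a : G) * x * (a : G)⁻¹ = a * (x * ((a : G)⁻¹ * b)) * (b : G)⁻¹ := by group
            _ = b * x * (b : G)⁻¹ := by rw [← h1]; group)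
      have hyval : ∀ h : H, ((y h : V) : G) = h * x * (h : G)⁻¹ * x⁻¹ := fun h => rfl
      have hprod : ∏ q, y q = 1 := by
        refine prod_eq_one_of_norm (p := p) (hT.isPGroup.to_le hET) (actH.comp (Subgroup.inclusion hEH))
          (((↑) : E → G) ⁻¹' gen) closure_closure_coe_preimage ?_ y ?_ ?_
        · rintro a ⟨B, hB, haB⟩ v
          set c : G := (a : G) * v * (a : G)⁻¹ * (v : G)⁻¹ with hc
          have hcV : c ∈ V := mul_mem (hV _ (hEH a.2) v v.2) (inv_mem v.2)
          have hval : ∀ i : ℕ, (actH.comp (Subgroup.inclusion hEH)) (a ^ i) v = ⟨c, hcV⟩ ^ i * v := by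
            intro i
            apply Subtype.ext
            rw [Subgroup.coe_mul, Subgroup.coe_pow, ← conj_pow_of_quadratic hc (hB.2 v v.2 a haB) i]
            simp [actH]
          rw [Finset.prod_congr rfl fun i _ => hval i, Finset.prod_mul_distrib,
            Finset.prod_pow_eq_pow_sum, Finset.prod_const, Finset.card_range]
          obtain ⟨k, hk⟩ : p ∣ ∑ i ∈ Finset.range p, i := by
            refine (Nat.Coprime.dvd_of_dvd_mul_right (hp.coprime_iff_not_dvd.mpr fun h => hp2
              ((Nat.prime_dvd_prime_iff_eq hp Nat.prime_two).mp h)) ?_)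
            rw [Finset.sum_range_id_mul_two]
            exact dvd_mul_right p _
          apply Subtype.ext
          rw [Subgroup.coe_mul, Subgroup.coe_pow, Subgroup.coe_pow, hk, pow_mul, hcV.2, v.2.2,
            one_pow, one_mul, Subgroup.coe_one]
        · intro e q
          induction q using QuotientGroup.induction_on with | _ h => ?_
          apply Subtype.ext
          show (e : G) * h * x * ((e : G) * h)⁻¹ * x⁻¹ =
            (e : G) * ((h : G) * x * (h : G)⁻¹ * x⁻¹) * (e : G)⁻¹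
          have h1 : x⁻¹ * (e : G)⁻¹ = (e : G)⁻¹ * x⁻¹ := by
            rw [← mul_inv_rev, ← mul_inv_rev, hxT e (hET e.2)]
          calc (e : G) * h * x * ((e : G) * h)⁻¹ * x⁻¹
              = (e : G) * h * x * (h : G)⁻¹ * ((e : G)⁻¹ * x⁻¹) := by group
            _ = _ := by rw [← h1]; group
        · intro q hq
          induction q using QuotientGroup.induction_on with | _ h => ?_
          have h1 : cj (h : G)⁻¹ E ≤ T := cj_le.mpr fun e he => by
            have h2 : ((Subgroup.inclusion hEH ⟨e, he⟩ * h : H) : H ⧸ T.subgroupOf H) = h := hq ⟨e, he⟩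
            rw [QuotientGroup.eq, mem_subgroupOf] at h2
            simpa [mul_assoc] using inv_mem h2
          have h3 := hKx h ⟨h.2, (Subgroup.inv_mem_iff (normalizer (E : Set G))).mp (hweak _ (H.inv_mem h.2) h1)⟩
          apply Subtype.ext
          rw [hyval, h3, Subgroup.coe_one]
          group
      intro h hh
      have h1 : ∀ q, y ((⟨h, hh⟩ : H) • q) = actH ⟨h, hh⟩ (y q) * y (QuotientGroup.mk ⟨h, hh⟩) := by
        intro q
        induction q using QuotientGroup.induction_on with | _ k => ?_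
        apply Subtype.ext
        show h * (k : G) * x * (h * (k : G))⁻¹ * x⁻¹ =
          h * ((k : G) * x * (k : G)⁻¹ * x⁻¹) * h⁻¹ * (h * x * h⁻¹ * x⁻¹)
        group
      have h2 : y (QuotientGroup.mk ⟨h, hh⟩) ^ Fintype.card (H ⧸ T.subgroupOf H) = 1 := by
        have := Equiv.prod_comp (MulAction.toPerm (⟨h, hh⟩ : H)) y
        simp only [MulAction.toPerm_apply] at this
        rwa [Finset.prod_congr rfl fun q _ => h1 q, Finset.prod_mul_distrib, ← map_prod, hprod, map_one,
          one_mul, Finset.prod_const, Finset.card_univ] at this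
      have h3 : y (QuotientGroup.mk ⟨h, hh⟩) = 1 := by
        have h4 : y (QuotientGroup.mk ⟨h, hh⟩) ^ p = 1 := Subtype.ext (hy h hh).2
        have hco : Nat.Coprime p (Fintype.card (H ⧸ T.subgroupOf H)) := by
          rw [← Nat.card_eq_fintype_card]
          exact hp.coprime_iff_not_dvd.mpr hT.ndvd
        have := (pow_gcd_eq_one (m := p) (n := Fintype.card (H ⧸ T.subgroupOf H))).mpr ⟨h4, h2⟩
        rwa [hco.gcd_eq_one, pow_one] at this
      have h5 : h * x * h⁻¹ * x⁻¹ = 1 := congrArg Subtype.val h3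
      exact mul_inv_eq_iff_eq_mul.mp (mul_inv_eq_one.mp h5)

/-- Fixed points of a Sylow subgroup on an abelian normal `p`-subgroup are controlled by the
normalizer of the Thompson subgroup, `p` odd. -/
theorem fixed_of_normalizer_jay (hp2 : p ≠ 2) {H D T : Subgroup G} (hT : IsSylowIn p T H)
    (hDT : D ≤ T) (hDab : ∀ a ∈ D, ∀ b ∈ D, a * b = b * a) (hHD : H ≤ normalizer (D : Set G)) :
    ∀ x ∈ D, (∀ t ∈ T, t * x = x * t) →
      (∀ h ∈ H, h ∈ normalizer (jay 0 T : Set G) → h * x = x * h) → ∀ h ∈ H, h * x = x * h := by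
  intro x
  induction hk : orderOf x using Nat.strong_induction_on generalizing x with
  | _ k ih =>
  subst hk
  intro hxD hxT hxJ
  refine fixed_step hp2 x (Nat.card H + Nat.card D) H D T le_rfl hT hDT hDab hHD hxD hxT
    (fun h hh => ?_) hxJ
  by_cases hx1 : x = 1
  · simp [hx1]
  have hp : p.Prime := Fact.out
  obtain ⟨j, hj⟩ := hT.isPGroup ⟨x, hDT hxD⟩
  have hj' : x ^ p ^ j = 1 := congrArg Subtype.val hj
  obtain ⟨i, -, hi⟩ := (Nat.dvd_prime_pow hp).mp (orderOf_dvd_of_pow_eq_one hj')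
  have hi0 : i ≠ 0 := fun h => hx1 (orderOf_eq_one_iff.mp (by rw [hi, h, pow_zero]))
  have hlt : orderOf (x ^ p) < orderOf x := by
    rw [orderOf_pow_of_dvd hp.ne_zero (hi ▸ dvd_pow_self p hi0)]
    exact Nat.div_lt_self (orderOf_pos x) hp.one_lt
  exact ih _ hlt (x ^ p) rfl (pow_mem hxD p) (fun t ht => (Commute.pow_right (hxT t ht) p).eq)
    (fun g hg hgN => (Commute.pow_right (hxJ g hg hgN) p).eq) h hh

/-- Conjugation into `S` of large subgroups containing `x` fixes `x`. -/
theorem conj_fix (S : Sylow p G) {x : G}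
    (hxS : ∀ s ∈ (S : Subgroup G), s * x = x * s) (m : ℕ)
    (hN : ∀ Q ≤ (S : Subgroup G), x ∈ Q → m ≤ Nat.card Q →
      ∀ g ∈ normalizer (Q : Set G), g * x = x * g) :
    ∀ (n : ℕ) (Q : Subgroup G), Nat.card (S : Subgroup G) ≤ Nat.card Q + n → Q ≤ (S : Subgroup G) →
      x ∈ Q → m ≤ Nat.card Q → ∀ g : G, cj g Q ≤ (S : Subgroup G) → g * x = x * g := by
  intro n
  induction n with
  | zero =>
    intro Q hn hQS hxQ hm g hg
    obtain rfl := Subgroup.eq_of_le_of_card_ge hQS (by omega)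
    exact hN _ le_rfl hxQ hm g (H48.mem_normalizer_of_cj_eq (H48.cj_eq_self_of_le hg))
  | succ n ih =>
    intro Q hn hQS hxQ hm g hg
    by_cases hQ : Q = (S : Subgroup G)
    · subst hQ
      exact hN _ le_rfl hxQ hm g (H48.mem_normalizer_of_cj_eq (H48.cj_eq_self_of_le hg))
    have hN' : ∀ R : Subgroup G, R ≤ (S : Subgroup G) →
        x ∈ normalizer (R : Set G) → Nat.card R = Nat.card Q → ∀ k : G,
        cj k ((S : Subgroup G) ⊓ normalizer (R : Set G)) ≤ (S : Subgroup G) → k * x = x * k := by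
      intro R hRS hxR hRQ k hk
      have hlt := H48.card_lt_card_inf_normalizer S.isPGroup' hRS fun h => hQ
        (Subgroup.eq_of_le_of_card_ge hQS (by rw [← hRQ, h]))
      exact ih _ (by omega) inf_le_left ⟨hQS hxQ, hxR⟩ (by omega) k hk
    have hxN : ∀ R : Subgroup G, R ≤ (S : Subgroup G) → x ∈ normalizer (R : Set G) := fun R hR =>
      centralizer_le_normalizer _ (mem_centralizer_iff.mpr fun y hy => hxS y (hR hy))
    obtain ⟨U, hU, hTU⟩ := H48.exists_isSylowIn_ge (S.isPGroup'.to_le inf_le_left)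
      (inf_le_right : (S : Subgroup G) ⊓ normalizer (Q : Set G) ≤ normalizer (Q : Set G))
    obtain ⟨h, -, hhU⟩ := (H48.isSylowIn_sylow S).exists_cj_le hU.isPGroup le_top
    have hhx := hN' Q hQS (hxN Q hQS) rfl h ((H48.cj_mono hTU).trans hhU)
    set Q₁ := cj h Q
    have hQU : Q ≤ U := le_trans (le_inf hQS le_normalizer) hTU
    have hQ₁S : Q₁ ≤ (S : Subgroup G) := (H48.cj_mono hQU).trans hhU
    have hxQ₁ : x ∈ Q₁ := by
      rw [H48.mem_cj, mul_assoc, ← hhx, inv_mul_cancel_left]
      exact hxQ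
    have hu : cj (g * h⁻¹) Q₁ = cj g Q := by rw [H48.cj_cj, inv_mul_cancel_right]
    set T' := (S : Subgroup G) ⊓ normalizer (cj g Q : Set G)
    have hsyl : IsSylowIn p (cj h U) (normalizer (Q₁ : Set G)) := by
      rw [← H48.cj_normalizer]; exact hU.cj h
    have hle : cj (g * h⁻¹)⁻¹ T' ≤ normalizer (Q₁ : Set G) := by
      refine le_trans (H48.cj_mono inf_le_right) (le_of_eq ?_)
      rw [H48.cj_normalizer, ← hu, H48.cj_inv_cj]
    obtain ⟨k, hk, hkT⟩ := hsyl.exists_cj_le (H48.isPGroup_cj (S.isPGroup'.to_le inf_le_left)) hle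
    rw [H48.cj_cj] at hkT
    have hvx := hN' (cj g Q) hg (hxN _ hg) (H48.card_cj g Q) (k * (g * h⁻¹)⁻¹) (hkT.trans hhU)
    have hkx := hN Q₁ hQ₁S hxQ₁ (by rwa [H48.card_cj]) k hk
    have hgx : g * h⁻¹ = (k * (g * h⁻¹)⁻¹)⁻¹ * k := by group
    have h1 : Commute (g * h⁻¹) x := by
      rw [hgx]; exact (Commute.inv_left hvx).mul_left hkx
    have h2 : Commute (g * h⁻¹ * h) x := h1.mul_left hhx
    rw [inv_mul_cancel_right] at h2
    exact h2

/-- For odd `p`, normalizers of subgroups of `S` containing `x` fix `x`. -/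
theorem normalizer_fix (hp2 : p ≠ 2) (S : Sylow p G) {x : G} (hx : x ∈ (S : Subgroup G))
    (hxS : ∀ s ∈ (S : Subgroup G), s * x = x * s)
    (hJ : ∀ g ∈ normalizer (jay 0 (S : Subgroup G) : Set G), g * x = x * g) :
    ∀ (n : ℕ) (Q : Subgroup G), Nat.card (S : Subgroup G) ≤
        Nat.card ↥((S : Subgroup G) ⊓ normalizer (Q : Set G)) + n →
      Q ≤ (S : Subgroup G) → x ∈ Q → ∀ g ∈ normalizer (Q : Set G), g * x = x * g := by
  intro n
  induction n using Nat.strong_induction_on with
  | _ n ih =>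
  intro Q hn hQS hxQ g hg
  set T := (S : Subgroup G) ⊓ normalizer (Q : Set G) with hT
  have hTS : T ≤ (S : Subgroup G) := inf_le_left
  have hxT : x ∈ T := ⟨hx, le_normalizer hxQ⟩
  have key : ∀ R ≤ (S : Subgroup G), x ∈ R →
      Nat.card T < Nat.card ↥((S : Subgroup G) ⊓ normalizer (R : Set G)) →
      ∀ g ∈ normalizer (R : Set G), g * x = x * g := fun R hR hxR hlt =>
    ih (Nat.card (S : Subgroup G) - Nat.card ↥((S : Subgroup G) ⊓ normalizer (R : Set G)))
      (by have := Subgroup.card_le_of_le (inf_le_left : (S : Subgroup G) ⊓ normalizer (R : Set G) ≤ S)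
          omega) R (by omega) hR hxR
  obtain ⟨U, hU, hTU⟩ := H48.exists_isSylowIn_ge (S.isPGroup'.to_le hTS)
    (inf_le_right : T ≤ normalizer (Q : Set G))
  by_cases hUT : Nat.card T < Nat.card U
  · obtain ⟨h, -, hhU⟩ := (H48.isSylowIn_sylow S).exists_cj_le hU.isPGroup le_top
    have hTne : T ≠ (S : Subgroup G) := fun h' => by
      rw [h', ← H48.card_cj h U] at hUT
      exact absurd (Subgroup.card_le_of_le hhU) (not_le.mpr hUT)
    have hhx : h * x = x * h := by
      refine conj_fix S hxS (Nat.card T) (fun R hR hxR hTR => ?_) (Nat.card (S : Subgroup G)) T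
        (by omega) hTS hxT le_rfl h ((H48.cj_mono hTU).trans hhU)
      refine key R hR hxR ?_
      by_cases hRS : R = (S : Subgroup G)
      · subst hRS
        rw [inf_eq_left.mpr le_normalizer]
        refine lt_of_le_of_ne (Subgroup.card_le_of_le hTS) fun h' => hTne ?_
        exact Subgroup.eq_of_le_of_card_ge hTS h'.ge
      · exact lt_of_le_of_lt hTR (H48.card_lt_card_inf_normalizer S.isPGroup' hR hRS)
    have hQU : Q ≤ U := le_trans (le_inf hQS le_normalizer) hTU
    have hxQ₁ : x ∈ cj h Q := by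
      rw [H48.mem_cj, mul_assoc, ← hhx, inv_mul_cancel_left]
      exact hxQ
    have hbig : cj h U ≤ (S : Subgroup G) ⊓ normalizer (cj h Q : Set G) :=
      le_inf hhU (by rw [← H48.cj_normalizer]; exact H48.cj_mono hU.le)
    have h1 := key (cj h Q) ((H48.cj_mono hQU).trans hhU) hxQ₁
      (by have := Subgroup.card_le_of_le hbig; rw [H48.card_cj] at this; omega) (h * g * h⁻¹)
      (by rw [← H48.cj_normalizer]; exact H48.conj_mem_cj hg)
    have h2 : Commute (h⁻¹ * (h * g * h⁻¹) * h) x :=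
      ((Commute.inv_left hhx).mul_left h1).mul_left hhx
    simpa [mul_assoc] using h2.eq
  · have hTeq : IsSylowIn p T (normalizer (Q : Set G)) :=
      hU.of_card inf_le_right (S.isPGroup'.to_le hTS) (not_lt.mp hUT)
    have hDT : Q ⊓ centralizer (Q : Set G) ≤ T :=
      inf_le_left.trans (le_inf hQS le_normalizer)
    refine fixed_of_normalizer_jay hp2 hTeq hDT (fun a ha b hb => mem_centralizer_iff.mp hb.2 a ha.1)
      (fun u hu => H48.mem_normalizer_of_cj_eq (H48.cj_eq_self_of_le (cj_le.mpr fun d hd =>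
        ⟨(mem_normalizer_iff.mp hu d).mp hd.1, mem_centralizer_iff.mpr fun q hq => ?_⟩)))
      x ⟨hxQ, mem_centralizer_iff.mpr fun q hq => hxS q (hQS hq)⟩
      (fun t ht => hxS t (hTS ht)) (fun u _ huJ => ?_) g hg
    · have hq' : u⁻¹ * q * u ∈ Q := by simpa using (mem_normalizer_iff.mp (inv_mem hu) q).mp hq
      calc q * (u * d * u⁻¹) = u * (u⁻¹ * q * u * d) * u⁻¹ := by group
        _ = u * d * u⁻¹ * q := by rw [mem_centralizer_iff.mp hd.2 _ hq']; group
    by_cases hTS' : T = (S : Subgroup G)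
    · exact hJ u (hTS' ▸ huJ)
    obtain ⟨B, hB⟩ := Thompson.maxIn_nonempty 0 T
    have hxJ : x ∈ jay 0 T := Thompson.le_jay hB (Thompson.mem_of_mem_centralizer hB hxT
      (mem_centralizer_iff.mpr fun b hb => hxS b (hTS (hB.1 hb))) (pow_zero x))
    refine key (jay 0 T) (Thompson.jay_le.trans hTS) hxJ ?_ u huJ
    exact lt_of_lt_of_le (H48.card_lt_card_inf_normalizer S.isPGroup' hTS hTS')
      (Subgroup.card_le_of_le (inf_le_inf le_rfl (Thompson.normalizer_le_normalizer_jay 0 T)))

/-- For odd `p`, an element of `Z(S)` centralized by `N(J(S))` is isolated in `S`. -/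
theorem isolated_of_normalizer_jay (hp2 : p ≠ 2) (S : Sylow p G) {x : G} (hx : x ∈ (S : Subgroup G))
    (hxS : ∀ s ∈ (S : Subgroup G), s * x = x * s)
    (hJ : ∀ g ∈ normalizer (jay 0 (S : Subgroup G) : Set G), g * x = x * g)
    {g : G} (hg : g * x * g⁻¹ ∈ (S : Subgroup G)) : g * x * g⁻¹ = x := by
  rw [mul_inv_eq_iff_eq_mul]
  refine conj_fix S hxS 0 (fun Q hQ hxQ _ => normalizer_fix hp2 S hx hxS hJ _ Q (Nat.le_add_left _ _) hQ hxQ)
    (Nat.card (S : Subgroup G)) (zpowers x) (Nat.le_add_left _ _) (zpowers_le.mpr hx) (mem_zpowers x)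
    (Nat.zero_le _) g ?_
  rw [cj, MonoidHom.map_zpowers, zpowers_le]
  exact hg

end Cfsg.Agent.Signalizer.NormControl
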