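import Cfsg.Agent.H31.FFAmbient
import Cfsg.Agent.H31.FFStructure
import Cfsg.Agent.H31.VSub
import Cfsg.Agent.Coprime.Action
import Cfsg.Agent.Cores.Constrained
import Cfsg.Agent.Components.PLocal
import Cfsg.Agent.Components.PAction
import Cfsg.Agent.H40.Generation
import Cfsg.Agent.S0600
import Cfsg.Agent.S0601
import Cfsg.Agent.S0602
import Cfsg.Agent.S0606
import Cfsg.Agent.S0608

/-!
Coprime action and failure of Thompson factorization: if an elementary abelian group `A` acts
coprimely on a `p`-solvable group `K` without `p'`-core and the fixed points normalize an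
`A`-invariant Sylow `p`-subgroup of `K`, then `K` is Thompson factorizable.
-/

set_option autoImplicit false
set_option linter.unusedSectionVars false
set_option linter.style.haveILetI false

namespace Cfsg.Agent.Signalizer.Offender

open Subgroup H31
open scoped commutatorElement

variable {G : Type*} [Group G] [Finite G] {p r : ℕ} [hp : Fact p.Prime] [hr' : Fact r.Prime]
  {V H A S : Subgroup G}

/-- Orbit counting for an `r`-group normalizing a subgroup. -/
theorem card_modEq_fixed {B X : Subgroup G} (hB : IsPGroup r B)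
    (hBX : B ≤ normalizer (X : Set G)) :
    Nat.card X ≡ Nat.card ↥(X ⊓ centralizer (B : Set G)) [MOD r] := by
  letI : MulAction B X :=
    MulAction.compHom X (X.normalizerMonoidHom.comp (Subgroup.inclusion hBX))
  refine (hB.card_modEq_card_fixedPoints X).trans (congrArg (fun n => n % r) (Nat.card_congr
    { toFun := fun x => ⟨(x.1 : G), x.1.2, mem_centralizer_iff.mpr fun b hb => by
        have h1 : b * (x.1 : G) * b⁻¹ = x.1 := congrArg Subtype.val (x.2 ⟨b, hb⟩)
        exact mul_inv_eq_iff_eq_mul.mp h1⟩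
      invFun := fun x => ⟨⟨x.1, x.2.1⟩, fun b => Subtype.ext (by
        show (b : G) * (x : G) * (b : G)⁻¹ = x
        rw [mem_centralizer_iff.mp x.2.2 b b.2, mul_inv_cancel_right])⟩
      left_inv := fun x => rfl
      right_inv := fun x => rfl }))

theorem dvd_inf_of_card_lt {B X : Subgroup G} (hB : IsPGroup r B)
    (hBX : B ≤ normalizer (X : Set G)) (hlt : Nat.card X < r) : X ≤ centralizer (B : Set G) := by
  have h1 := card_modEq_fixed hB hBX
  have h2 : Nat.card ↥(X ⊓ centralizer (B : Set G)) ≤ Nat.card X :=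
    Nat.le_of_dvd Nat.card_pos (card_dvd_of_le inf_le_left)
  have h3 : Nat.card X = Nat.card ↥(X ⊓ centralizer (B : Set G)) := by
    rw [Nat.ModEq, Nat.mod_eq_of_lt hlt, Nat.mod_eq_of_lt (lt_of_le_of_lt h2 hlt)] at h1
    exact h1
  exact (Subgroup.eq_of_le_of_card_ge inf_le_left h3.le).ge.trans inf_le_right

/-- An odd coprime group fixes the subgroups of order three or eight that occur in blocks. -/
theorem le_centralizer_of_nblk_card {B Q : Subgroup G} (hB : IsPGroup r B) (h5 : 5 ≤ r)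
    (hBQ : B ≤ normalizer (Q : Set G))
    (hQ : Nat.card Q = 3 ∨ (Nat.card Q = 8 ∧ ¬ IsMulCommutative Q)) :
    Q ≤ centralizer (B : Set G) := by
  rcases hQ with h3 | ⟨h8, hne⟩
  · exact dvd_inf_of_card_lt hB hBQ (by omega)
  set Z := (center Q).map Q.subtype with hZ
  have hZQ : Z ≤ Q := map_subtype_le _
  have hQp : IsPGroup 2 Q := IsPGroup.of_card (n := 3) (by rw [h8]; norm_num)
  haveI : Fact (Nat.Prime 2) := ⟨Nat.prime_two⟩
  haveI : Nontrivial Q := Finite.one_lt_card_iff_nontrivial.mp (by omega)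
  haveI := hQp.center_nontrivial
  have hZ1 : Nat.card Z ≠ 1 := fun e => (Subgroup.nontrivial_iff_ne_bot _).mp inferInstance
    ((map_eq_bot_iff_of_injective _ Q.subtype_injective).mp (Subgroup.eq_bot_of_card_eq _ e))
  have hZ8 : Nat.card Z ≠ 8 := fun e => hne (by
    have hQZ : Q ≤ Z := (Subgroup.eq_of_le_of_card_ge hZQ (by omega)).ge
    exact ⟨⟨fun u v => Subtype.ext (by
      obtain ⟨w, hw, hwv⟩ := hQZ v.2
      have : (w : Q) = v := Subtype.ext hwv
      subst this
      exact congrArg Subtype.val (Subgroup.mem_center_iff.mp hw u))⟩⟩)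
  have hZ4 : Nat.card Z ≤ 4 := by
    have hdvd := card_dvd_of_le hZQ
    rw [h8] at hdvd
    have := Nat.le_of_dvd (by norm_num) hdvd
    interval_cases h : Nat.card Z <;> omega
  have hZB : Z ≤ centralizer (B : Set G) := dvd_inf_of_card_lt hB
    (hBQ.trans (Components.le_normalizer_map_characteristic _ le_rfl)) (by omega)
  have h1 := card_modEq_fixed hB hBQ
  set f := Nat.card ↥(Q ⊓ centralizer (B : Set G)) with hf
  have hfd : f ∣ 8 := h8 ▸ card_dvd_of_le inf_le_left
  have hf2 : 2 ≤ f := le_trans (by have := Nat.card_pos (α := Z); omega)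
    (Nat.le_of_dvd Nat.card_pos (card_dvd_of_le (le_inf hZQ hZB)))
  have hf8 : f ≤ 8 := Nat.le_of_dvd (by norm_num) hfd
  rw [h8] at h1
  have h6 : r ∣ 8 - f := (Nat.modEq_iff_dvd' hf8).mp h1.symm
  have hfeq : f = 8 := by
    by_contra hne'
    interval_cases f
    all_goals first
      | exact hne' rfl
      | (revert hfd; decide)
      | (have := Nat.le_of_dvd (by norm_num) h6
         interval_cases r <;> first
          | (revert h6; decide)
          | (have := hr'.out; revert this; decide))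
  exact (Subgroup.eq_of_le_of_card_ge (inf_le_left : Q ⊓ centralizer (B : Set G) ≤ Q)
    (by omega)).ge.trans inf_le_right

theorem mem_of_pow_mem {K : Subgroup G} {u : G} {m : ℕ} (hcop : (orderOf u).Coprime m)
    (h : u ^ m ∈ K) : u ∈ K := by
  rcases eq_or_ne (orderOf u) 1 with h1 | h1
  · rw [orderOf_eq_one_iff.mp h1]; exact one_mem K
  obtain ⟨k, -, hk⟩ := Nat.exists_mul_mod_eq_one_of_coprime (k := orderOf u) (n := m) hcop.symm
    (lt_of_le_of_ne (orderOf_pos u) (Ne.symm h1))
  have h2 : (u ^ m) ^ k = u := by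
    rw [← pow_mul, ← pow_mod_orderOf, hk, pow_one]
  exact h2 ▸ pow_mem h k

theorem map_conj_commutator {P Q : Subgroup G} {g : G} (hP : g ∈ normalizer (P : Set G)) :
    (⁅P, Q⁆).map (MulAut.conj g).toMonoidHom = ⁅P, Q.map (MulAut.conj g).toMonoidHom⁆ := by
  rw [map_commutator, Coprime.map_conj_eq hP]

/-- Conjugation maps centralizers to centralizers. -/
theorem map_conj_centralizer (g : G) (X : Subgroup G) :
    (centralizer (X : Set G)).map (MulAut.conj g).toMonoidHom =
      centralizer ((X.map (MulAut.conj g).toMonoidHom : Subgroup G) : Set G) := by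
  refine le_antisymm ?_ fun z hz => ?_
  · rintro _ ⟨y, hy, rfl⟩
    refine mem_centralizer_iff.mpr ?_
    rintro _ ⟨x, hx, rfl⟩
    show MulAut.conj g x * MulAut.conj g y = MulAut.conj g y * MulAut.conj g x
    rw [← map_mul, ← map_mul, mem_centralizer_iff.mp hy x hx]
  · refine ⟨(MulAut.conj g).symm z, mem_centralizer_iff.mpr fun x hx => (MulAut.conj g).injective ?_,
      (MulAut.conj g).apply_symm_apply z⟩
    rw [map_mul, map_mul, MulEquiv.apply_symm_apply]
    exact mem_centralizer_iff.mp hz _ ⟨x, hx, rfl⟩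

/-- The faithful form. -/
theorem false_of_fixed (h : FF.Setting p V H) (hAV : A ≤ normalizer (V : Set G))
    (hAH : A ≤ normalizer (H : Set G)) (hAc : ∀ x ∈ A, ∀ y ∈ A, x * y = y * x)
    (hAr : IsPGroup r A) (hr : ¬ r ∣ Nat.card H) (hS : IsPGroup p S)
    (hAS : A ≤ normalizer (S : Set G)) {a : G} (haS : a ∈ S) (ha : FF.IsTv p V H a)
    (hfix : FF.core p H ⊓ centralizer (A : Set G) ≤ normalizer (S : Set G)) : False := by
  classical
  set F := FF.core p H with hF
  set E := FF.Setting.blk p H a with hE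
  set Q := FF.Setting.nblk p H a with hQ
  have hQF : Q ≤ F := FF.Setting.nblk_le_core ha.mem
  have hEcard := h.nblk_card ha
  obtain ⟨e⟩ := (h.blk_facts ha).1
  have hEc := Nat.card_congr e.toEquiv
  have hp23 := h.prime_two_or_three ha
  have hEH : E ≤ H := FF.Setting.blk_le ha
  have hEdvd : Nat.card E ∣ Nat.card H := card_dvd_of_le hEH
  -- `r ≥ 5` and the order of `Q`
  have key : 5 ≤ r ∧ (Nat.card Q = 3 ∨ (Nat.card Q = 8 ∧ ¬ IsMulCommutative Q)) := by
    have h23 : ∀ {n : ℕ}, Nat.card E = n → 2 ∣ n → 3 ∣ n → 5 ≤ r := by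
      intro n hn h2 h3
      refine hr'.out.five_le_of_ne_two_of_ne_three ?_ ?_
      · rintro rfl; exact hr (h2.trans (hn ▸ hEdvd))
      · rintro rfl; exact hr (h3.trans (hn ▸ hEdvd))
    rcases hp23 with rfl | rfl
    · rw [FF.Setting.card_sl_two] at hEc
      exact ⟨h23 hEc (by norm_num) (by norm_num), Or.inl (by rw [hEc] at hEcard; rw [hQ]; omega)⟩
    · rw [FF.Setting.card_sl_three] at hEc
      refine ⟨h23 hEc (by norm_num) (by norm_num), Or.inr ⟨by rw [hEc] at hEcard; rw [hQ]; omega, ?_⟩⟩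
      rcases h.nblk_structure ha with ⟨h2, -⟩ | ⟨-, -, hn⟩
      · omega
      · exact hn
  obtain ⟨h5, hQcard⟩ := key
  -- the stabilizer of the block
  set A₁ := A ⊓ normalizer (E : Set G) with hA₁
  have hA₁r : IsPGroup r A₁ := hAr.to_le inf_le_left
  have hFn : A ≤ normalizer (F : Set G) :=
    hAH.trans (Components.le_normalizer_map_characteristic _ le_rfl)
  have haz : zpowers a = S ⊓ E := by
    have hSE : IsPGroup p ↥(S ⊓ E) := hS.to_le inf_le_left
    refine Subgroup.eq_of_le_of_card_ge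
      (zpowers_le.mpr ⟨haS, mem_sup_right (mem_zpowers a)⟩) ?_
    rw [Nat.card_zpowers, ha.2.1]
    obtain ⟨n, hn⟩ := IsPGroup.iff_card.mp hSE
    have hd : p ^ n ∣ Nat.card Q * p := hn ▸ hEcard ▸ card_dvd_of_le inf_le_right
    have hcop : (Nat.card Q).Coprime p :=
      Nat.Coprime.coprime_dvd_left (card_dvd_of_le hQF) FF.Setting.coprime_card_core
    rw [hn]
    exact Nat.le_of_dvd hp.out.pos ((hcop.symm.pow_left n).dvd_of_dvd_mul_left hd)
  have hA₁a : A₁ ≤ normalizer (zpowers a : Set G) := by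
    rw [haz]
    exact (inf_le_inf_right _ hAS).trans inf_normalizer_le_normalizer_inf
  have hac : zpowers a ≤ centralizer (A₁ : Set G) := dvd_inf_of_card_lt hA₁r hA₁a (by
    rw [Nat.card_zpowers, ha.2.1]
    rcases hp23 with rfl | rfl <;> omega)
  have hA₁Q : A₁ ≤ normalizer (Q : Set G) := fun g hg => by
    refine Coprime.mem_normalizer_of_map_conj ?_
    rw [hQ, FF.Setting.nblk, map_conj_commutator (hFn hg.1),
      Coprime.map_conj_eq (hA₁a hg)]
  have hQc : Q ≤ centralizer (A₁ : Set G) := le_centralizer_of_nblk_card hA₁r h5 hA₁Q hQcard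
  -- an element of `Q` moving `a`
  obtain ⟨u, huQ, hua⟩ : ∃ u ∈ Q, u * a ≠ a * u := by
    by_contra hcon
    push Not at hcon
    obtain ⟨x, hx, hxa⟩ := h.exists_noncomm ha
    refine hxa ?_
    set c := x * a * x⁻¹ * a⁻¹ with hc
    have hcQ : c ∈ Q := by
      rw [hc, ← commutatorElement_def]
      exact commutator_mem_commutator hx (mem_zpowers a)
    have hca : Commute c a := hcon c hcQ
    have hap : a ^ p = 1 := by rw [← ha.2.1, pow_orderOf_eq_one]
    have hcp : c ^ p = 1 := by
      have h1 : (c * a) ^ p = 1 := by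
        rw [hc, inv_mul_cancel_right, conj_pow, hap, mul_one, mul_inv_cancel]
      rwa [hca.mul_pow, hap, mul_one] at h1
    have hc1 : c = 1 := FF.Setting.eq_one_of_mem_core (hQF hcQ) (k := 1) (by rw [pow_one]; exact hcp)
    rw [FF.centralizer_zpowers_eq, mem_centralizer_singleton_iff]
    rw [hc, mul_inv_eq_one, mul_inv_eq_iff_eq_mul] at hc1
    exact hc1
  -- transport of the block
  have htv : ∀ g ∈ A, FF.IsTv p V H (g * a * g⁻¹) ∧
      E.map (MulAut.conj g).toMonoidHom = FF.Setting.blk p H (g * a * g⁻¹) := by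
    intro g hg
    refine ⟨⟨?_, ?_, ?_⟩, ?_⟩
    · exact (mem_normalizer_iff.mp (hAH hg) a).mp ha.mem
    · exact ((MulAut.conj g).orderOf_eq a).trans ha.2.1
    · have e1 : (FF.ax V a).map (MulAut.conj g).toMonoidHom = FF.ax V (g * a * g⁻¹) := by
        show (V ⊓ centralizer ({a} : Set G)).map _ = V ⊓ centralizer ({g * a * g⁻¹} : Set G)
        rw [map_inf _ _ _ (MulAut.conj g).injective, Coprime.map_conj_eq (hAV hg),
          ← FF.centralizer_zpowers_eq a, map_conj_centralizer, MonoidHom.map_zpowers,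
          FF.centralizer_zpowers_eq]
        rfl
      have h1 := Subgroup.relIndex_map_map_of_injective (FF.ax V a) V
        (f := (MulAut.conj g).toMonoidHom) (MulAut.conj g).injective
      rw [e1, Coprime.map_conj_eq (hAV hg)] at h1
      exact h1.trans ha.2.2
    · rw [hE, FF.Setting.blk, Subgroup.map_sup, FF.Setting.nblk, map_conj_commutator (hFn hg),
        MonoidHom.map_zpowers]
      rfl
  let w : G → G := fun g => g * u * g⁻¹
  have hwE : ∀ g ∈ A, w g ∈ E.map (MulAut.conj g).toMonoidHom := fun g _ =>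
    ⟨u, mem_sup_left huQ, rfl⟩
  have hwfix : ∀ g ∈ A₁, w g = u := fun g hg => by
    show g * u * g⁻¹ = u
    rw [mem_centralizer_iff.mp (hQc huQ) g hg, mul_inv_cancel_right]
  -- different blocks commute
  have hout : ∀ g ∈ A, g ∉ A₁ → ∀ z ∈ E, z * w g = w g * z := by
    intro g hg hgA z hz
    rcases h.dichotomy ha (htv g hg).1 with e1 | ⟨e1, -⟩
    · exact absurd ⟨hg, Coprime.mem_normalizer_of_map_conj ((htv g hg).2.trans e1.symm)⟩ hgA
    · rw [commutator_eq_bot_iff_le_centralizer] at e1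
      have hwg : w g ∈ FF.Setting.blk p H (g * a * g⁻¹) := (htv g hg).2 ▸ hwE g hg
      exact (mem_centralizer_iff.mp (e1 hz) _ hwg).symm
  have hcomm : ∀ x ∈ Set.range (fun g : A => w g), ∀ y ∈ Set.range (fun g : A => w g),
      x * y = y * x := by
    rintro _ ⟨g, rfl⟩ _ ⟨k, rfl⟩
    show w g * w k = w k * w g
    have hm : (g : G)⁻¹ * k ∈ A := mul_mem (inv_mem g.2) k.2
    have hk : w k = (g : G) * w ((g : G)⁻¹ * k) * (g : G)⁻¹ := by
      show (k : G) * u * (k : G)⁻¹ =
        (g : G) * ((g : G)⁻¹ * k * u * ((g : G)⁻¹ * k)⁻¹) * (g : G)⁻¹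
      group
    rw [hk]
    by_cases hA : (g : G)⁻¹ * k ∈ A₁
    · rw [hwfix _ hA]
    · calc w g * ((g : G) * w ((g : G)⁻¹ * k) * (g : G)⁻¹)
          = (g : G) * (u * w ((g : G)⁻¹ * k)) * (g : G)⁻¹ := by
            show (g : G) * u * (g : G)⁻¹ * _ = _
            group
        _ = (g : G) * (w ((g : G)⁻¹ * k) * u) * (g : G)⁻¹ := by
            rw [hout _ hm hA u (mem_sup_left huQ)]
        _ = _ := by
            show _ = (g : G) * w ((g : G)⁻¹ * k) * (g : G)⁻¹ * ((g : G) * u * (g : G)⁻¹)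
            group
  set C := closure (Set.range fun g : A => w g) with hC
  haveI hCc : IsMulCommutative C := Subgroup.isMulCommutative_closure hcomm
  haveI : Fintype A := Fintype.ofFinite A
  let wC : A → C := fun g => ⟨w g, subset_closure ⟨g, rfl⟩⟩
  letI : CommGroup C := { (inferInstance : Group C) with mul_comm := hCc.is_comm.comm }
  let d : C := ∏ g : A, wC g
  -- `d` is fixed by `A`
  have hdA : (d : G) ∈ centralizer (A : Set G) := by
    refine mem_centralizer_iff.mpr fun γ hγ => ?_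
    have hCn : γ ∈ normalizer (C : Set G) := by
      refine Coprime.mem_normalizer_of_map_conj (Subgroup.eq_of_le_of_card_ge ?_
        (Coprime.card_map_conj γ C).ge)
      rw [hC, MonoidHom.map_closure, closure_le]
      rintro _ ⟨_, ⟨g, rfl⟩, rfl⟩
      refine subset_closure ⟨⟨γ, hγ⟩ * g, ?_⟩
      show γ * (g : G) * u * (γ * (g : G))⁻¹ = γ * ((g : G) * u * (g : G)⁻¹) * γ⁻¹
      group
    let ψ : C →* C :=
      { toFun := fun x => ⟨γ * x * γ⁻¹, (mem_normalizer_iff.mp hCn x).mp x.2⟩
        map_one' := Subtype.ext (by simp)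
        map_mul' := fun x y => Subtype.ext (by simp [mul_assoc]) }
    have h1 : ψ d = d := by
      show ψ (∏ g : A, wC g) = ∏ g : A, wC g
      rw [map_prod]
      refine Fintype.prod_equiv (Equiv.mulLeft (⟨γ, hγ⟩ : A)) _ _ fun g => Subtype.ext ?_
      show γ * ((g : G) * u * (g : G)⁻¹) * γ⁻¹ = γ * (g : G) * u * (γ * (g : G))⁻¹
      group
    exact mul_inv_eq_iff_eq_mul.mp (congrArg Subtype.val h1)
  have hCF : C ≤ F := (closure_le _).mpr (by
    rintro _ ⟨g, rfl⟩
    exact (mem_normalizer_iff.mp (hFn g.2) u).mp (hQF huQ))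
  -- so `d` commutes with `a`
  have hdS := hfix ⟨hCF d.2, hdA⟩
  have hda : (d : G) * a = a * d := by
    have h1 : (d : G) * a * (d : G)⁻¹ * a⁻¹ ∈ F := by
      have h2 : a * (d : G)⁻¹ * a⁻¹ ∈ F :=
        (mem_normalizer_iff.mp (FF.Setting.le_normalizer_core ha.mem) _).mp (inv_mem (hCF d.2))
      simpa [mul_assoc] using mul_mem (hCF d.2) h2
    have h3 := FF.Setting.eq_one_of_mem_core_of_isPGroup h1 hS
      (mul_mem ((mem_normalizer_iff.mp hdS a).mp haS) (inv_mem haS))
    rwa [mul_inv_eq_one, mul_inv_eq_iff_eq_mul] at h3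
  -- but its component in `E` does not
  let Ca := (centralizer ({a} : Set G)).subgroupOf C
  have hrest : (∏ g ∈ Finset.univ.filter (fun g : A => (g : G) ∉ A₁), wC g) ∈ Ca :=
    Subgroup.prod_mem _ fun g hg => mem_subgroupOf.mpr (mem_centralizer_singleton_iff.mpr
      (hout g g.2 (Finset.mem_filter.mp hg).2 a (mem_sup_right (mem_zpowers a))).symm)
  have hsplit : d = (∏ g ∈ Finset.univ.filter (fun g : A => (g : G) ∈ A₁), wC g) *
      ∏ g ∈ Finset.univ.filter (fun g : A => (g : G) ∉ A₁), wC g :=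
    (Finset.prod_filter_mul_prod_filter_not _ _ _).symm
  set m := (Finset.univ.filter (fun g : A => (g : G) ∈ A₁)).card with hm
  have hconst : ((∏ g ∈ Finset.univ.filter (fun g : A => (g : G) ∈ A₁), wC g : C) : G) = u ^ m := by
    rw [Finset.prod_eq_pow_card (b := wC 1) fun g hg => Subtype.ext ?_]
    · show (w ((1 : A) : G)) ^ m = u ^ m
      simp [w]
    · show w g = w ((1 : A) : G)
      rw [hwfix g (Finset.mem_filter.mp hg).2]
      simp [w]
  have hum : u ^ m ∈ centralizer ({a} : Set G) := by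
    rw [← hconst]
    have h1 : (d : G) ∈ centralizer ({a} : Set G) := mem_centralizer_singleton_iff.mpr hda
    rw [hsplit, coe_mul] at h1
    exact (mul_mem_cancel_right (mem_subgroupOf.mp hrest)).mp h1
  have hmc : m = Nat.card (A₁.subgroupOf A) := by
    rw [hm, ← Fintype.card_subtype, ← Nat.card_eq_fintype_card]
    rfl
  obtain ⟨k, hk⟩ := IsPGroup.iff_card.mp (hA₁r.comap_subtype (K := A))
  refine hua (mem_centralizer_singleton_iff.mp (mem_of_pow_mem ?_ hum))
  rw [hmc]
  show (orderOf u).Coprime (Nat.card (A₁.comap A.subtype))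
  rw [hk]
  refine Nat.Coprime.pow_right k ?_
  refine ((hr'.out.coprime_iff_not_dvd.mpr fun hd => hr ?_)).symm
  exact hd.trans ((orderOf_dvd_natCard Q huQ).trans (card_dvd_of_le (hQF.trans FF.Setting.core_le)))

theorem mem_normalizer_subgroupOf {Γ X : Subgroup G} {c : Γ}
    (h : (c : G) ∈ normalizer (X : Set G)) : c ∈ normalizer (X.subgroupOf Γ : Set Γ) :=
  mem_normalizer_iff.mpr fun y => mem_normalizer_iff.mp h (y : G)

/-- Best offenders map along injective maps. -/
theorem offender_map {K M : Type*} [Group K] [Group M] {ι : K →* M} (hι : Function.Injective ι)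
    {U B : Subgroup K} (h : Cfsg.IsBestOffenderOn p U B) :
    Cfsg.IsBestOffenderOn p (U.map ι) (B.map ι) := by
  have hc : ∀ k : K, ι k ∈ centralizer (U.map ι : Set M) ↔ k ∈ centralizer (U : Set K) := by
    intro k
    simp only [mem_centralizer_iff]
    exact ⟨fun h v hv => hι (by rw [map_mul, map_mul]; exact h _ (mem_map_of_mem _ hv)),
      fun h _ ⟨v, hv, e⟩ => by rw [← e, ← map_mul, ← map_mul, h v hv]⟩
  have hfix : ∀ X : Subgroup K,
      U.map ι ⊓ centralizer ((X.map ι : Subgroup M) : Set M) =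
        (U ⊓ centralizer (X : Set K)).map ι := by
    intro X
    refine le_antisymm ?_ ?_
    · rintro _ ⟨⟨u, hu, rfl⟩, huc⟩
      refine mem_map_of_mem ι ⟨hu, mem_centralizer_iff.mpr fun x hx => hι ?_⟩
      rw [map_mul, map_mul]
      exact mem_centralizer_iff.mp huc _ (mem_map_of_mem _ hx)
    · rintro _ ⟨u, hu, rfl⟩
      refine ⟨mem_map_of_mem ι hu.1, mem_centralizer_iff.mpr ?_⟩
      rintro _ ⟨x, hx, rfl⟩
      rw [← map_mul, ← map_mul, mem_centralizer_iff.mp hu.2 x hx]
  refine ⟨fun Y hY => ?_, ?_, ?_⟩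
  · have hYe : (Y.comap ι).map ι = Y :=
      map_comap_eq_self (hY.trans (map_le_range ι B))
    have hXB : Y.comap ι ≤ B := (comap_mono hY).trans (comap_map_eq_self_of_injective hι B).le
    rw [← hYe, hfix, hfix, card_map_of_injective hι, card_map_of_injective hι,
      card_map_of_injective hι, card_map_of_injective hι]
    exact h.1 _ hXB
  · rw [← map_commutator]
    rintro _ ⟨k, hk, rfl⟩
    exact (hc k).mpr (h.2.1 hk)
  · rintro _ ⟨k, hk, rfl⟩
    rw [← map_pow]
    exact (hc _).mpr (h.2.2 k hk)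

/-- A `p`-element in the image of a normal subgroup is conjugate into the image of a Sylow subgroup. -/
theorem exists_conj_mem_map {K M : Type*} [Group K] [Group M] [Finite K] [Finite M] (f : K →* M)
    (J : Subgroup K) [J.Normal] (P : Sylow p K) {a : M} (ha : a ∈ J.map f)
    (hap : IsPGroup p (zpowers a)) :
    ∃ x ∈ J.map f, x * a * x⁻¹ ∈ ((P : Subgroup K) ⊓ J).map f := by
  have hW : IsPGroup p ((P : Subgroup K).subgroupOf J) := P.isPGroup'.comap_subtype
  let Q : Sylow p J := hW.toSylow (sylow_relIndex_not_dvd P J)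
  let R : Sylow p (J.map f) :=
    Q.mapSurjective (f := f.subgroupMap J) (f.subgroupMap_surjective J)
  have hap' : IsPGroup p (zpowers (⟨a, ha⟩ : J.map f)) := by
    refine IsPGroup.of_injective hap
      (((J.map f).subtype.comp (zpowers (⟨a, ha⟩ : J.map f)).subtype).codRestrict _
        fun y => ?_) fun y z e => ?_
    · obtain ⟨i, hi⟩ := mem_zpowers_iff.mp y.2
      exact mem_zpowers_iff.mpr ⟨i, congrArg Subtype.val hi⟩
    · exact Subtype.ext (Subtype.ext (congrArg (fun w : zpowers a => (w : M)) e))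
  obtain ⟨x, hx⟩ := exists_conj_le_sylow R hap'
  refine ⟨x, x.2, ?_⟩
  obtain ⟨j, hj, e⟩ := hx (mem_map_of_mem _ (mem_zpowers _))
  exact ⟨(j : K), ⟨hj, j.2⟩, congrArg Subtype.val e⟩

/-- Thompson factorization from fixed points normalizing a Sylow subgroup. -/
theorem isThompsonFactorizable {K A S : Subgroup G} (hAK : A ≤ normalizer (K : Set G))
    (hA : Cfsg.IsElementaryAbelian r A) (hKr : ¬ r ∣ Nat.card K) (hKs : Cfsg.IsPSolvable p K)
    (hO : Cfsg.pPrimeCore p K = ⊥) (hS : IsPGroup p S) (hSK : S ≤ K)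
    (hSmax : ∀ T : Subgroup G, T ≤ K → IsPGroup p T → S ≤ T → T ≤ S)
    (hAS : A ≤ normalizer (S : Set G))
    (hfix : K ⊓ centralizer (A : Set G) ≤ normalizer (S : Set G)) :
    Cfsg.IsThompsonFactorizable p K := by
  classical
  rw [S0608.result hO]
  set V₀ := ⨆ P : Sylow p K,
    Cfsg.omegaOne p ((P : Subgroup K) ⊓ centralizer ((P : Subgroup K) : Set K)) with hV₀
  obtain ⟨hV₀n, hV₀el, -⟩ := S0601.result (p := p) (Cores.centralizer_pCore_le hKs hO)
  haveI := hV₀n
  by_contra hJ
  -- the group generated by `K` and `A`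
  set Γ := K ⊔ A with hΓdef
  have hKΓ : K ≤ Γ := le_sup_left
  have hAΓ : A ≤ Γ := le_sup_right
  have hΓK : Γ ≤ normalizer (K : Set G) := sup_le Subgroup.le_normalizer hAK
  let K' := K.subgroupOf Γ
  haveI hK'n : K'.Normal := normal_subgroupOf_of_le_normalizer hΓK
  let ι : K →* Γ := Subgroup.inclusion hKΓ
  have hι : Function.Injective ι := Subgroup.inclusion_injective hKΓ
  have hιtop : ∀ X : Subgroup K, X.map ι ≤ K' := by
    rintro X _ ⟨x, -, rfl⟩
    exact x.2
  have hrange : ι.range = K' := by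
    refine le_antisymm ((MonoidHom.range_eq_map ι).le.trans (hιtop ⊤)) fun x hx => ?_
    exact ⟨⟨x, hx⟩, rfl⟩
  let V := V₀.map ι
  have hauto : ∀ (g : Γ) (φ : K →* K), (∀ k : K, ι (φ k) = g * ι k * g⁻¹) →
      ∀ X : Subgroup K, (X.map ι).map (MulAut.conj g).toMonoidHom = (X.map φ).map ι := by
    intro g φ hφ X
    rw [Subgroup.map_map, Subgroup.map_map]
    exact congrArg (fun f => X.map f) (MonoidHom.ext fun k => (hφ k).symm)
  have hconj : ∀ g : Γ, ∃ φ : K ≃* K, ∀ k : K, ι (φ k) = g * ι k * g⁻¹ := fun g =>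
    ⟨K.normalizerMonoidHom ⟨g, hΓK g.2⟩, fun k => Subtype.ext rfl⟩
  haveI hVn : V.Normal := by
    refine Subgroup.normalizer_eq_top_iff.mp (top_le_iff.mp fun g _ => ?_)
    refine Coprime.mem_normalizer_of_map_conj (Subgroup.eq_of_le_of_card_ge ?_
      (Coprime.card_map_conj g V).ge)
    obtain ⟨φ, hφ⟩ := hconj g
    rw [hauto g φ.toMonoidHom hφ]
    refine map_mono ?_
    rw [hV₀, Subgroup.map_iSup]
    refine iSup_le fun P => ?_
    refine le_iSup_of_le (P.mapSurjective (f := (φ.toMonoidHom : K →* K)) (show Function.Surjective φ.toMonoidHom from φ.surjective)) ?_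
    rw [Sylow.coe_mapSurjective]
    show _ ≤ H31.omegaZ p _
    rw [H31.omegaZ, H31.omegaOne_map (f := φ.toMonoidHom) φ.injective,
      H31.map_inf_centralizer (f := φ.toMonoidHom) φ.injective]
  have hVel : Cfsg.IsElementaryAbelian p V := (H31.elem_map_iff hι).mpr hV₀el
  have hcen : ∀ k : K, ι k ∈ centralizer (V : Set Γ) ↔ k ∈ centralizer (V₀ : Set K) := by
    intro k
    simp only [mem_centralizer_iff]
    exact ⟨fun h v hv => hι (by rw [map_mul, map_mul]; exact h _ (mem_map_of_mem _ hv)),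
      fun h _ ⟨v, hv, e⟩ => by rw [← e, ← map_mul, ← map_mul, h v hv]⟩
  set J₀ := Cfsg.thompsonSubgroup p K with hJ₀
  haveI : J₀.Characteristic := (S0602.result (G := K) (p := p)).1
  let J := J₀.map ι
  haveI hJn : J.Normal := by
    refine Subgroup.normalizer_eq_top_iff.mp (top_le_iff.mp fun g _ => ?_)
    refine Coprime.mem_normalizer_of_map_conj ?_
    obtain ⟨φ, hφ⟩ := hconj g
    rw [hauto g φ.toMonoidHom hφ, Subgroup.characteristic_iff_map_eq.mp inferInstance φ]
  have hJs : Cfsg.IsPSolvable p J :=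
    Cores.isPSolvable_of_surjective (Cores.isPSolvable_subgroup hKs J₀) _ (ι.subgroupMap_surjective J₀)
  have hOV : Cfsg.pCore p (K ⧸ centralizer (V₀ : Set K)) = ⊥ := S0600.result _ hV₀el (by
    refine le_antisymm (iSup_le fun P => le_iSup_of_le P (le_inf ?_ ?_))
      (iSup_le fun P => inf_le_left)
    · exact le_iSup (fun P : Sylow p K =>
        Cfsg.omegaOne p ((P : Subgroup K) ⊓ centralizer ((P : Subgroup K) : Set K))) P
    · exact (H31.omegaOne_le p _).trans inf_le_right)
  -- the image of `K` in the action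
  let ρ : K ⧸ centralizer (V₀ : Set K) →* Γ ⧸ centralizer (V : Set Γ) :=
    QuotientGroup.map _ _ ι fun k hk => (hcen k).mpr hk
  have hρ : Function.Injective ρ := by
    refine (injective_iff_map_eq_one ρ).mpr fun z hz => ?_
    obtain ⟨k, rfl⟩ := QuotientGroup.mk_surjective z
    exact (QuotientGroup.eq_one_iff k).mpr ((hcen k).mp ((QuotientGroup.eq_one_iff (ι k)).mp hz))
  have hOJ : Cfsg.pCore p ↥(J.map (QuotientGroup.mk' (centralizer (V : Set Γ)))) = ⊥ := by
    haveI : (J₀.map (QuotientGroup.mk' (centralizer (V₀ : Set K)))).Normal :=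
      (inferInstance : J₀.Normal).map _ (QuotientGroup.mk'_surjective _)
    have h1 : Cfsg.pCore p ↥(J₀.map (QuotientGroup.mk' (centralizer (V₀ : Set K)))) = ⊥ := by
      rw [Cores.pCore_of_normal, hOV, bot_subgroupOf]
    have e : J.map (QuotientGroup.mk' (centralizer (V : Set Γ))) =
        (J₀.map (QuotientGroup.mk' (centralizer (V₀ : Set K)))).map ρ := by
      rw [Subgroup.map_map, Subgroup.map_map]
      rfl
    let eq := ((J₀.map (QuotientGroup.mk' (centralizer (V₀ : Set K)))).equivMapOfInjective ρ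
      hρ).trans (MulEquiv.subgroupCongr e.symm)
    have h2 := Cores.pCore_map_mulEquiv (p := p) eq
    rw [h1, Subgroup.map_bot] at h2
    exact h2.symm
  have hset := FFAmb.setting V hVel J hJs hOJ
  set H := J.map (FFAmb.toAmb V) with hH
  -- `J(K)` moves `V`
  have hH1 : H ≠ ⊥ := fun e => hJ fun k hk => by
    rw [hH, Subgroup.map_eq_bot_iff, FFAmb.toAmb_ker] at e
    exact (hcen k).mp (e (mem_map_of_mem ι hk))
  have hS3 : H = ⨆ B : {B : Subgroup (FFAmb.Amb V) //
      B ≤ H ∧ Cfsg.IsBestOffenderOn p (FFAmb.Vb V) B}, (B : Subgroup (FFAmb.Amb V)) := by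
    refine le_antisymm ?_ (iSup_le fun B => B.2.1)
    conv_lhs => rw [hH, show J = J₀.map ι from rfl, hJ₀, Cfsg.thompsonSubgroup, sSup_eq_iSup',
      Subgroup.map_iSup, Subgroup.map_iSup]
    refine iSup_le fun B => ?_
    have hBJ : (B : Subgroup K).map ι ≤ J := map_mono (le_sSup B.2)
    refine le_iSup_of_le ⟨((B : Subgroup K).map ι).map (FFAmb.toAmb V),
      (hH ▸ Subgroup.map_mono hBJ : _ ≤ H), FFAmb.offender V _ ?_⟩ le_rfl
    exact offender_map hι (S0606.result V₀ hV₀el B B.2)
  obtain ⟨a₀, ha₀⟩ : ∃ a, FF.IsTv p (FFAmb.Vb V) H a := by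
    by_contra hcon
    push Not at hcon
    exact hH1 (le_bot_iff.mp ((hset.le_closure hS3).trans
      ((closure_le _).mpr fun b hb => absurd hb (hcon b))))
  -- a transvection in the image of `S`
  let P : Sylow p K := ⟨S.subgroupOf K, hS.comap_subtype, fun {T} hT hle => le_antisymm
    (fun t ht => mem_subgroupOf.mpr (hSmax (T.map K.subtype) (map_subtype_le _) (hT.map _)
      (fun y hy => ⟨⟨y, hSK hy⟩, hle hy, rfl⟩) (mem_map_of_mem _ ht))) hle⟩
  set S' := S.subgroupOf Γ with hS'
  have hS'p : IsPGroup p S' := hS.comap_subtype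
  have hSJ : ((P : Subgroup K) ⊓ J₀).map ι = S' ⊓ J := by
    rw [map_inf _ _ _ hι]
    refine congrArg (· ⊓ J) (le_antisymm ?_ fun y hy => ⟨⟨y, hSK hy⟩, hy, rfl⟩)
    rintro _ ⟨y, hy, rfl⟩
    exact hy
  have hHf : H = J₀.map ((FFAmb.toAmb V).comp ι) := Subgroup.map_map _ _ _
  obtain ⟨x, hxH, hx⟩ := exists_conj_mem_map ((FFAmb.toAmb V).comp ι) J₀ P (a := a₀)
    (hHf ▸ ha₀.mem) (IsPGroup.of_card (n := 1) (by rw [Nat.card_zpowers, ha₀.2.1, pow_one]))
  rw [← hHf] at hxH
  rw [← Subgroup.map_map, hSJ] at hx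
  have hat := ha₀.conj hset.toFaith hxH
  have hA'el : Cfsg.IsElementaryAbelian r (A.subgroupOf Γ) := by
    refine H31.elem_mk (fun y hy z hz => Subtype.ext ?_) fun y hy => Subtype.ext ?_
    · exact H40.elemAb_commute hA hy hz
    · exact hA.2 y hy
  have hcop : (Nat.card (A.subgroupOf Γ)).Coprime (Nat.card K') := by
    rw [Nat.card_congr (subgroupOfEquivOfLe hAΓ).toEquiv,
      Nat.card_congr (subgroupOfEquivOfLe hKΓ).toEquiv]
    exact H40.coprime_card_of_isPGroup (H40.elemAb_isPGroup hA) hKr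
  have hf : ∀ {X Y : Subgroup Γ}, X ≤ normalizer (Y : Set Γ) →
      X.map (FFAmb.toAmb V) ≤ normalizer ((Y.map (FFAmb.toAmb V) : Subgroup _) : Set (FFAmb.Amb V)) :=
    fun h => (map_mono h).trans (Subgroup.le_normalizer_map _)
  have hA'S : A.subgroupOf Γ ≤ normalizer (S' : Set Γ) := fun y hy =>
    mem_normalizer_subgroupOf (hAS hy)
  refine false_of_fixed (A := (A.subgroupOf Γ).map (FFAmb.toAmb V))
    (S := (S' ⊓ J).map (FFAmb.toAmb V)) (r := r) hset ?_ ?_ ?_ ?_ ?_ ?_ ?_ hx hat ?_
  · exact (FFAmb.faith V hVel (A.subgroupOf Γ)).hHV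
  · exact hf (Subgroup.normalizer_eq_top J ▸ le_top)
  · rintro _ ⟨y, hy, rfl⟩ _ ⟨z, hz, rfl⟩
    rw [← map_mul, ← map_mul, H40.elemAb_commute hA'el hy hz]
  · exact (H40.elemAb_isPGroup hA'el).map _
  · intro hd
    refine hKr (hd.trans (dvd_trans (Subgroup.card_map_dvd _ _) ?_))
    rw [show Nat.card K = Nat.card K' from (Nat.card_congr (subgroupOfEquivOfLe hKΓ).toEquiv).symm]
    exact card_dvd_of_le (hιtop J₀)
  · exact (hS'p.to_le inf_le_left).map _
  · exact hf ((le_inf hA'S (Subgroup.normalizer_eq_top J ▸ le_top)).trans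
      inf_normalizer_le_normalizer_inf)
  · -- fixed points of the core lift
    rintro z ⟨hzF, hzA⟩
    obtain ⟨k, hk, rfl⟩ := FF.Setting.core_le hzF
    have hker : ∀ y, y ∈ centralizer (V : Set Γ) ↔ FFAmb.toAmb V y = 1 := fun y => by
      rw [← MonoidHom.mem_ker, FFAmb.toAmb_ker]
    set N := K' ⊓ centralizer (V : Set Γ) with hN
    haveI : N.Normal := inferInstance
    obtain ⟨c, hc, hck⟩ := Coprime.exists_centralizer_mem_of_comm_mem (K := K')
      (A := A.subgroupOf Γ) (N := N) (Subgroup.normalizer_eq_top K' ▸ le_top) hcop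
      (Or.inl (have := hA'el.1; Coprime.isSolvable_of_isMulCommutative)) inf_le_left (Subgroup.normalizer_eq_top N ▸ le_top)
      (Subgroup.normalizer_eq_top N ▸ le_top) (hιtop J₀ hk) fun y hy => by
        refine ⟨?_, (hker _).mpr ?_⟩
        · exact mul_mem (hK'n.conj_mem k (hιtop J₀ hk) y) (K'.inv_mem (hιtop J₀ hk))
        · simp only [map_mul, map_inv]
          rw [mem_centralizer_iff.mp hzA _ (mem_map_of_mem _ hy),
            mul_inv_cancel_right, mul_inv_cancel]
    have e : FFAmb.toAmb V k = FFAmb.toAmb V c := by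
      have := (hker _).mp hck.2
      rwa [map_mul, map_inv, inv_mul_eq_one] at this
    rw [e]
    refine hf ?_ (mem_map_of_mem _ (mem_zpowers c))
    refine zpowers_le.mpr (inf_normalizer_le_normalizer_inf ⟨mem_normalizer_subgroupOf (hfix ⟨hc.1, ?_⟩),
      (Subgroup.normalizer_eq_top J).ge (mem_top c)⟩)
    exact mem_centralizer_iff.mpr fun y hy =>
      congrArg Subtype.val (mem_centralizer_iff.mp hc.2 ⟨y, hAΓ hy⟩ hy)

end Cfsg.Agent.Signalizer.Offender
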