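import Cfsg.Agent.Signalizer.TwoPrimesBasic
import Cfsg.Agent.Cores.Constrained
import Cfsg.Agent.Components.PLocal
import Cfsg.Agent.PGroups.Basic

/-!
Images in `N_G(N) / N`, and a Frobenius lemma used in the two-prime signalizer functor case.
-/

set_option autoImplicit false
set_option linter.unusedSectionVars false
set_option linter.style.haveILetI false

namespace Cfsg.Agent.Signalizer.TwoPrimes

open Subgroup
open scoped commutatorElement

universe u

variable {G : Type u} [Group G]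

/-- `N_G(N) / N`. -/
abbrev Quo (N : Subgroup G) : Type u :=
  ↥(normalizer (N : Set G)) ⧸ N.subgroupOf (normalizer (N : Set G))

/-- The class of an element of the normalizer. -/
def cl (N : Subgroup G) (x : G) (hx : x ∈ normalizer (N : Set G)) : Quo N :=
  QuotientGroup.mk' _ ⟨x, hx⟩

/-- The image of the part of `X` normalizing `N`. -/
def im (N X : Subgroup G) : Subgroup (Quo N) :=
  (X.subgroupOf (normalizer (N : Set G))).map (QuotientGroup.mk' _)

variable {N : Subgroup G}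

theorem cl_mul {x y : G} (hx : x ∈ normalizer (N : Set G)) (hy : y ∈ normalizer (N : Set G)) :
    cl N x hx * cl N y hy = cl N (x * y) (mul_mem hx hy) := rfl

theorem cl_pow {x : G} (hx : x ∈ normalizer (N : Set G)) (k : ℕ) :
    cl N x hx ^ k = cl N (x ^ k) (pow_mem hx k) := rfl

theorem cl_eq_one_iff {x : G} (hx : x ∈ normalizer (N : Set G)) : cl N x hx = 1 ↔ x ∈ N := by
  simp only [cl, QuotientGroup.mk'_apply, QuotientGroup.eq_one_iff, mem_subgroupOf]

theorem cl_mem_im {X : Subgroup G} {x : G} (hx : x ∈ X) (hxN : x ∈ normalizer (N : Set G)) :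
    cl N x hxN ∈ im N X := ⟨⟨x, hxN⟩, hx, rfl⟩

theorem mem_im {X : Subgroup G} {z : Quo N} :
    z ∈ im N X ↔ ∃ x, ∃ hx : x ∈ normalizer (N : Set G), x ∈ X ∧ cl N x hx = z := by
  constructor
  · rintro ⟨⟨x, hx⟩, hX, rfl⟩; exact ⟨x, hx, hX, rfl⟩
  · rintro ⟨x, hx, hX, rfl⟩; exact cl_mem_im hX hx

theorem im_mono {X Y : Subgroup G} (h : X ≤ Y) : im N X ≤ im N Y :=
  Subgroup.map_mono (fun x hx => mem_subgroupOf.mpr (h (mem_subgroupOf.mp hx)))

theorem im_isPGroup {s : ℕ} {X : Subgroup G} (h : IsPGroup s X) : IsPGroup s (im N X) :=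
  (h.comap_subtype).map _

theorem card_im_dvd [Finite G] (X : Subgroup G) : Nat.card (im N X) ∣ Nat.card X :=
  ((Subgroup.card_map_dvd _ _).trans
    (Subgroup.card_comap_dvd_of_injective _ _ (normalizer (N : Set G)).subtype_injective))

theorem cl_mem_im_iff {X : Subgroup G} (hN : N ≤ X) {x : G} (hx : x ∈ normalizer (N : Set G)) :
    cl N x hx ∈ im N X ↔ x ∈ X := by
  refine ⟨fun h => ?_, fun h => cl_mem_im h hx⟩
  obtain ⟨y, hy, hyX, e⟩ := mem_im.mp h
  have : y⁻¹ * x ∈ N := mem_subgroupOf.mp ((QuotientGroup.eq).mp e)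
  simpa using X.mul_mem hyX (hN this)

theorem im_eq_bot_iff {X : Subgroup G} (hX : X ≤ normalizer (N : Set G)) : im N X = ⊥ ↔ X ≤ N := by
  rw [eq_bot_iff]
  constructor
  · intro h x hx
    exact (cl_eq_one_iff (hX hx)).mp (mem_bot.mp (h (cl_mem_im hx (hX hx))))
  · intro h z hz
    obtain ⟨x, hx, hxX, rfl⟩ := mem_im.mp hz
    exact mem_bot.mpr ((cl_eq_one_iff hx).mpr (h hxX))

theorem im_le_iff {X Y : Subgroup G} (hX : X ≤ normalizer (N : Set G)) (hN : N ≤ Y) :
    im N X ≤ im N Y ↔ X ≤ Y :=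
  ⟨fun h x hx => (cl_mem_im_iff hN (hX hx)).mp (h (cl_mem_im hx (hX hx))), im_mono⟩

theorem im_sup {X Y : Subgroup G} (hX : X ≤ normalizer (N : Set G))
    (hY : Y ≤ normalizer (N : Set G)) : im N (X ⊔ Y) = im N X ⊔ im N Y := by
  rw [im, subgroupOf_sup hX hY, Subgroup.map_sup]; rfl

theorem im_commutator {X Y : Subgroup G} (hX : X ≤ normalizer (N : Set G))
    (hY : Y ≤ normalizer (N : Set G)) : im N ⁅X, Y⁆ = ⁅im N X, im N Y⁆ := by
  rw [im, im, im, ← Subgroup.map_commutator]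
  congr 1
  apply map_injective (normalizer (N : Set G)).subtype_injective
  rw [Subgroup.map_commutator, map_subgroupOf_eq_of_le hX, map_subgroupOf_eq_of_le hY,
    map_subgroupOf_eq_of_le (commutator_le.mpr fun x hx y hy => by
      rw [commutatorElement_def]
      exact mul_mem (mul_mem (mul_mem (hX hx) (hY hy)) (inv_mem (hX hx))) (inv_mem (hY hy)))]

theorem im_le_normalizer {X Y : Subgroup G} (hX : X ≤ normalizer (N : Set G))
    (hYN : Y ≤ normalizer (N : Set G)) (h : Y ≤ normalizer (X : Set G)) :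
    im N Y ≤ normalizer (im N X : Set (Quo N)) := by
  rw [le_normalizer_iff_commutator_le_right, ← im_commutator hYN hX]
  exact im_mono (le_normalizer_iff_commutator_le_right.mp h)

theorem im_isMulCommutative {X : Subgroup G} (h : IsMulCommutative X) :
    IsMulCommutative (im N X) := by
  refine ⟨⟨fun a b => Subtype.ext ?_⟩⟩
  obtain ⟨x, hx, hxX, ex⟩ := mem_im.mp a.2
  obtain ⟨y, hy, hyX, ey⟩ := mem_im.mp b.2
  show (a : Quo N) * b = b * a
  rw [← ex, ← ey, cl_mul, cl_mul]
  congr 1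
  exact congrArg Subtype.val (h.is_comm.comm (⟨x, hxX⟩ : X) ⟨y, hyX⟩)

theorem im_isElementaryAbelian {r : ℕ} {X : Subgroup G} (h : Cfsg.IsElementaryAbelian r X) :
    Cfsg.IsElementaryAbelian r (im N X) := by
  refine ⟨im_isMulCommutative h.1, fun z hz => ?_⟩
  obtain ⟨x, hx, hxX, rfl⟩ := mem_im.mp hz
  rw [cl_pow, cl_eq_one_iff, h.2 x hxX]
  exact one_mem N

/-- Fixed points of a coprime group lift. -/
theorem inf_centralizer_im [Finite G] {A X : Subgroup G} (hA : A ≤ normalizer (N : Set G))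
    (hX : X ≤ normalizer (N : Set G)) (hN : N ≤ X) (hAX : A ≤ normalizer (X : Set G))
    (hcop : (Nat.card A).Coprime (Nat.card X))
    (hsol : Group.IsSolvable A ∨ Group.IsSolvable X) :
    im N X ⊓ centralizer (im N A : Set (Quo N)) ≤ im N (X ⊓ centralizer (A : Set G)) := by
  rintro z ⟨hz, hzc⟩
  obtain ⟨x, hx, hxX, rfl⟩ := mem_im.mp hz
  have hfix : ∀ a ∈ A, a * x * a⁻¹ * x⁻¹ ∈ N := by
    intro a ha
    have h := mem_centralizer_iff.mp hzc _ (cl_mem_im ha (hA ha))
    rw [cl_mul, cl_mul] at h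
    have h1 : (x * a)⁻¹ * (a * x) ∈ N := mem_subgroupOf.mp ((QuotientGroup.eq).mp h.symm)
    have h2 := Coprime.conj_mem (mul_mem hx (hA ha)) h1
    simpa [mul_assoc] using h2
  obtain ⟨c, hc, hcn⟩ := Coprime.exists_centralizer_mem_of_comm_mem hAX hcop hsol hN hX hA hxX hfix
  have e : cl N x hx = cl N c (hX hc.1) := by
    apply (QuotientGroup.eq).mpr
    exact mem_subgroupOf.mpr hcn
  rw [e]
  exact cl_mem_im hc (hX hc.1)

theorem subgroupOf_le_normalizer_subgroupOf {Γ X Y : Subgroup G}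
    (h : Y ≤ normalizer (X : Set G)) : Y.subgroupOf Γ ≤ normalizer (X.subgroupOf Γ : Set Γ) := by
  intro y hy
  rw [mem_normalizer_iff]
  intro z
  exact mem_normalizer_iff.mp (h hy) (z : G)

/-- Normalizers of `p`-subgroups lift modulo a subgroup of order prime to `p`. -/
theorem inf_normalizer_im [Finite G] {p : ℕ} [Fact p.Prime] {K W : Subgroup G}
    (hK : K ≤ normalizer (N : Set G)) (hN : N ≤ K) (hNp : (Nat.card N).Coprime p)
    (hW : IsPGroup p W) (hWK : W ≤ K) :
    im N K ⊓ normalizer (im N W : Set (Quo N)) ≤ im N (K ⊓ normalizer (W : Set G)) := by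
  rintro z ⟨hz, hzn⟩
  haveI : (N.subgroupOf (normalizer (N : Set G))).Normal := Subgroup.normal_in_normalizer
  have hNp' : (Nat.card (N.subgroupOf (normalizer (N : Set G)))).Coprime p := by
    rwa [Nat.card_congr (subgroupOfEquivOfLe Subgroup.le_normalizer).toEquiv]
  have hWp : IsPGroup p (W.subgroupOf (normalizer (N : Set G))) := hW.comap_subtype
  rw [im, SetLike.mem_coe, ← Components.map_normalizer_of_coprime _ hNp' hWp] at hzn
  obtain ⟨⟨y, hy⟩, hyW, rfl⟩ := hzn
  have hyK : y ∈ K := (cl_mem_im_iff hN hy).mp hz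
  refine cl_mem_im (X := K ⊓ normalizer (W : Set G)) ⟨hyK, ?_⟩ hy
  rw [SetLike.mem_coe, mem_normalizer_iff] at hyW
  show y ∈ normalizer (W : Set G)
  rw [mem_normalizer_iff]
  intro w
  refine ⟨fun hw => (hyW ⟨w, hK (hWK hw)⟩).mp hw, fun hw => ?_⟩
  have hwK : w ∈ K := by
    simpa [mul_assoc] using K.mul_mem (K.mul_mem (K.inv_mem hyK) (hWK hw)) hyK
  exact (hyW ⟨w, hK hwK⟩).mpr hw

/-- A subgroup which generates with the derived group is everything. -/
theorem eq_of_sup_commutator [Finite G] {s : ℕ} [Fact s.Prime] {U W : Subgroup G}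
    (hU : IsPGroup s U) (hW : W ≤ U) (h : W ⊔ ⁅U, U⁆ = U) : W = U := by
  haveI := hU.isNilpotent
  refine le_antisymm hW ?_
  rw [← subgroupOf_eq_top]
  refine frattini_nongenerating (top_le_iff.mp ?_)
  intro x _
  have hx : (x : G) ∈ W ⊔ ⁅U, U⁆ := h.symm ▸ x.2
  rw [← map_subgroupOf_eq_of_le hW, ← Subgroup.map_subtype_commutator, ← Subgroup.map_sup] at hx
  obtain ⟨y, hy, e⟩ := hx
  rw [← Subtype.ext e]
  exact sup_le_sup_left (PGroups.commutator_le_frattini hU) _ hy

end Cfsg.Agent.Signalizer.TwoPrimes
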