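import Cfsg.Agent.Signalizer.Pi
import Cfsg.Agent.Signalizer.Solvable
import Cfsg.Agent.H46.SignalizerTrans

/-!
For a prime `q ≥ 5`, a maximal `q`-member `P` and a maximal member `M` containing the part of the functor
normalizing `Z J(P)`: every value is `O_{q'}(θ a) · (θ a ∩ M)`.
-/

set_option autoImplicit false
set_option linter.unusedSectionVars false

namespace Cfsg.Agent.Signalizer

open Subgroup

universe u

variable {G : Type u} [Group G] [Finite G] {r : ℕ} [hr : Fact r.Prime]

namespace Setup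

variable {S : Setup G r} {q : ℕ} [hq : Fact q.Prime]

/-- `P` is a maximal `q`-member. -/
def IsMaxQ (S : Setup G r) (q : ℕ) (P : Subgroup G) : Prop :=
  S.IsMember P ∧ IsPGroup q P ∧ ∀ R, S.IsMember R → IsPGroup q ↥R → P ≤ R → R = P

theorem card_le_A : r ^ 3 ≤ Nat.card S.A := S.card_A.ge

theorem isMember_zjay {R : Subgroup G} (hR : S.IsMember R) : S.IsMember (Thompson.zjay 0 R) :=
  hR.of_le Thompson.zjay_le (hR.le_normalizer.trans
    ((Thompson.normalizer_le_normalizer_jay 0 R).trans (Thompson.normalizer_jay_le_normalizer_zjay 0 R)))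

theorem isMember_inf_normalizer {U X : Subgroup G} (hU : S.IsMember U)
    (hX : S.A ≤ normalizer (X : Set G)) : S.IsMember (U ⊓ normalizer (X : Set G)) :=
  hU.of_le inf_le_left (le_normalizer_inf hU.le_normalizer (hX.trans le_normalizer))

theorem isMember_core {U : Subgroup G} (hU : S.IsMember U) : S.IsMember (core q U) :=
  hU.of_le (core_le U) (hU.le_normalizer.trans (normalizer_le_normalizer_core U))

theorem zpowers_le_A {a : G} (ha : a ∈ S.A) : zpowers a ≤ S.A := zpowers_le.mpr ha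

/-- A maximal `q`-member meets each value in a Sylow subgroup. -/
theorem IsMaxQ.sylow {P : Subgroup G} (hP : S.IsMaxQ q P) (hqr : q ≠ r) {a : G} (ha : a ∈ S.A)
    (h1 : a ≠ 1) : H40.IsSylowOf q (P ⊓ S.θ a) (S.θ a) := by
  obtain ⟨c, hc, Q, hQ⟩ := H46.SignalizerTrans.exists_conj_sylow S.elem card_le_A S.functor hqr
    hP.1 hP.2.1 hP.2.2 (isMember_theta ha h1)
  have hcθ : c ∈ S.θ a := T_le ha h1 hc
  have h2 : H40.IsSylowOf q (P.map (MulAut.conj c).toMonoidHom ⊓ S.θ a) (S.θ a) :=
    hQ ▸ H40.isSylowOf_map Q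
  have h3 := h2.map_conj (c := c⁻¹) (le_normalizer (inv_mem hcθ))
  rwa [map_inf _ _ _ (MulAut.conj c⁻¹).injective, Coprime.map_conj_map_conj, inv_mul_cancel,
    Coprime.map_conj_one, Coprime.map_conj_eq (le_normalizer (inv_mem hcθ))] at h3

/-- A `q'`-part of a member on `a`, normalized by the Sylow subgroup of `θ a`, lies in the core. -/
theorem IsMaxQ.le_core {P U : Subgroup G} (hP : S.IsMaxQ q P) (hqr : q ≠ r) {a : G} (ha : a ∈ S.A)
    (h1 : a ≠ 1) (hU : U ≤ S.θ a) (hUq : ¬ q ∣ Nat.card U)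
    (hn : P ⊓ S.θ a ≤ normalizer (U : Set G)) : U ≤ core q (S.θ a) :=
  le_core_of_sylow (solvable_theta ha h1) (hP.sylow hqr ha h1) hU hUq hn

theorem map_conj_le_theta {a c : G} (ha : a ∈ S.A) (h1 : a ≠ 1) (hc : c ∈ S.T) :
    (S.θ a).map (MulAut.conj c).toMonoidHom = S.θ a :=
  Coprime.map_conj_eq (le_normalizer (T_le ha h1 hc))

variable (h5 : 5 ≤ q) (hqr : q ≠ r)

include h5 hqr in
/-- The chain argument. -/
theorem Minimal.chain (hS : S.Minimal) {P M : Subgroup G} (hP : S.IsMaxQ q P)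
    (hWM : S.normBy (Thompson.zjay 0 P) ≤ M) {a : G} (ha : a ∈ S.A) (h1 : a ≠ 1) :
    S.θ a ≤ core q (S.θ a) ⊔ (S.θ a ⊓ M) := by
  have hθ := isMember_theta (S := S) ha h1
  set Ra := P ⊓ S.θ a with hRa
  have hsyl := hP.sylow hqr ha h1
  by_cases hbot : Ra = ⊥
  · refine le_trans ?_ le_sup_left
    refine Signalizer.le_core le_rfl Subgroup.le_normalizer fun hd => ?_
    have h2 := hsyl.2.2
    rw [show P ⊓ S.θ a = ⊥ from hbot, card_bot] at h2
    exact (hq.out.factorization_pos_of_dvd Nat.card_pos.ne' hd).ne'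
      ((Nat.pow_eq_one.mp h2.symm).resolve_left hq.out.ne_one)
  suffices H : ∀ R : Subgroup G, S.IsMember R → IsPGroup q R → Ra ≤ R → ∃ c ∈ S.T,
      S.θ a ⊓ normalizer (Thompson.zjay 0 R : Set G) ≤
        core q (S.θ a) ⊔ (S.θ a ⊓ M.map (MulAut.conj c).toMonoidHom) by
    have hRam : S.IsMember Ra := hP.1.of_le inf_le_left
      (le_normalizer_inf hP.1.le_normalizer hθ.le_normalizer)
    obtain ⟨c, hc, hle⟩ := H Ra hRam hsyl.2.1 le_rfl
    have h2 : S.θ a ≤ core q (S.θ a) ⊔ (S.θ a ⊓ M.map (MulAut.conj c).toMonoidHom) :=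
      (le_core_sup_normalizer h5 (solvable_theta ha h1) hsyl).trans (sup_le le_sup_left hle)
    have hcn : c⁻¹ ∈ normalizer (S.θ a : Set G) := le_normalizer (inv_mem (T_le ha h1 hc))
    have h3 := map_mono (f := (MulAut.conj c⁻¹).toMonoidHom) h2
    rwa [Subgroup.map_sup, map_inf _ _ _ (MulAut.conj c⁻¹).injective, Coprime.map_conj_eq hcn,
      Coprime.map_conj_map_conj, inv_mul_cancel, Coprime.map_conj_one,
      Coprime.map_conj_eq (normalizer_le_normalizer_core _ hcn)] at h3
  intro R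
  induction R using WellFoundedGT.induction with
  | ind R ih =>
  intro hR hRq hle
  have hR1 : R ≠ ⊥ := fun h => hbot (le_bot_iff.mp (h ▸ hle))
  have hZm := isMember_zjay hR
  have hZne : Thompson.zjay 0 R ≠ ⊥ := Thompson.zjay_ne_bot hRq hR1 (Or.inl rfl)
  obtain ⟨N1, hN1, hN1le, -⟩ := (hS.isMember_normBy hZm hZne).exists_le_maximal
  have hRN : R ≤ N1 :=
    (hR.le_normBy (Thompson.le_normalizer_zjay 0 R)).trans hN1le
  obtain ⟨Q, hRQ, hAQ⟩ := Coprime.exists_invariant_sylow_ge hN1.le_normalizer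
    (coprime_A hN1.not_dvd) (Or.inr hN1.solvable) q hRN hRq hR.le_normalizer
  set R1 := (Q : Subgroup N1).map N1.subtype with hR1def
  have hR1m : S.IsMember R1 := hN1.of_le (map_subtype_le _) hAQ
  have hR1q : IsPGroup q R1 := Q.isPGroup'.map _
  have hxN : S.θ a ⊓ normalizer (Thompson.zjay 0 R : Set G) ≤ N1 :=
    ((isMember_inf_normalizer hθ hZm.le_normalizer).le_normBy inf_le_right).trans hN1le
  rcases lt_or_eq_of_le hRQ with hlt | heq
  · obtain ⟨c, hc, hle'⟩ := ih R1 hlt hR1m hR1q (hle.trans hRQ)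
    refine ⟨c, hc, fun x hx => ?_⟩
    have hsylR1 : H40.IsSylowOf q R1 N1 := H40.isSylowOf_map Q
    obtain ⟨o, ho, n, hn, hon⟩ := (Coprime.mem_sup_iff
      (inf_le_left.trans (le_normalizer_core N1))).mp
      (le_core_sup_normalizer h5 hN1.solvable hsylR1 (hxN hx))
    have hxc : o * n ∈ centralizer (zpowers a : Set G) := by
      rw [hon, H42.centralizer_zpowers']
      exact theta_le_centralizer ha h1 hx.1
    have hzA := zpowers_le_A (S := S) ha
    obtain ⟨o', ho', n', hn', he⟩ := Coprime.centralizer_mul (hzA.trans hN1.le_normalizer)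
      ((coprime_A (S := S) hN1.not_dvd).coprime_dvd_left (card_dvd_of_le hzA))
      (Or.inr hN1.solvable) (core_le N1) inf_le_left
      (hzA.trans (isMember_core hN1).le_normalizer)
      (hzA.trans (isMember_inf_normalizer hN1 (isMember_zjay hR1m).le_normalizer).le_normalizer)
      ho hn hxc
    rw [H42.centralizer_zpowers'] at ho' hn'
    rw [← hon, he]
    refine mul_mem (mem_sup_left ?_) (hle' ⟨hN1.inf_centralizer_le ha h1 ⟨hn'.1.1, hn'.2⟩, hn'.1.2⟩)
    refine hP.le_core (U := core q N1 ⊓ centralizer ({a} : Set G)) hqr ha h1 ?_ ?_ ?_ ho'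
    · exact (inf_le_inf_right _ (core_le N1)).trans (hN1.inf_centralizer_le ha h1)
    · exact fun hd => not_dvd_card_core N1 (hd.trans (card_dvd_of_le inf_le_left))
    · refine le_trans (le_inf ?_ ?_) inf_normalizer_le_normalizer_inf
      · exact hle.trans (hRN.trans (le_normalizer_core N1))
      · exact (inf_le_right.trans (theta_le_centralizer ha h1)).trans Subgroup.le_normalizer
  · -- `R` is a Sylow subgroup of `N1`, hence a maximal `q`-member
    obtain ⟨P', hP', hP'q, hRP', hP'max⟩ := H46.SignalizerTrans.exists_max hR hRq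
    have hRP : R = P' := by
      by_contra hne
      have hlt : R < P' := lt_of_le_of_ne hRP' hne
      haveI := hP'q.isNilpotent
      have hlt' : R.subgroupOf P' < ⊤ := by
        rw [lt_top_iff_ne_top]
        exact fun h => hne (le_antisymm hRP' (subgroupOf_eq_top.mp h))
      have hN := normalizerCondition_of_isNilpotent _ hlt'
      obtain ⟨x, hx, hxR⟩ := SetLike.exists_of_lt hN
      set V := P' ⊓ normalizer (R : Set G) with hV
      have hxV : (x : G) ∈ V := by
        refine ⟨x.2, ?_⟩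
        have hx' := hx
        rw [← subgroupOf_normalizer_eq hRP'] at hx'
        exact hx'
      have hVN : V ≤ N1 := ((isMember_inf_normalizer hP' hR.le_normalizer).le_normBy
        (inf_le_right.trans ((Thompson.normalizer_le_normalizer_jay 0 R).trans
          (Thompson.normalizer_jay_le_normalizer_zjay 0 R)))).trans hN1le
      have hsylR : H40.IsSylowOf q R N1 := heq ▸ H40.isSylowOf_map Q
      have hVR := hsylR.eq_of_le (hP'q.to_le inf_le_left) (le_inf hRP' Subgroup.le_normalizer) hVN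
      exact hxR (mem_subgroupOf.mpr (hVR ▸ hxV))
    obtain ⟨c, hc, he⟩ := H46.SignalizerTrans.transitive S.elem card_le_A S.functor hqr P P' hP.1
      hP.2.1 hP.2.2 hP' hP'q hP'max
    refine ⟨c, hc, fun x hx => mem_sup_right ⟨hx.1, ?_⟩⟩
    rw [hRP, ← he, Thompson.zjay_map _ (MulAut.conj c).injective] at hx
    have hcθ : c ∈ S.θ a := T_le ha h1 hc
    refine ⟨c⁻¹ * x * c, hWM ((isMember_inf_normalizer hθ (isMember_zjay hP.1).le_normalizer).le_normBy
      inf_le_right ⟨(S.θ a).mul_mem ((S.θ a).mul_mem ((S.θ a).inv_mem hcθ) hx.1) hcθ, ?_⟩), by simp [mul_assoc]⟩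
    refine Coprime.mem_normalizer_of_map_conj ?_
    have h4 := Coprime.map_conj_eq hx.2
    apply map_injective (f := (MulAut.conj c).toMonoidHom) (MulAut.conj c).injective
    rw [Coprime.map_conj_map_conj, show c * (c⁻¹ * x * c) = x * c by group,
      ← Coprime.map_conj_map_conj, h4]

end Setup

end Cfsg.Agent.Signalizer
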