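import Cfsg.Agent.Signalizer.Induction
import Cfsg.Agent.Coprime.Hall
import Cfsg.Agent.Coprime.Commutator

/-!
`GEN`: `[K, b]` is generated by the `[C_K(D), b]` for lines `D` missing `b`.
`BLEMMA`: in a minimal counterexample no member contains all these commutators for a fixed `b`.
-/

set_option autoImplicit false
set_option linter.unusedSectionVars false

namespace Cfsg.Agent.Signalizer

open Subgroup
open scoped commutatorElement

universe u

variable {G : Type u} [Group G] [Finite G] {r : ℕ} [hr : Fact r.Prime]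

namespace Setup

variable {S : Setup G r}

theorem inf_normalizer_le_normalizer_join {N M : Subgroup G} :
    normalizer (N : Set G) ⊓ normalizer (M : Set G) ≤ normalizer ((N ⊔ M : Subgroup G) : Set G) := by
  intro g hg
  refine Coprime.mem_normalizer_of_map_conj ?_
  rw [Subgroup.map_sup, Coprime.map_conj_eq hg.1, Coprime.map_conj_eq hg.2]

theorem le_normalizer_bot (H : Subgroup G) : H ≤ normalizer ((⊥ : Subgroup G) : Set G) :=
  le_normalizer_iff.mpr fun g _ x hx => by simp [mem_bot.mp hx]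

theorem commutator_pow_mem {M : Subgroup G} {b x : G} (hbM : b ∈ normalizer (M : Set G))
    (h : ⁅x, b⁆ ∈ M) : ∀ k : ℕ, ⁅x, b ^ k⁆ ∈ M
  | 0 => by simp
  | k + 1 => by
    rw [pow_succ', show ⁅x, b * b ^ k⁆ = ⁅x, b⁆ * (b * ⁅x, b ^ k⁆ * b⁻¹) by
      simp only [commutatorElement_def]; group]
    exact mul_mem h (Coprime.conj_mem hbM (commutator_pow_mem hbM h k))

theorem exists_abelian_step {K N : Subgroup G} (hK : Group.IsSolvable K)
    (hAK : S.A ≤ normalizer (K : Set G)) (hNK : N ≤ K) (hKN : K ≤ normalizer (N : Set G))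
    (hAN : S.A ≤ normalizer (N : Set G)) (hne : N ≠ K) :
    ∃ W, N < W ∧ W ≤ K ∧ K ≤ normalizer (W : Set G) ∧ S.A ≤ normalizer (W : Set G) ∧
      ⁅W, W⁆ ≤ N := by
  classical
  let d : ℕ → Subgroup G := fun n => (derivedSeries K n).map K.subtype
  have hd0 : d 0 = K := by simp [d, derivedSeries_zero, ← MonoidHom.range_eq_map]
  have hds : ∀ n, d (n + 1) = ⁅d n, d n⁆ := fun n => by
    simp [d, derivedSeries_succ, map_commutator]
  have hdn : ∀ n, d n ≤ K ∧ K ≤ normalizer (d n : Set G) ∧ S.A ≤ normalizer (d n : Set G) := by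
    intro n
    induction n with
    | zero => rw [hd0]; exact ⟨le_rfl, le_normalizer, hAK⟩
    | succ n ih =>
      rw [hds]
      exact ⟨(commutator_mono ih.1 ih.1).trans (commutator_le_self K),
        fun g hg => Coprime.mem_normalizer_commutator (ih.2.1 hg) (ih.2.1 hg),
        fun g hg => Coprime.mem_normalizer_commutator (ih.2.2 hg) (ih.2.2 hg)⟩
  obtain ⟨m, hm⟩ := (Group.isSolvable_def K).mp hK
  have hex : ∃ n, d n ≤ N := ⟨m, by simp [d, hm]⟩
  set n := Nat.find hex with hn
  have hspec : d n ≤ N := Nat.find_spec hex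
  rcases n with _ | k
  · exact absurd (le_antisymm hNK (hd0 ▸ hspec)) hne
  have hk : ¬ d k ≤ N := Nat.find_min hex (hn ▸ Nat.lt_succ_self k)
  obtain ⟨h1, h2, h3⟩ := hdn k
  refine ⟨N ⊔ d k, lt_of_le_of_ne le_sup_left fun h => hk (h.symm ▸ le_sup_right), sup_le hNK h1,
    (le_inf hKN h2).trans inf_normalizer_le_normalizer_join,
    (le_inf hAN h3).trans inf_normalizer_le_normalizer_join, ?_⟩
  have hdN : d k ≤ normalizer (N : Set G) := h1.trans hKN
  rw [commutator_le]
  intro x hx y hy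
  obtain ⟨n₁, hn₁, x', hx', rfl⟩ := (Coprime.mem_sup_iff hdN).mp hx
  obtain ⟨n₂, hn₂, y', hy', rfl⟩ := (Coprime.mem_sup_iff hdN).mp hy
  have key : ⁅x', y'⁆ ∈ N := hspec (hds k ▸ commutator_mem_commutator hx' hy')
  have e : ⁅n₁ * x', n₂ * y'⁆ = n₁ * (x' * n₂ * x'⁻¹) * (⁅x', y'⁆ * (y' * n₁⁻¹ * y'⁻¹) * n₂⁻¹) := by
    simp only [commutatorElement_def]; group
  rw [e]
  exact mul_mem (mul_mem hn₁ (Coprime.conj_mem (hdN hx') hn₂))
    (mul_mem (mul_mem key (Coprime.conj_mem (hdN hy') (inv_mem hn₁))) (inv_mem hn₂))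

theorem IsLine.exists_inter {D D' : Subgroup G} (hD : S.IsLine D) (hD' : S.IsLine D') :
    ∃ d ∈ D ⊓ D', d ≠ 1 := by
  refine (D ⊓ D').bot_or_exists_ne_one.resolve_left fun h0 => ?_
  have hn : D' ≤ normalizer (D : Set G) :=
    (hD'.1.trans (A_le_centralizer_A.trans (centralizer_le hD.1))).trans (centralizer_le_normalizer _)
  have h2 := Coprime.card_sup hn h0
  have h3 := Nat.le_of_dvd Nat.card_pos (card_dvd_of_le (sup_le hD.1 hD'.1))
  rw [S.card_A, h2, hD.2, hD'.2, ← pow_add] at h3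
  exact absurd ((Nat.pow_le_pow_iff_right hr.out.one_lt).mp h3) (by norm_num)

/-- `[K, b]` is generated by the `[C_K(D), b]`, `D` a line missing `b`. -/
theorem commutator_le_of_lines {K L : Subgroup G} (hK : ¬ r ∣ Nat.card K)
    (hKs : Group.IsSolvable K) (hAK : S.A ≤ normalizer (K : Set G))
    (hAL : S.A ≤ normalizer (L : Set G)) {b : G} (hb : b ∈ S.A)
    (h : ∀ D, S.IsLine D → b ∉ D → ∀ x ∈ K ⊓ centralizer (D : Set G), ⁅x, b⁆ ∈ L) :
    ⁅K, zpowers b⁆ ≤ L := by
  have hzA : zpowers b ≤ S.A := zpowers_le.mpr hb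
  suffices H : ∀ N : Subgroup G, N ≤ K → K ≤ normalizer (N : Set G) →
      S.A ≤ normalizer (N : Set G) → ⁅K, zpowers b⁆ ≤ N ⊔ (L ⊓ K) by
    simpa using (H ⊥ bot_le (le_normalizer_bot K) (le_normalizer_bot S.A)).trans
      (sup_le bot_le inf_le_left)
  intro N
  induction N using WellFoundedGT.induction with
  | ind N ih =>
    intro hNK hKN hAN
    have hcomm : ⁅K, zpowers b⁆ ≤ K := Coprime.commutator_le_left_of_normalizer (hzA.trans hAK)
    by_cases hne : N = K
    · exact hcomm.trans (hne ▸ le_sup_left)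
    obtain ⟨W, hNW, hWK, hKW, hAW, hWW⟩ := exists_abelian_step hKs hAK hNK hKN hAN hne
    have hKb := ih W hNW hWK hKW hAW
    set L' := N ⊔ (L ⊓ K) with hL'
    have hL'K : L' ≤ K := sup_le hNK inf_le_right
    have hAL' : S.A ≤ normalizer (L' : Set G) :=
      (le_inf hAN (le_normalizer_inf hAL hAK)).trans inf_normalizer_le_normalizer_join
    have hbL' : ∀ {x : G}, x ∈ L' → ⁅x, b⁆ ∈ L' := fun {x} hx => by
      rw [commutatorElement_def, mul_assoc x b, mul_assoc x]
      exact mul_mem hx (Coprime.conj_mem (hAL' hb) (inv_mem hx))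
    have hdec : ∀ {x : G}, x ∈ ⁅K, zpowers b⁆ → ∃ w ∈ W, ∃ l ∈ L', l * w = x := by
      intro x hx
      obtain ⟨w, hw, l, hl, rfl⟩ := (Coprime.mem_sup_iff (inf_le_right.trans hKW)).mp (hKb hx)
      exact ⟨l⁻¹ * w * l, Coprime.conj_mem' (hKW hl.2) hw, l, mem_sup_right hl, by group⟩
    have hcop := (coprime_A (S := S) hK).coprime_dvd_left (card_dvd_of_le hzA)
    by_cases hcase : ∀ w ∈ W, ⁅w, b⁆ ∈ N
    · rw [← Coprime.commutator_commutator_eq (hzA.trans hAK) hcop (Or.inr hKs), commutator_le]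
      intro x hx y hy
      have hstep : ∀ z ∈ ⁅K, zpowers b⁆, ⁅z, b⁆ ∈ L' := by
        intro z hz
        obtain ⟨w, hw, l, hl, rfl⟩ := hdec hz
        rw [show ⁅l * w, b⁆ = l * ⁅w, b⁆ * l⁻¹ * ⁅l, b⁆ by simp only [commutatorElement_def]; group]
        exact mul_mem (Coprime.conj_mem (hKN (hL'K hl)) (hcase w hw) |> mem_sup_left) (hbL' hl)
      obtain ⟨k, rfl⟩ := (mem_powers_iff_mem_zpowers (x := b) (y := y)).mpr hy
      exact commutator_pow_mem (hAL' hb) (hstep x hx) k
    -- otherwise a normal subgroup strictly above `N` lies in `L'`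
    push Not at hcase
    have hWL : ∀ w ∈ W, ⁅w, b⁆ ∈ L' := by
      let V : Subgroup G :=
        { carrier := {w | w ∈ W ∧ ⁅w, b⁆ ∈ L'}
          one_mem' := ⟨one_mem _, by simp⟩
          mul_mem' := by
            rintro x y ⟨hx, hx'⟩ ⟨hy, hy'⟩
            refine ⟨mul_mem hx hy, ?_⟩
            rw [show ⁅x * y, b⁆ = ⁅x, ⁅y, b⁆⁆ * ⁅y, b⁆ * ⁅x, b⁆ by
              simp only [commutatorElement_def]; group]
            refine mul_mem (mul_mem (mem_sup_left (hWW (commutator_mem_commutator hx ?_))) hy') hx'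
            rw [commutatorElement_def, mul_assoc y b, mul_assoc y]
            exact mul_mem hy (Coprime.conj_mem (hAW hb) (inv_mem hy))
          inv_mem' := by
            rintro x ⟨hx, hx'⟩
            refine ⟨inv_mem hx, ?_⟩
            have hc : ⁅x, b⁆ ∈ W := by
              rw [commutatorElement_def, mul_assoc x b, mul_assoc x]
              exact mul_mem hx (Coprime.conj_mem (hAW hb) (inv_mem hx))
            rw [show ⁅x⁻¹, b⁆ = ⁅x, b⁆⁻¹ * ⁅⁅x, b⁆, x⁻¹⁆ by simp only [commutatorElement_def]; group]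
            exact mul_mem (inv_mem hx') (mem_sup_left (hWW (commutator_mem_commutator hc (inv_mem hx)))) }
      have hle : W ≤ V := le_of_lines (S := S) (fun hd => hK (hd.trans (card_dvd_of_le hWK))) hAW
        fun D hD x hx => ⟨hx.1, by
          by_cases hbD : b ∈ D
          · rw [commutatorElement_eq_one_iff_mul_comm.mpr (mem_centralizer_iff.mp hx.2 b hbD).symm]
            exact one_mem _
          · refine mem_sup_right ⟨h D hD hbD x ⟨hWK hx.1, hx.2⟩, ?_⟩
            rw [commutatorElement_def, mul_assoc x b, mul_assoc x]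
            exact mul_mem (hWK hx.1) (Coprime.conj_mem (hAK hb) (inv_mem (hWK hx.1)))⟩
      exact fun w hw => (hle hw).2
    obtain ⟨w₀, hw₀, hw₀N⟩ := hcase
    set X₀ : Set G := (fun w => ⁅w, b⁆) '' (W : Set G) with hX₀
    set g₀ := ⁅K, zpowers b⁆ with hg₀
    let W₁ : Subgroup G := closure ((N : Set G) ∪
      {y | ∃ g ∈ g₀, ∃ x ∈ X₀, g * x * g⁻¹ = y})
    have hW₁L : W₁ ≤ L' := by
      rw [closure_le]
      rintro y (hy | ⟨g, hg, _, ⟨w, hw, rfl⟩, rfl⟩)
      · exact mem_sup_left hy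
      obtain ⟨u, hu, l, hl, rfl⟩ := hdec hg
      rw [show l * u * ⁅w, b⁆ * (l * u)⁻¹ = l * (⁅u, ⁅w, b⁆⁆ * ⁅w, b⁆) * l⁻¹ by
        simp only [commutatorElement_def]; group]
      refine mul_mem (mul_mem hl (mul_mem (mem_sup_left (hWW (commutator_mem_commutator hu ?_)))
        (hWL w hw))) (inv_mem hl)
      rw [commutatorElement_def, mul_assoc w b, mul_assoc w]
      exact mul_mem hw (Coprime.conj_mem (hAW hb) (inv_mem hw))
    have hNW₁ : N < W₁ := by
      refine lt_of_le_of_ne (fun x hx => subset_closure (Or.inl hx)) fun he => hw₀N ?_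
      rw [he]
      exact subset_closure (Or.inr ⟨1, one_mem _, _, ⟨w₀, hw₀, rfl⟩, by simp⟩)
    -- `W₁` is normalized by `[K, b]`, by `C_K(b)` and by `A`
    have hconj : ∀ {c : G}, c ∈ normalizer (N : Set G) → c ∈ normalizer (g₀ : Set G) →
        c ∈ normalizer (W : Set G) → (∀ w ∈ W, c * ⁅w, b⁆ * c⁻¹ ∈ X₀) →
        ∀ y ∈ W₁, c * y * c⁻¹ ∈ W₁ := by
      intro c hcN hcg hcW hcX y hy
      refine (closure_le (K := W₁.comap (MulAut.conj c).toMonoidHom)).mpr ?_ hy
      rintro z (hz | ⟨g, hg, _, ⟨w, hw, rfl⟩, rfl⟩)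
      · exact subset_closure (Or.inl (Coprime.conj_mem hcN hz))
      · refine subset_closure (Or.inr ⟨c * g * c⁻¹, Coprime.conj_mem hcg hg, _, hcX w hw, ?_⟩)
        simp [mul_assoc]
    have hK₁ : K ≤ normalizer (W₁ : Set G) := by
      refine le_normalizer_iff.mpr fun c hc y hy => ?_
      rw [← Coprime.commutator_sup_centralizer (hzA.trans hAK) hcop (Or.inr hKs)] at hc
      obtain ⟨g, hg, k, hk, rfl⟩ := (Coprime.mem_sup_iff
        (N := g₀) (H := K ⊓ centralizer (zpowers b : Set G)) (fun k hk =>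
          Coprime.mem_normalizer_commutator (le_normalizer hk.1)
            (centralizer_le_normalizer _ hk.2))).mp hc
      have hkb : k * b = b * k := (mem_centralizer_iff.mp hk.2 b (mem_zpowers b)).symm
      have h1 : k * y * k⁻¹ ∈ W₁ := hconj (hKN hk.1)
        (Coprime.mem_normalizer_commutator (le_normalizer hk.1) (centralizer_le_normalizer _ hk.2))
        (hKW hk.1) (fun w hw => ⟨k * w * k⁻¹, Coprime.conj_mem (hKW hk.1) hw, by
          show ⁅k * w * k⁻¹, b⁆ = k * ⁅w, b⁆ * k⁻¹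
          conv_lhs => rw [show b = k * b * k⁻¹ by rw [hkb, mul_inv_cancel_right]]
          simp only [commutatorElement_def]; group⟩) y hy
      rw [show g * k * y * (g * k)⁻¹ = g * (k * y * k⁻¹) * g⁻¹ by group]
      generalize k * y * k⁻¹ = z at h1
      refine (closure_le (K := W₁.comap (MulAut.conj g).toMonoidHom)).mpr ?_ h1
      rintro z' (hz | ⟨g', hg', x, hx, rfl⟩)
      · exact subset_closure (Or.inl (Coprime.conj_mem (hKN (hcomm hg)) hz))
      · refine subset_closure (Or.inr ⟨g * g', mul_mem hg hg', x, hx, ?_⟩)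
        simp [mul_assoc]
    have hA₁ : S.A ≤ normalizer (W₁ : Set G) := by
      refine le_normalizer_iff.mpr fun a ha y hy => hconj (hAN ha)
        (Coprime.mem_normalizer_commutator (hAK ha)
          ((A_le_centralizer_A.trans (centralizer_le hzA)).trans (centralizer_le_normalizer _) ha))
        (hAW ha) (fun w hw => ⟨a * w * a⁻¹, Coprime.conj_mem (hAW ha) hw, by
          show ⁅a * w * a⁻¹, b⁆ = a * ⁅w, b⁆ * a⁻¹
          conv_lhs => rw [show b = a * b * a⁻¹ by rw [H40.elemAb_commute S.elem ha hb, mul_inv_cancel_right]]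
          simp only [commutatorElement_def]; group⟩) y hy
    exact (ih W₁ hNW₁ (hW₁L.trans hL'K) hK₁ hA₁).trans (sup_le hW₁L le_sup_right)

/-- In a minimal counterexample no member contains `[C(D), b]` for all lines `D` missing `b`. -/
theorem Minimal.not_commutators_le (hS : S.Minimal) {b : G} (hb : b ∈ S.A) (hb1 : b ≠ 1)
    {L : Subgroup G} (hL : S.IsMember L)
    (h : ∀ D, S.IsLine D → b ∉ D → ∀ x ∈ S.C D, ⁅x, b⁆ ∈ L) : False := by
  have hzA : zpowers b ≤ S.A := zpowers_le.mpr hb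
  set ι := {D : Subgroup G // S.IsLine D ∧ b ∉ D}
  set B := ⨆ D : ι, ⁅S.C D, zpowers b⁆ with hBdef
  have hBL : B ≤ L := by
    refine iSup_le fun D => commutator_le.mpr fun x hx y hy => ?_
    obtain ⟨k, rfl⟩ := (mem_powers_iff_mem_zpowers (x := b) (y := y)).mpr hy
    exact commutator_pow_mem (hL.le_normalizer hb) (h D D.2.1 D.2.2 x hx) k
  have hAB : S.A ≤ normalizer (B : Set G) := by
    refine le_normalizer_iff.mpr fun a ha x hx => ?_
    have : B.map (MulAut.conj a).toMonoidHom = B := by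
      rw [hBdef, Subgroup.map_iSup]
      exact iSup_congr fun D => Coprime.map_conj_eq (Coprime.mem_normalizer_commutator
        (le_normalizer_C D.2.1.1 ha)
        ((A_le_centralizer_A.trans (centralizer_le hzA)).trans (centralizer_le_normalizer _) ha))
    rw [← this]
    exact mem_map_of_mem _ hx
  have hBm := hL.of_le hBL hAB
  have hgen : ∀ a ∈ S.A, a ≠ 1 → ⁅S.θ a, zpowers b⁆ ≤ B := fun a ha h1 =>
    commutator_le_of_lines (not_dvd_theta ha h1) (solvable_theta ha h1)
      (isMember_theta ha h1).le_normalizer hAB hb fun D hD hbD x hx =>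
        (le_iSup (fun D : ι => ⁅S.C D, zpowers b⁆) ⟨D, hD, hbD⟩)
          (commutator_mem_commutator ((isMember_theta ha h1).inf_centralizer_le_C hD.1 hx)
            (mem_zpowers b))
  -- each value normalizes `B`
  have hnorm : ∀ a ∈ S.A, a ≠ 1 → S.θ a ≤ normalizer (B : Set G) := by
    intro a ha h1
    refine (isMember_theta ha h1).le_of_C fun D hD => ?_
    intro c hc
    refine Coprime.mem_normalizer_of_map_conj ?_
    refine eq_of_le_of_card_ge ?_ (Coprime.card_map_conj c B).ge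
    rw [map_le_iff_le_comap]
    intro x hx
    refine (iSup_le (a := B.comap (MulAut.conj c).toMonoidHom) fun D' => ?_) hx
    rw [commutator_le]
    intro u hu v hv
    show c * ⁅u, v⁆ * c⁻¹ ∈ B
    obtain ⟨d', hd', hd'1⟩ := hD.exists_inter D'.2.1
    refine hgen d' (hD.1 hd'.1) hd'1 (Coprime.conj_mem ?_ (commutator_mem_commutator
      (C_le hd'.2 hd'1 hu) hv))
    exact normalizer_commutator_ge_left _ _ (C_le hd'.1 hd'1 hc.2)
  have hB1 := hS.eq_bot_of_normalized hBm hnorm
  refine hS.1 ⟨S.θ b, isMember_theta hb hb1, fun a ha h1 x hx => balance ha h1 hb hb1 ⟨hx, ?_⟩⟩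
  have := hgen a ha h1 (commutator_mem_commutator hx (mem_zpowers b))
  rw [hB1, mem_bot, commutatorElement_eq_one_iff_mul_comm] at this
  exact mem_centralizer_singleton_iff.mpr this

end Setup

end Cfsg.Agent.Signalizer
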