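import Cfsg.Agent.Signalizer.Setup
import Mathlib.GroupTheory.QuotientGroup.Basic

/-!
A minimal counterexample to completeness: proper subfunctors are complete, no nontrivial member is
normalized by all values, and the subgroup generated by the parts of the values normalizing a
nontrivial member is itself a member.
-/

set_option autoImplicit false
set_option linter.unusedSectionVars false

namespace Cfsg.Agent.Signalizer

open Subgroup

universe u

variable {G : Type u} [Group G] [Finite G] {r : ℕ} [hr : Fact r.Prime]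

namespace Setup

variable {S : Setup G r}

theorem weight_eq_sum (S : Setup G r) [Fintype {a : G // a ∈ S.A ∧ a ≠ 1}] :
    S.weight = ∑ a : {a : G // a ∈ S.A ∧ a ≠ 1}, Nat.card (S.θ a) :=
  finsum_eq_sum_of_fintype _

theorem Minimal.not_le_member (hS : S.Minimal) {X : Subgroup G} (hX : S.IsMember X) :
    ∃ a ∈ S.A, a ≠ 1 ∧ ¬ S.θ a ≤ X := by
  by_contra hc
  push Not at hc
  exact hS.1 ⟨X, hX, hc⟩

/-- A proper subfunctor has a completion. -/
theorem Minimal.subfunctor (hS : S.Minimal) (θ' : G → Subgroup G)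
    (hle : ∀ a ∈ S.A, a ≠ 1 → θ' a ≤ S.θ a)
    (hA : ∀ a ∈ S.A, a ≠ 1 → S.A ≤ normalizer (θ' a : Set G))
    (hbal : ∀ a ∈ S.A, a ≠ 1 → ∀ b ∈ S.A, b ≠ 1 → θ' a ⊓ centralizer ({b} : Set G) ≤ θ' b)
    (hlt : ∃ a ∈ S.A, a ≠ 1 ∧ θ' a ≠ S.θ a) :
    ∃ W, S.IsMember W ∧ (∀ a ∈ S.A, a ≠ 1 → θ' a ≤ W) ∧
      (∀ a ∈ S.A, a ≠ 1 → W ⊓ centralizer ({a} : Set G) ≤ θ' a) := by
  have := Fintype.ofFinite {a : G // a ∈ S.A ∧ a ≠ 1}
  let S' : Setup G r :=
    { A := S.A
      θ := θ'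
      elem := S.elem
      card_A := S.card_A
      functor := ⟨⟨fun a ha h1 => (hle a ha h1).trans (theta_le_centralizer ha h1),
          fun a ha h1 hd => not_dvd_theta ha h1 (hd.trans (card_dvd_of_le (hle a ha h1))),
          fun a ha h1 => le_normalizer_iff.mp (hA a ha h1), hbal⟩,
        fun a ha h1 => Coprime.isSolvable_of_le (hle a ha h1) (solvable_theta ha h1)⟩ }
  have hw : S'.weight < S.weight := by
    rw [weight, weight, finsum_eq_sum_of_fintype, finsum_eq_sum_of_fintype]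
    obtain ⟨a, ha, h1, hne⟩ := hlt
    refine Finset.sum_lt_sum (fun b _ => card_le_of_le (hle b b.2.1 b.2.2))
      ⟨⟨a, ha, h1⟩, Finset.mem_univ _, lt_of_le_of_ne (card_le_of_le (hle a ha h1)) fun he => hne ?_⟩
    exact eq_of_le_of_card_ge (hle a ha h1) he.ge
  obtain ⟨W, hW, hWle⟩ := hS.2 G S' hw
  exact ⟨W, ⟨hW.1, hW.2.1, hW.2.2.1, fun a ha h1 => (hW.2.2.2 a ha h1).trans (hle a ha h1)⟩, hWle,
    hW.2.2.2⟩

/-- The subgroup generated by the values of a complete subfunctor is a member. -/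
theorem Minimal.isMember_iSup (hS : S.Minimal) (θ' : G → Subgroup G)
    (hle : ∀ a ∈ S.A, a ≠ 1 → θ' a ≤ S.θ a)
    (hA : ∀ a ∈ S.A, a ≠ 1 → S.A ≤ normalizer (θ' a : Set G))
    (hbal : ∀ a ∈ S.A, a ≠ 1 → ∀ b ∈ S.A, b ≠ 1 → θ' a ⊓ centralizer ({b} : Set G) ≤ θ' b)
    (hlt : ∃ a ∈ S.A, a ≠ 1 ∧ θ' a ≠ S.θ a) :
    S.IsMember (⨆ a : {a : G // a ∈ S.A ∧ a ≠ 1}, θ' a) ∧
      ∀ a ∈ S.A, a ≠ 1 →
        (⨆ b : {a : G // a ∈ S.A ∧ a ≠ 1}, θ' b) ⊓ centralizer ({a} : Set G) = θ' a := by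
  obtain ⟨W, hW, hWle, hWc⟩ := hS.subfunctor θ' hle hA hbal hlt
  have hle' : (⨆ b : {a : G // a ∈ S.A ∧ a ≠ 1}, θ' b) ≤ W :=
    iSup_le fun b => hWle b b.2.1 b.2.2
  refine ⟨hW.of_le hle' (le_normalizer_iff.mpr fun c hc x hx => ?_), fun a ha h1 =>
    le_antisymm ((inf_le_inf_right _ hle').trans (hWc a ha h1))
      (le_inf (le_iSup (fun b : {a : G // a ∈ S.A ∧ a ≠ 1} => θ' b) ⟨a, ha, h1⟩)
        ((hle a ha h1).trans (theta_le_centralizer ha h1)))⟩
  have : (⨆ b : {a : G // a ∈ S.A ∧ a ≠ 1}, θ' b).map (MulAut.conj c).toMonoidHom =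
      ⨆ b : {a : G // a ∈ S.A ∧ a ≠ 1}, θ' b := by
    rw [Subgroup.map_iSup]
    exact iSup_congr fun b => Coprime.map_conj_eq (hA b b.2.1 b.2.2 hc)
  rw [← this]
  exact Subgroup.mem_map_of_mem _ hx

/-- In a minimal counterexample no nontrivial member is normalized by all values. -/
theorem Minimal.eq_bot_of_normalized (hS : S.Minimal) {X : Subgroup G} (hX : S.IsMember X)
    (hn : ∀ a ∈ S.A, a ≠ 1 → S.θ a ≤ normalizer (X : Set G)) : X = ⊥ := by
  by_contra hX1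
  set N := normalizer (X : Set G) with hNdef
  have hAN : S.A ≤ N := hX.le_normalizer
  have hXN : X ≤ N := le_normalizer
  haveI : (X.subgroupOf N).Normal := normal_subgroupOf_of_le_normalizer le_rfl
  let π : N →* N ⧸ X.subgroupOf N := QuotientGroup.mk' _
  have hπ : ∀ x : N, π x = 1 ↔ (x : G) ∈ X := fun x =>
    (QuotientGroup.eq_one_iff x).trans mem_subgroupOf
  have hdisj : ∀ {x : G}, x ∈ S.A → x ∈ X → x = 1 := fun {x} h1 h2 =>
    mem_bot.mp ((Coprime.inf_eq_bot (coprime_A hX.not_dvd)).le ⟨h1, h2⟩)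
  let f : G → Subgroup (N ⧸ X.subgroupOf N) := fun a => ((S.θ a).subgroupOf N).map π
  let θ' : N ⧸ X.subgroupOf N → Subgroup (N ⧸ X.subgroupOf N) := fun h =>
    ⨆ a : {a : N // (a : G) ∈ S.A ∧ (a : G) ≠ 1 ∧ π a = h}, f (a.1 : G)
  have hθ' : ∀ a : N, (a : G) ∈ S.A → (a : G) ≠ 1 → θ' (π a) = f a := by
    intro a ha h1
    refine le_antisymm (iSup_le ?_) (le_iSup_of_le ⟨a, ha, h1, rfl⟩ le_rfl)
    rintro ⟨b, hb, -, he⟩
    have hab : (b : G) * (a : G)⁻¹ = 1 := hdisj (mul_mem hb (inv_mem ha)) (by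
      have := (hπ (b * a⁻¹)).mp (by rw [map_mul, map_inv, he, mul_inv_cancel])
      simpa using this)
    rw [mul_inv_eq_one.mp hab]
  have hne : ∀ {ab : N ⧸ X.subgroupOf N}, ab ∈ (S.A.subgroupOf N).map π → ab ≠ 1 →
      ∃ a : N, (a : G) ∈ S.A ∧ (a : G) ≠ 1 ∧ π a = ab := by
    rintro _ ⟨a, ha, rfl⟩ h1
    exact ⟨a, ha, fun he => h1 ((hπ a).mpr (by rw [he]; exact one_mem _)), rfl⟩
  let A' : Subgroup (N ⧸ X.subgroupOf N) := (S.A.subgroupOf N).map π
  have hcA' : Nat.card A' = Nat.card S.A := by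
    rw [← Nat.card_congr (subgroupOfEquivOfLe hAN).toEquiv]
    refine (Nat.card_congr (Equiv.ofBijective
      (fun x : S.A.subgroupOf N => (⟨π x, mem_map_of_mem _ x.2⟩ : A')) ⟨?_, ?_⟩)).symm
    · intro x y hxy
      have hxy' : π (x : N) = π (y : N) := congrArg Subtype.val hxy
      have := (hπ ((x : N) * (y : N)⁻¹)).mp (by rw [map_mul, map_inv, hxy', mul_inv_cancel])
      exact Subtype.ext (Subtype.ext (mul_inv_eq_one.mp
        (hdisj (mul_mem x.2 (inv_mem y.2)) (by simpa using this))))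
    · rintro ⟨_, ⟨x, hx, rfl⟩⟩
      exact ⟨⟨x, hx⟩, rfl⟩
  have hA'el : Cfsg.IsElementaryAbelian r A' := by
    refine ⟨⟨⟨fun x y => ?_⟩⟩, ?_⟩
    · obtain ⟨x', hx', hx''⟩ := x.2
      obtain ⟨y', hy', hy''⟩ := y.2
      refine Subtype.ext ?_
      show (x : N ⧸ X.subgroupOf N) * y = y * x
      rw [← hx'', ← hy'', ← map_mul, ← map_mul,
        Subtype.ext (H40.elemAb_commute S.elem hx' hy') (a1 := x' * y') (a2 := y' * x')]
    · rintro _ ⟨x, hx, rfl⟩
      rw [← map_pow, Subtype.ext (S.elem.2 x hx) (a1 := x ^ r) (a2 := 1), map_one]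
  -- the balance condition in the quotient
  have hbal' : ∀ a b : N, (a : G) ∈ S.A → (a : G) ≠ 1 → (b : G) ∈ S.A → (b : G) ≠ 1 →
      f a ⊓ centralizer ({π b} : Set (N ⧸ X.subgroupOf N)) ≤ f b := by
    rintro a b ha ha1 hb hb1 _ ⟨⟨x, hx, rfl⟩, hxb⟩
    have hxθ : (x : G) ∈ S.θ a := hx
    have hzA : zpowers (b : G) ≤ S.A := zpowers_le.mpr hb
    have hAθ := (isMember_theta ha ha1).le_normalizer
    have hcomm : Commute (π b) (π x) :=
      (mem_centralizer_singleton_iff.mp hxb).symm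
    have hfix : ∀ c ∈ zpowers (b : G), (x : G)⁻¹ * (c * x * c⁻¹) ∈ S.θ a ⊓ X := by
      rintro c hc
      refine ⟨(S.θ a).mul_mem ((S.θ a).inv_mem hxθ) (Coprime.conj_mem (hAθ (hzA hc)) hxθ), ?_⟩
      obtain ⟨k, rfl⟩ := mem_zpowers_iff.mp hc
      have hk := (hπ (x⁻¹ * (b ^ k * x * (b ^ k)⁻¹))).mp (by
        rw [map_mul, map_mul, map_mul, map_inv, map_inv, map_zpow, (hcomm.zpow_left k).eq]
        group)
      simpa using hk
    have hzn : zpowers (b : G) ≤ normalizer ((S.θ a ⊓ X : Subgroup G) : Set G) :=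
      hzA.trans (le_normalizer_inf hAθ hX.le_normalizer)
    obtain ⟨c, ⟨hcθ, hcb⟩, hcX⟩ := Coprime.exists_centralizer_mem_coset (hzA.trans hAθ)
      ((coprime_A (not_dvd_theta ha ha1)).coprime_dvd_left (card_dvd_of_le hzA))
      (Or.inr (solvable_theta ha ha1)) inf_le_left hzn hxθ hfix
    have hcN : c ∈ N := by
      have := mul_mem x.2 (hXN hcX.2)
      simpa using this
    refine ⟨⟨c, hcN⟩, balance ha ha1 hb hb1 ⟨hcθ, ?_⟩, ?_⟩
    · exact H40.mem_centralizer_singleton_of (mem_zpowers _) hcb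
    · have := (hπ (x⁻¹ * ⟨c, hcN⟩)).mpr hcX.2
      rw [map_mul, map_inv] at this
      exact (inv_mul_eq_one.mp this).symm
  have hfcard : ∀ a : N, (a : G) ∈ S.A → (a : G) ≠ 1 → Nat.card (f a) ∣ Nat.card (S.θ a) := by
    intro a ha h1
    rw [← Nat.card_congr (subgroupOfEquivOfLe (hn a ha h1)).toEquiv]
    exact card_map_dvd _ _
  let S' : Setup (N ⧸ X.subgroupOf N) r :=
    { A := A'
      θ := θ'
      elem := hA'el
      card_A := by rw [hcA', S.card_A]
      functor := by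
        refine ⟨⟨?_, ?_, ?_, ?_⟩, ?_⟩
        · intro ab hab h1
          obtain ⟨a, ha, ha1, rfl⟩ := hne hab h1
          rw [hθ' a ha ha1]
          rintro _ ⟨x, hx, rfl⟩
          rw [mem_centralizer_singleton_iff, ← map_mul, ← map_mul]
          exact congrArg π (Subtype.ext
            (mem_centralizer_singleton_iff.mp (theta_le_centralizer ha ha1 hx)))
        · intro ab hab h1 hd
          obtain ⟨a, ha, ha1, rfl⟩ := hne hab h1
          rw [hθ' a ha ha1] at hd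
          exact not_dvd_theta ha ha1 (hd.trans (hfcard a ha ha1))
        · intro ab hab h1 bb hb
          obtain ⟨a, ha, ha1, rfl⟩ := hne hab h1
          obtain ⟨b, hb, rfl⟩ := hb
          rw [hθ' a ha ha1]
          rintro _ ⟨x, hx, rfl⟩
          refine ⟨b * x * b⁻¹, ?_, by simp⟩
          exact S.functor.1.2.2.1 a ha ha1 b hb x hx
        · intro ab hab h1 bb hb hb1
          obtain ⟨a, ha, ha1, rfl⟩ := hne hab h1
          obtain ⟨b, hbA, hb1', rfl⟩ := hne hb hb1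
          rw [hθ' a ha ha1, hθ' b hbA hb1']
          exact hbal' a b ha ha1 hbA hb1'
        · intro ab hab h1
          obtain ⟨a, ha, ha1, rfl⟩ := hne hab h1
          rw [hθ' a ha ha1]
          refine Coprime.isSolvable_map _ ?_
          have := solvable_theta (S := S) ha ha1
          exact Group.isSolvable_of_isSolvable_injective
            (f := (subgroupOfEquivOfLe (hn a ha ha1)).toMonoidHom)
            (subgroupOfEquivOfLe (hn a ha ha1)).injective }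
  have hw : S'.weight < S.weight := by
    have := Fintype.ofFinite {a : G // a ∈ S.A ∧ a ≠ 1}
    let e : {a : G // a ∈ S.A ∧ a ≠ 1} → {x : N ⧸ X.subgroupOf N // x ∈ A' ∧ x ≠ 1} := fun a =>
      ⟨π ⟨a, hAN a.2.1⟩, mem_map_of_mem _ a.2.1,
        fun he => a.2.2 (hdisj a.2.1 ((hπ _).mp he))⟩
    have he : Function.Bijective e := by
      refine ⟨fun x y hxy => Subtype.ext ?_, fun x => ?_⟩
      · have hxy' : π ⟨x, hAN x.2.1⟩ = π ⟨y, hAN y.2.1⟩ := congrArg Subtype.val hxy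
        have := (hπ (⟨x, hAN x.2.1⟩ * ⟨y, hAN y.2.1⟩⁻¹)).mp
          (by rw [map_mul, map_inv, hxy', mul_inv_cancel])
        exact mul_inv_eq_one.mp (hdisj (mul_mem x.2.1 (inv_mem y.2.1)) (by simpa using this))
      · obtain ⟨a, ha, ha1, he⟩ := hne x.2.1 x.2.2
        exact ⟨⟨a, ha, ha1⟩, Subtype.ext he⟩
    rw [weight, weight, ← finsum_eq_of_bijective e he (fun a => rfl), finsum_eq_sum_of_fintype,
      finsum_eq_sum_of_fintype]
    have hval : ∀ a : {a : G // a ∈ S.A ∧ a ≠ 1},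
        S'.θ (e a) = f a := fun a => hθ' ⟨a, hAN a.2.1⟩ a.2.1 a.2.2
    refine Finset.sum_lt_sum (fun a _ => ?_) ?_
    · rw [hval]
      exact Nat.le_of_dvd Nat.card_pos (hfcard ⟨a, hAN a.2.1⟩ a.2.1 a.2.2)
    · obtain ⟨a, ha, h1, hne'⟩ := exists_theta_inf_ne_bot hX hX1
      refine ⟨⟨a, ha, h1⟩, Finset.mem_univ _, ?_⟩
      rw [hval]
      refine lt_of_le_of_ne (Nat.le_of_dvd Nat.card_pos (hfcard ⟨a, hAN ha⟩ ha h1)) fun he => ?_
      obtain ⟨⟨x, hxX, hxθ⟩, hx1⟩ := ne_bot_iff_exists_ne_one.mp hne'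
      rw [← Nat.card_congr (subgroupOfEquivOfLe (hn a ha h1)).toEquiv] at he
      let g : (S.θ a).subgroupOf N → f a := fun y => ⟨π y, mem_map_of_mem _ y.2⟩
      have hg : Function.Surjective g := by
        rintro ⟨_, ⟨y, hy, rfl⟩⟩
        exact ⟨⟨y, hy⟩, rfl⟩
      have hgb : Function.Bijective g := hg.bijective_of_nat_card_le he.ge
      have : (⟨⟨x, hXN hxX⟩, hxθ⟩ : (S.θ a).subgroupOf N) = 1 := hgb.1 (Subtype.ext (by
        show π _ = π _
        rw [(hπ ⟨x, hXN hxX⟩).mpr hxX, OneMemClass.coe_one, map_one]))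
      exact hx1 (Subtype.ext (congrArg (fun y : (S.θ a).subgroupOf N => ((y : N) : G)) this))
  obtain ⟨W', hW', hle⟩ := hS.2 _ S' hw
  set W := (W'.comap π).map N.subtype with hWdef
  have hker : π.ker = X.subgroupOf N := QuotientGroup.ker_mk' _
  have hkW : X.subgroupOf N ≤ W'.comap π := hker.symm.le.trans (ker_le_comap π W')
  refine hS.1 ⟨W, ⟨?_, ?_, ?_, ?_⟩, fun a ha h1 x hx => ?_⟩
  · refine Coprime.isSolvable_map _ ?_
    have hXs : Group.IsSolvable (X.subgroupOf N) :=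
      have := hX.solvable
      Group.isSolvable_of_isSolvable_injective (f := (subgroupOfEquivOfLe hXN).toMonoidHom)
        (subgroupOfEquivOfLe hXN).injective
    have := hW'.solvable
    let g : W'.comap π →* W' := (π.comp (W'.comap π).subtype).codRestrict W' fun x => x.2
    exact Group.isSolvable_of_ker_le_range (Subgroup.inclusion hkW) g fun x hx =>
      ⟨⟨x.1, (hπ x.1).mp (congrArg Subtype.val hx)⟩, rfl⟩
  · intro hd
    rw [hWdef, ← Nat.card_congr (equivMapOfInjective _ _ N.subtype_injective).toEquiv] at hd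
    have hm := relIndex_mul_relIndex (⊥ : Subgroup N) π.ker (W'.comap π) bot_le (ker_le_comap π W')
    rw [relIndex_bot_left, relIndex_bot_left, relIndex_ker, map_comap_eq_self_of_surjective
      (QuotientGroup.mk'_surjective _), hker, Nat.card_congr (subgroupOfEquivOfLe hXN).toEquiv] at hm
    rw [← hm] at hd
    rcases hr.out.dvd_mul.mp hd with h | h
    · exact hX.not_dvd h
    · exact hW'.not_dvd h
  · rintro b hb _ ⟨x, hx, rfl⟩
    refine ⟨⟨b, hAN hb⟩ * x * ⟨b, hAN hb⟩⁻¹, ?_, rfl⟩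
    rw [SetLike.mem_coe, mem_comap, map_mul, map_mul, map_inv]
    exact hW'.2.2.1 _ (mem_map_of_mem _ (show (⟨b, hAN hb⟩ : N) ∈ S.A.subgroupOf N from hb)) _ hx
  · rintro a ha h1 _ ⟨⟨x, hx, rfl⟩, hxa⟩
    have hc : π x ∈ centralizer ({π ⟨a, hAN ha⟩} : Set (N ⧸ X.subgroupOf N)) := by
      rw [mem_centralizer_singleton_iff, ← map_mul, ← map_mul]
      exact congrArg π (Subtype.ext (mem_centralizer_singleton_iff.mp hxa))
    have hne1 : π ⟨a, hAN ha⟩ ≠ 1 := fun he => h1 (hdisj ha ((hπ _).mp he))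
    have := hW'.inf_centralizer_le (mem_map_of_mem _
      (show (⟨a, hAN ha⟩ : N) ∈ S.A.subgroupOf N from ha)) hne1 ⟨hx, hc⟩
    change π x ∈ θ' (π ⟨a, hAN ha⟩) at this
    rw [hθ' ⟨a, hAN ha⟩ ha h1] at this
    obtain ⟨y, hy, hyx⟩ := this
    have hyθ : (y : G) ∈ S.θ a := hy
    have hz : ((y : G))⁻¹ * x ∈ X := by
      have := (hπ (y⁻¹ * x)).mp (by rw [map_mul, map_inv, hyx, inv_mul_cancel])
      simpa using this
    have hz' := hX.inf_centralizer_le ha h1
      ⟨hz, Subgroup.mul_mem _ (Subgroup.inv_mem _ (theta_le_centralizer ha h1 hyθ)) hxa⟩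
    have := mul_mem hyθ hz'
    rwa [mul_inv_cancel_left] at this
  · refine ⟨⟨x, hn a ha h1 hx⟩, ?_, rfl⟩
    have h := hle _ (mem_map_of_mem _ (show (⟨a, hAN ha⟩ : N) ∈ S.A.subgroupOf N from ha))
      (fun he => h1 (hdisj ha ((hπ _).mp he)))
    refine h ?_
    change π ⟨x, hn a ha h1 hx⟩ ∈ θ' (π ⟨a, hAN ha⟩)
    rw [hθ' ⟨a, hAN ha⟩ ha h1]
    exact mem_map_of_mem _ (show (⟨x, hn a ha h1 hx⟩ : N) ∈ (S.θ a).subgroupOf N from hx)

/-- `normBy X` is a member when `X` is a nontrivial member. -/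
theorem Minimal.isMember_normBy (hS : S.Minimal) {X : Subgroup G} (hX : S.IsMember X)
    (hX1 : X ≠ ⊥) : S.IsMember (S.normBy X) := by
  obtain ⟨a, ha, h1, hne⟩ : ∃ a ∈ S.A, a ≠ 1 ∧ ¬ S.θ a ≤ normalizer (X : Set G) := by
    by_contra hc
    push Not at hc
    exact hX1 (hS.eq_bot_of_normalized hX hc)
  exact (hS.isMember_iSup (fun a => S.θ a ⊓ normalizer (X : Set G)) (fun a _ _ => inf_le_left)
    (fun a ha h1 => le_normalizer_inf (isMember_theta ha h1).le_normalizer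
      (hX.le_normalizer.trans le_normalizer))
    (fun a ha h1 b hb hb1 x hx => ⟨balance ha h1 hb hb1 ⟨hx.1.1, hx.2⟩, hx.1.2⟩)
    ⟨a, ha, h1, fun he => hne (inf_eq_left.mp he)⟩).1

/-- A member normalizing `X` lies in `normBy X`. -/
theorem IsMember.le_normBy {U X : Subgroup G} (hU : S.IsMember U)
    (h : U ≤ normalizer (X : Set G)) : U ≤ S.normBy X := by
  refine le_of_points le_rfl ?_ hU.not_dvd hU.le_normalizer fun a ha h1 => ?_
  · rw [S.card_A]; exact Nat.pow_le_pow_right hr.out.pos (by norm_num)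
  · exact le_iSup_of_le ⟨a, ha, h1⟩
      (le_inf (hU.inf_centralizer_le ha h1) (inf_le_left.trans h))

theorem normBy_le_normalizer {X : Subgroup G} : S.normBy X ≤ normalizer (X : Set G) :=
  iSup_le fun _ => inf_le_right

theorem IsMember.exists_le_maximal {U : Subgroup G} (hU : S.IsMember U) :
    ∃ M, S.IsMember M ∧ U ≤ M ∧ ∀ H, S.IsMember H → M ≤ H → H = M := by
  obtain ⟨M, ⟨h1, h2⟩, hmax⟩ := Set.Finite.exists_maximalFor id
    {M : Subgroup G | S.IsMember M ∧ U ≤ M} (Set.toFinite _) ⟨U, hU, le_rfl⟩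
  exact ⟨M, h1, h2, fun H hH hMH => le_antisymm (hmax ⟨hH, h2.trans hMH⟩ hMH) hMH⟩

end Setup

end Cfsg.Agent.Signalizer
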