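import Cfsg.Agent.Signalizer.Chain
import Cfsg.Agent.Signalizer.Gen
import Cfsg.Agent.S1287
import Cfsg.Agent.Coprime.PQFitting

/-!
A minimal counterexample has no prime `q ≥ 5` with `Y {q} ≠ 1` when, for each prime `z`, a third prime
`s ∉ {q, z}` has `Y {s} ≠ 1`.
-/

set_option autoImplicit false
set_option linter.unusedSectionVars false

namespace Cfsg.Agent.Signalizer

open Subgroup
open scoped Pointwise commutatorElement

universe u

variable {G : Type u} [Group G] [Finite G] {r : ℕ} [hr : Fact r.Prime]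

theorem not_dvd_card_sup {p : ℕ} [hp : Fact p.Prime] {N H : Subgroup G}
    (h : H ≤ normalizer (N : Set G)) (hN : ¬ p ∣ Nat.card N) (hH : ¬ p ∣ Nat.card H) :
    ¬ p ∣ Nat.card ↥(N ⊔ H) := by
  intro hd
  let K := normalizer (N : Set G)
  haveI : (N.subgroupOf K).Normal := normal_subgroupOf_of_le_normalizer le_rfl
  have h2 := Cores.card_sup_dvd (H.subgroupOf K) (N.subgroupOf K)
  rw [← subgroupOf_sup h le_normalizer,
    Nat.card_congr (subgroupOfEquivOfLe (sup_le h le_normalizer)).toEquiv,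
    Nat.card_congr (subgroupOfEquivOfLe h).toEquiv,
    Nat.card_congr (subgroupOfEquivOfLe (le_normalizer : N ≤ K)).toEquiv, sup_comm] at h2
  exact (hp.out.dvd_mul.mp (hd.trans h2)).elim hH hN

namespace Setup

variable {S : Setup G r} {q : ℕ} [hq : Fact q.Prime]

theorem le_of_theta {M : Subgroup G} {K : Subgroup G} (hK : S.IsMember K)
    (h : ∀ a ∈ S.A, a ≠ 1 → K ⊓ centralizer ({a} : Set G) ≤ M) : K ≤ M :=
  le_of_points le_rfl (by rw [S.card_A]; exact Nat.pow_le_pow_right hr.out.pos (by norm_num))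
    hK.not_dvd hK.le_normalizer h

/-- The data of the case. -/
structure Case (S : Setup G r) (q : ℕ) where
  P : Subgroup G
  M : Subgroup G
  hP : S.IsMaxQ q P
  hYP : S.Y {q} ≤ P
  hM : S.IsMember M
  hMmax : ∀ H, S.IsMember H → M ≤ H → H = M
  hWM : S.normBy (Thompson.zjay 0 P) ≤ M

theorem dvd_of_Y_ne_bot {s : ℕ} (hs : s.Prime) (h : S.Y {s} ≠ ⊥) :
    ∃ a ∈ S.A, a ≠ 1 ∧ s ∣ Nat.card (S.θ a) := by
  by_contra hc
  push Not at hc
  refine h (le_bot_iff.mp (iSup_le fun a => le_bot_iff.mpr ?_))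
  refine Subgroup.eq_bot_of_card_eq _ ?_
  by_contra hne
  obtain ⟨p, hp, hpd⟩ := Nat.exists_prime_and_dvd hne
  have : p = s := isPiNumber_piPart a.2.1 a.2.2 p hp hpd
  subst this
  exact hc a a.2.1 a.2.2 (hpd.trans (card_dvd_of_le piPart_le))

theorem proper_compl {s : ℕ} (hs : s.Prime) (h : S.Y {s} ≠ ⊥) : S.Proper ({s}ᶜ) := by
  obtain ⟨a, ha, h1, hd⟩ := dvd_of_Y_ne_bot hs h
  exact ⟨a, ha, h1, fun hn => hn s hs hd rfl⟩

theorem isPGroup_of_isPiNumber_singleton {p : ℕ} [hp : Fact p.Prime] {U : Subgroup G}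
    (h : Hall.IsPiNumber ({p} : Set ℕ) (Nat.card U)) : IsPGroup p U :=
  IsPGroup.of_card (Nat.eq_prime_pow_of_unique_prime_dvd Nat.card_pos.ne'
    fun {d} hd hdU => h d hd hdU)

theorem isPiNumber_singleton {p : ℕ} [hp : Fact p.Prime] {U : Subgroup G} (h : IsPGroup p U) :
    Hall.IsPiNumber ({p} : Set ℕ) (Nat.card U) := by
  obtain ⟨n, hn⟩ := IsPGroup.iff_card.mp h
  rw [hn]
  exact (Hall.IsPiNumber.prime (π := ({p} : Set ℕ)) hp.out rfl).pow n

theorem isPiNumber_compl {p : ℕ} {n : ℕ} (h : ¬ p ∣ n) : Hall.IsPiNumber ({p}ᶜ : Set ℕ) n :=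
  fun _x _ hd he => h ((Set.mem_singleton_iff.mp he) ▸ hd)

namespace Case

variable (c : Case S q) (hS : S.Minimal) (h5 : 5 ≤ q) (hqr : q ≠ r) (hY : S.Y {q} ≠ ⊥)

include c hS h5 hqr hY

theorem P_ne_bot : c.P ≠ ⊥ := fun h => hY (le_bot_iff.mp (h ▸ c.hYP))

theorem P_le_M : c.P ≤ c.M :=
  (c.hP.1.le_normBy (Thompson.le_normalizer_zjay 0 c.P)).trans c.hWM

theorem theta_le {a : G} (ha : a ∈ S.A) (h1 : a ≠ 1) :
    S.θ a ≤ core q (S.θ a) ⊔ (S.θ a ⊓ c.M) :=
  hS.chain h5 hqr c.hP c.hWM ha h1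

theorem isMember_Yc : S.IsMember (S.Y {q}ᶜ) := hS.isMember_Y (proper_compl hq.out hY)

theorem not_dvd_Yc : ¬ q ∣ Nat.card (S.Y {q}ᶜ) := fun h =>
  hS.isPiNumber_Y (proper_compl hq.out hY) q hq.out h rfl

theorem core_le_Yc {a : G} (ha : a ∈ S.A) (h1 : a ≠ 1) : core q (S.θ a) ≤ S.Y {q}ᶜ :=
  (isMember_core (isMember_theta ha h1)).le_Y
    ((T_le ha h1).trans (le_normalizer_core _)) (isPiNumber_compl (not_dvd_card_core _))

theorem decompose {a : G} (ha : a ∈ S.A) (h1 : a ≠ 1) {x : G} (hx : x ∈ S.θ a) :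
    ∃ o ∈ core q (S.θ a), ∃ m ∈ S.θ a ⊓ c.M, o * m = x :=
  (Coprime.mem_sup_iff (inf_le_left.trans (le_normalizer_core _))).mp
    (c.theta_le hS h5 hqr hY ha h1 hx)

/-- `Y = ⟨O_d : d ∈ D⟩ (Y ∩ M)`. -/
theorem Yc_eq_prod {D : Subgroup G} (hD : S.IsLine D) {y : G} (hy : y ∈ S.Y {q}ᶜ) :
    ∃ u ∈ (⨆ d : {d : G // d ∈ D ∧ d ≠ 1}, core q (S.θ d)), ∃ s ∈ S.Y {q}ᶜ ⊓ c.M, u * s = y := by
  have hYm := c.isMember_Yc hS h5 hqr hY
  set YD := ⨆ d : {d : G // d ∈ D ∧ d ≠ 1}, core q (S.θ d) with hYD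
  have hYDY : YD ≤ S.Y {q}ᶜ := iSup_le fun d => c.core_le_Yc hS h5 hqr hY (hD.1 d.2.1) d.2.2
  have hDA : D ≤ normalizer (YD : Set G) := by
    intro x hx
    refine Coprime.mem_normalizer_of_map_conj ?_
    rw [hYD, Subgroup.map_iSup]
    exact iSup_congr fun d => Coprime.map_conj_eq
      (normalizer_le_normalizer_core _ ((isMember_theta (hD.1 d.2.1) d.2.2).le_normalizer (hD.1 hx)))
  have hprod := S1287.result r D (S.Y {q}ᶜ) YD (S.Y {q}ᶜ ⊓ c.M) (H40.elemAb_mono S.elem hD.1)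
    hD.2.ge hYm.not_dvd (hD.1.trans hYm.le_normalizer) hYDY inf_le_left hDA
    (hD.1.trans (le_normalizer_inf hYm.le_normalizer c.hM.le_normalizer)) ?_ ?_
  · have hy' : y ∈ ((S.Y {q}ᶜ : Subgroup G) : Set G) := hy
    rw [hprod] at hy'
    obtain ⟨u, hu, s, hs, he⟩ := Set.mem_mul.mp hy'
    exact ⟨u, hu, s, hs, he⟩
  · intro x hx
    refine Coprime.mem_normalizer_of_map_conj ?_
    rw [hYD, Subgroup.map_iSup]
    exact iSup_congr fun d => Coprime.map_conj_eq
      (le_normalizer_core _ (C_le d.2.1 d.2.2 (hYm.inf_centralizer_le_C hD.1 hx)))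
  · intro a ha h1
    refine Set.Subset.antisymm (fun x hx => ?_) ?_
    · have hxθ := hYm.inf_centralizer_le (hD.1 ha) h1 hx
      obtain ⟨o, ho, m, hm, he⟩ := c.decompose hS h5 hqr hY (hD.1 ha) h1 hxθ
      have hoC := theta_le_centralizer (hD.1 ha) h1 (core_le _ ho)
      have hoY := c.core_le_Yc hS h5 hqr hY (hD.1 ha) h1 ho
      refine Set.mem_mul.mpr ⟨o, ⟨mem_iSup_of_mem (S := fun d : {d : G // d ∈ D ∧ d ≠ 1} =>
        core q (S.θ d)) ⟨a, ha, h1⟩ ho, hoC⟩, m,
        ⟨⟨?_, hm.2⟩, theta_le_centralizer (hD.1 ha) h1 hm.1⟩, he⟩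
      rw [eq_inv_mul_of_mul_eq he]
      exact (S.Y {q}ᶜ).mul_mem ((S.Y {q}ᶜ).inv_mem hoY) hx.1
    · intro x hx
      obtain ⟨u, hu, s, hs, rfl⟩ := Set.mem_mul.mp hx
      exact ⟨(S.Y {q}ᶜ).mul_mem (hYDY hu.1) hs.1.1,
        (centralizer ({a} : Set G)).mul_mem hu.2 hs.2⟩

/-- No member contains `Y` and a nontrivial invariant normal subgroup of `M`. -/
theorem eq_bot_of_member {R L : Subgroup G} (hR : S.A ≤ normalizer (R : Set G))
    (hMR : c.M ≤ normalizer (R : Set G)) (hL : S.IsMember L) (hYL : S.Y {q}ᶜ ≤ L) (hRL : R ≤ L) :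
    R = ⊥ := by
  have hYm := c.isMember_Yc hS h5 hqr hY
  set Y := S.Y {q}ᶜ
  set W := ⨆ y : Y, R.map (MulAut.conj (y : G)).toMonoidHom with hW
  have hRW : R ≤ W := by
    refine le_trans ?_ (le_iSup (fun y : Y => R.map (MulAut.conj (y : G)).toMonoidHom) 1)
    simp only [OneMemClass.coe_one, Coprime.map_conj_one, le_refl]
  have hWL : W ≤ L := iSup_le fun y => (map_mono hRL).trans
    (Coprime.map_conj_eq (Subgroup.le_normalizer (hYL y.2))).le
  have hstep : ∀ g : G, (∀ y : Y, ∃ y' : Y, R.map (MulAut.conj (g * y)).toMonoidHom =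
      R.map (MulAut.conj (y' : G)).toMonoidHom) → g ∈ normalizer (W : Set G) := by
    intro g hg
    refine Coprime.mem_normalizer_of_map_conj (eq_of_le_of_card_ge ?_ (Coprime.card_map_conj g W).ge)
    rw [hW, Subgroup.map_iSup]
    refine iSup_le fun y => ?_
    obtain ⟨y', hy'⟩ := hg y
    rw [Coprime.map_conj_map_conj, hy']
    exact le_iSup (fun y : Y => R.map (MulAut.conj (y : G)).toMonoidHom) y'
  have hAW : S.A ≤ normalizer (W : Set G) := fun g hg => hstep g fun y =>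
    ⟨⟨g * y * g⁻¹, Coprime.conj_mem (hYm.le_normalizer hg) y.2⟩, by
      show R.map (MulAut.conj (g * (y : G))).toMonoidHom =
        R.map (MulAut.conj (g * y * g⁻¹)).toMonoidHom
      conv_rhs => rw [← Coprime.map_conj_eq (hR hg)]
      rw [Coprime.map_conj_map_conj, inv_mul_cancel_right]⟩
  have hYW : Y ≤ normalizer (W : Set G) := fun g hg => hstep g fun y => ⟨⟨g, hg⟩ * y, rfl⟩
  have hMW : c.M ≤ normalizer (W : Set G) := by
    refine c.hM.le_of_C fun D hD m hm => hstep m fun y => ?_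
    obtain ⟨u, hu, s, hs, he⟩ := c.Yc_eq_prod hS h5 hqr hY hD y.2
    have hmn : m ∈ normalizer
        ((⨆ d : {d : G // d ∈ D ∧ d ≠ 1}, core q (S.θ d) : Subgroup G) : Set G) := by
      refine Coprime.mem_normalizer_of_map_conj ?_
      rw [Subgroup.map_iSup]
      exact iSup_congr fun d =>
        Coprime.map_conj_eq (le_normalizer_core _ (C_le d.2.1 d.2.2 hm.2))
    have hu' : m * u * m⁻¹ ∈ Y :=
      (iSup_le fun d : {d : G // d ∈ D ∧ d ≠ 1} => c.core_le_Yc hS h5 hqr hY (hD.1 d.2.1) d.2.2)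
        (Coprime.conj_mem hmn hu)
    refine ⟨⟨_, hu'⟩, ?_⟩
    rw [show m * (y : G) = (m * u * m⁻¹) * (m * s) by rw [← he]; group,
      ← Coprime.map_conj_map_conj, Coprime.map_conj_eq (hMR (mul_mem hm.1 hs.2))]
  have hW0 := hS.eq_bot_of_normalized (hL.of_le hWL hAW) fun a ha h1 =>
    (c.theta_le hS h5 hqr hY ha h1).trans
      (sup_le ((c.core_le_Yc hS h5 hqr hY ha h1).trans hYW) (inf_le_right.trans hMW))
  exact le_bot_iff.mp (hRW.trans hW0.le)

/-- A proper invariant subgroup of `M` over `Y ∩ M` lies in a member with `Y`. -/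
theorem exists_member {M1 : Subgroup G} (hA1 : S.A ≤ normalizer (M1 : Set G)) (hle : M1 ≤ c.M)
    (hYM : S.Y {q}ᶜ ⊓ c.M ≤ M1) (hne : M1 ≠ c.M) :
    ∃ L, S.IsMember L ∧ S.Y {q}ᶜ ≤ L ∧ M1 ≤ L := by
  have hYm := c.isMember_Yc hS h5 hqr hY
  have hM1 : S.IsMember M1 := c.hM.of_le hle hA1
  let φ : G → Subgroup G := fun a => core q (S.θ a) ⊔ (M1 ⊓ centralizer ({a} : Set G))
  have hφle : ∀ a ∈ S.A, a ≠ 1 → φ a ≤ S.θ a := fun a ha h1 =>
    sup_le (core_le _) (hM1.inf_centralizer_le ha h1)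
  have hnO : ∀ a ∈ S.A, a ≠ 1 →
      M1 ⊓ centralizer ({a} : Set G) ≤ normalizer (core q (S.θ a) : Set G) := fun a ha h1 =>
    (hM1.inf_centralizer_le ha h1).trans (le_normalizer_core _)
  have hφA : ∀ a ∈ S.A, a ≠ 1 → S.A ≤ normalizer (φ a : Set G) := fun a ha h1 =>
    (le_inf (isMember_core (q := q) (isMember_theta ha h1)).le_normalizer
      (le_normalizer_inf hA1 (le_normalizer_centralizer_singleton ha))).trans
      inf_normalizer_le_normalizer_join
  have hbal : ∀ a ∈ S.A, a ≠ 1 → ∀ b ∈ S.A, b ≠ 1 →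
      φ a ⊓ centralizer ({b} : Set G) ≤ φ b := by
    intro a ha h1 b hb hb1 x hx
    obtain ⟨o, ho, m, hm, he⟩ := (Coprime.mem_sup_iff (hnO a ha h1)).mp hx.1
    have hzA := zpowers_le_A (S := S) hb
    have hxc : o * m ∈ centralizer (zpowers b : Set G) := by
      rw [he, H42.centralizer_zpowers']; exact hx.2
    obtain ⟨o', ho', m', hm', he'⟩ := Coprime.centralizer_mul
      (hzA.trans (isMember_theta ha h1).le_normalizer)
      ((coprime_A (S := S) (not_dvd_theta ha h1)).coprime_dvd_left (card_dvd_of_le hzA))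
      (Or.inr (solvable_theta ha h1)) (core_le _) (hM1.inf_centralizer_le ha h1)
      (hzA.trans (isMember_core (isMember_theta ha h1)).le_normalizer)
      (hzA.trans (le_normalizer_inf hA1 (le_normalizer_centralizer_singleton ha)))
      ho hm hxc
    rw [H42.centralizer_zpowers'] at ho' hm'
    rw [← he, he']
    refine mul_mem ?_ (mem_sup_right ⟨hm'.1.1, hm'.2⟩)
    have hoθ := balance ha h1 hb hb1 ⟨core_le _ ho'.1, ho'.2⟩
    obtain ⟨o₂, ho₂, m₂, hm₂, he₂⟩ := c.decompose hS h5 hqr hY hb hb1 hoθ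
    rw [← he₂]
    refine mul_mem (mem_sup_left ho₂) (mem_sup_right ⟨hYM ⟨?_, hm₂.2⟩,
      theta_le_centralizer hb hb1 hm₂.1⟩)
    rw [eq_inv_mul_of_mul_eq he₂]
    exact (S.Y {q}ᶜ).mul_mem ((S.Y {q}ᶜ).inv_mem (c.core_le_Yc hS h5 hqr hY hb hb1 ho₂))
      (c.core_le_Yc hS h5 hqr hY ha h1 ho'.1)
  have hlt : ∃ a ∈ S.A, a ≠ 1 ∧ φ a ≠ S.θ a := by
    by_contra hall
    push Not at hall
    refine hne (le_antisymm hle (le_of_theta c.hM fun a ha h1 x hx => ?_))
    have hxφ : x ∈ φ a := by rw [hall a ha h1]; exact c.hM.inf_centralizer_le ha h1 hx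
    obtain ⟨o, ho, m, hm, he⟩ := (Coprime.mem_sup_iff (hnO a ha h1)).mp hxφ
    rw [← he]
    refine mul_mem (hYM ⟨c.core_le_Yc hS h5 hqr hY ha h1 ho, ?_⟩) hm.1
    rw [eq_mul_inv_of_mul_eq he]
    exact c.M.mul_mem hx.1 (c.M.inv_mem (hle hm.1))
  obtain ⟨L, hL, hφL, -⟩ := hS.subfunctor φ hφle hφA hbal hlt
  have hM1L : M1 ≤ L := le_of_theta hM1 fun a ha h1 => le_sup_right.trans (hφL a ha h1)
  refine ⟨L, hL, le_of_theta hYm fun a ha h1 x hx => ?_, hM1L⟩
  obtain ⟨o, ho, m, hm, he⟩ := c.decompose hS h5 hqr hY ha h1 (hYm.inf_centralizer_le ha h1 hx)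
  rw [← he]
  refine mul_mem (hφL a ha h1 (mem_sup_left ho)) (hM1L (hYM ⟨?_, hm.2⟩))
  rw [eq_inv_mul_of_mul_eq he]
  exact (S.Y {q}ᶜ).mul_mem ((S.Y {q}ᶜ).inv_mem (c.core_le_Yc hS h5 hqr hY ha h1 ho)) hx.1

theorem eq_sup {R : Subgroup G} (hR : S.A ≤ normalizer (R : Set G)) (hRM : R ≤ c.M)
    (hMR : c.M ≤ normalizer (R : Set G)) (hR1 : R ≠ ⊥) : R ⊔ (S.Y {q}ᶜ ⊓ c.M) = c.M := by
  by_contra hne
  obtain ⟨L, hL, hYL, hle⟩ := c.exists_member hS h5 hqr hY
    ((le_inf hR (le_normalizer_inf (c.isMember_Yc hS h5 hqr hY).le_normalizer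
      c.hM.le_normalizer)).trans inf_normalizer_le_normalizer_join)
    (sup_le hRM inf_le_right) le_sup_right hne
  exact hR1 (c.eq_bot_of_member hS h5 hqr hY hR hMR hL hYL (le_sup_left.trans hle))

theorem q_dvd_P : q ∣ Nat.card c.P := by
  obtain ⟨n, hn⟩ := IsPGroup.iff_card.mp c.hP.2.1
  rcases n with _ | n
  · exact absurd (Subgroup.eq_bot_of_card_eq _ (by simpa using hn)) (c.P_ne_bot hS h5 hqr hY)
  · exact hn ▸ dvd_pow_self q n.succ_ne_zero

theorem core_M : core q c.M = ⊥ := by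
  by_contra hne
  have h := c.eq_sup hS h5 hqr hY (isMember_core c.hM).le_normalizer (core_le _)
    (le_normalizer_core _) hne
  refine not_dvd_card_sup (p := q) (N := core q c.M) (H := S.Y {q}ᶜ ⊓ c.M)
    (inf_le_right.trans (le_normalizer_core _)) (not_dvd_card_core _)
    (fun hd => c.not_dvd_Yc hS h5 hqr hY (hd.trans (card_dvd_of_le inf_le_left))) ?_
  rw [h]
  exact (c.q_dvd_P hS h5 hqr hY).trans (card_dvd_of_le (c.P_le_M hS h5 hqr hY))

theorem isSylowOf_of_le {L : Subgroup G} (hL : S.IsMember L) (hPL : c.P ≤ L) :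
    H40.IsSylowOf q c.P L := by
  obtain ⟨Q, hPQ, hAQ⟩ := Coprime.exists_invariant_sylow_ge hL.le_normalizer
    (coprime_A hL.not_dvd) (Or.inr hL.solvable) q hPL c.hP.2.1 c.hP.1.le_normalizer
  rw [← c.hP.2.2 _ (hL.of_le (map_subtype_le _) hAQ) (Q.isPGroup'.map _) hPQ]
  exact H40.isSylowOf_map Q

/-- `P` is abelian and normal in `M`. -/
theorem P_normal : c.M ≤ normalizer (c.P : Set G) ∧ IsMulCommutative c.P := by
  have hPM := c.P_le_M hS h5 hqr hY
  haveI : Nontrivial c.M := (Subgroup.nontrivial_iff_ne_bot c.M).mpr fun h =>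
    c.P_ne_bot hS h5 hqr hY (le_bot_iff.mp (h ▸ hPM))
  have hbot : Cfsg.pPrimeCore q ↥c.M = ⊥ :=
    (map_eq_bot_iff_of_injective _ c.M.subtype_injective).mp (c.core_M hS h5 hqr hY)
  have hne : Cfsg.pCore q ↥c.M ≠ ⊥ :=
    Cores.pCore_ne_bot_of_pPrimeCore_eq_bot (isPSolvable_of_solvable c.hM.solvable) hbot
  set F := (Cfsg.pCore q ↥c.M).map c.M.subtype with hF
  have hFq : IsPGroup q F := Cores.pCore_isPGroup.map _
  haveI : Nontrivial F := (Subgroup.nontrivial_iff_ne_bot F).mpr fun h =>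
    hne ((map_eq_bot_iff_of_injective _ c.M.subtype_injective).mp h)
  have hFn : normalizer (c.M : Set G) ≤ normalizer (F : Set G) :=
    Components.le_normalizer_map_characteristic _ le_rfl
  set R := (center F).map F.subtype with hR
  haveI := hFq.center_nontrivial
  have hR1 : R ≠ ⊥ := fun h => (Subgroup.nontrivial_iff_ne_bot _).mp inferInstance
    ((map_eq_bot_iff_of_injective _ F.subtype_injective).mp h)
  have hRn : normalizer (c.M : Set G) ≤ normalizer (R : Set G) :=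
    hFn.trans (Components.le_normalizer_map_characteristic _ le_rfl)
  have hFP : F ≤ c.P := by
    have hs := c.isSylowOf_of_le hS h5 hqr hY c.hM hPM
    have hPn : c.P ≤ normalizer (F : Set G) := hPM.trans (Subgroup.le_normalizer.trans hFn)
    exact le_sup_left.trans (hs.eq_of_le (hFq.to_sup_of_normal_left' c.hP.2.1 hPn) le_sup_right
      (sup_le (map_subtype_le _) hPM)).ge
  have hRP : R ≤ c.P := (map_subtype_le _).trans hFP
  have heq := c.eq_sup hS h5 hqr hY (c.hM.le_normalizer.trans hRn) (hRP.trans hPM)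
    (Subgroup.le_normalizer.trans hRn) hR1
  have hPR : c.P = R := by
    refine le_antisymm (fun x hx => ?_) hRP
    obtain ⟨u, hu, s, hs, he⟩ := (Coprime.mem_sup_iff
      (inf_le_right.trans (Subgroup.le_normalizer.trans hRn))).mp (heq.ge (hPM hx))
    have hsP : s ∈ c.P := by
      rw [eq_inv_mul_of_mul_eq he]; exact mul_mem (inv_mem (hRP hu)) hx
    have hdisj : c.P ⊓ S.Y {q}ᶜ = ⊥ := by
      refine Coprime.inf_eq_bot ?_
      obtain ⟨n, hn⟩ := IsPGroup.iff_card.mp c.hP.2.1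
      rw [hn]
      exact Nat.Coprime.pow_left _ (hq.out.coprime_iff_not_dvd.mpr (c.not_dvd_Yc hS h5 hqr hY))
    have hs1 : s = 1 := mem_bot.mp (hdisj.le ⟨hsP, hs.1⟩)
    rw [← he, hs1, mul_one]
    exact hu
  rw [hPR]
  exact ⟨Subgroup.le_normalizer.trans hRn, Subgroup.map_isMulCommutative _ _⟩

theorem eq_M_of_normBy {X : Subgroup G} (hX : S.IsMember X) (hX1 : X ≠ ⊥)
    (hn : c.M ≤ normalizer (X : Set G)) : X ≤ c.M := by
  have h := c.hMmax _ (hS.isMember_normBy hX hX1) (c.hM.le_normBy hn)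
  exact (hX.le_normBy Subgroup.le_normalizer).trans h.le

/-- Every member containing `P` lies in `M`. -/
theorem le_M_of_P_le {L : Subgroup G} (hL : S.IsMember L) (hPL : c.P ≤ L) : L ≤ c.M := by
  have hYm := c.isMember_Yc hS h5 hqr hY
  obtain ⟨hMP, -⟩ := c.P_normal hS h5 hqr hY
  set O := core q L with hO
  have hOY : O ≤ S.Y {q}ᶜ := by
    refine le_of_theta (isMember_core hL) fun a ha h1 => ?_
    refine le_trans (c.hP.le_core hqr ha h1 ?_ ?_ ?_) (c.core_le_Yc hS h5 hqr hY ha h1)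
    · exact (inf_le_inf_right _ (core_le L)).trans (hL.inf_centralizer_le ha h1)
    · exact fun hd => not_dvd_card_core L (hd.trans (card_dvd_of_le inf_le_left))
    · exact (le_inf (inf_le_left.trans (hPL.trans (le_normalizer_core L)))
        ((inf_le_right.trans (theta_le_centralizer ha h1)).trans Subgroup.le_normalizer)).trans
        inf_normalizer_le_normalizer_inf
  set S₀ := S.Y {q}ᶜ ⊓ c.M with hS₀
  set U := ⨆ s : S₀, O.map (MulAut.conj (s : G)).toMonoidHom with hU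
  have hUY : U ≤ S.Y {q}ᶜ := iSup_le fun s =>
    (map_mono hOY).trans (Coprime.map_conj_eq (Subgroup.le_normalizer s.2.1)).le
  have hstep : ∀ g : G, (∀ s : S₀, ∃ s' : S₀, O.map (MulAut.conj (g * s)).toMonoidHom =
      O.map (MulAut.conj (s' : G)).toMonoidHom) → g ∈ normalizer (U : Set G) := by
    intro g hg
    refine Coprime.mem_normalizer_of_map_conj (eq_of_le_of_card_ge ?_ (Coprime.card_map_conj g U).ge)
    rw [hU, Subgroup.map_iSup]
    refine iSup_le fun s => ?_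
    obtain ⟨s', hs'⟩ := hg s
    rw [Coprime.map_conj_map_conj, hs']
    exact le_iSup (fun s : S₀ => O.map (MulAut.conj (s : G)).toMonoidHom) s'
  have hAU : S.A ≤ normalizer (U : Set G) := fun g hg => hstep g fun s =>
    ⟨⟨g * s * g⁻¹, Coprime.conj_mem
      (le_normalizer_inf hYm.le_normalizer c.hM.le_normalizer hg) s.2⟩, by
      show O.map (MulAut.conj (g * (s : G))).toMonoidHom =
        O.map (MulAut.conj (g * s * g⁻¹)).toMonoidHom
      have hOg : O.map (MulAut.conj g).toMonoidHom = O :=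
        Coprime.map_conj_eq ((isMember_core hL).le_normalizer hg)
      conv_rhs => rw [← hOg]
      rw [Coprime.map_conj_map_conj, inv_mul_cancel_right]⟩
  have hSU : S₀ ≤ normalizer (U : Set G) := fun g hg => hstep g fun s => ⟨⟨g, hg⟩ * s, rfl⟩
  have hPU : c.P ≤ normalizer (U : Set G) := fun g hg => hstep g fun s => ⟨s, by
    have : (s : G)⁻¹ * g * s ∈ c.P := Coprime.conj_mem' (hMP s.2.2) hg
    rw [show g * (s : G) = (s : G) * ((s : G)⁻¹ * g * s) by group, ← Coprime.map_conj_map_conj,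
      Coprime.map_conj_eq (le_normalizer_core L (hPL this))]⟩
  have hMU : c.M ≤ normalizer (U : Set G) :=
    (c.eq_sup hS h5 hqr hY c.hP.1.le_normalizer (c.P_le_M hS h5 hqr hY) hMP
      (c.P_ne_bot hS h5 hqr hY)).ge.trans (sup_le hPU hSU)
  have hUm : S.IsMember U := hYm.of_le hUY hAU
  have hO1 : O = ⊥ := by
    by_contra hne
    have hOU : O ≤ U := by
      refine le_trans ?_ (le_iSup (fun s : S₀ => O.map (MulAut.conj (s : G)).toMonoidHom) 1)
      simp only [OneMemClass.coe_one, Coprime.map_conj_one, le_refl]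
    have hU1 : U ≠ ⊥ := fun h => hne (le_bot_iff.mp (h ▸ hOU))
    have hUM := c.eq_M_of_normBy hS h5 hqr hY hUm hU1 hMU
    have := Signalizer.le_core (q := q) hUM hMU
      (fun hd => c.not_dvd_Yc hS h5 hqr hY (hd.trans (card_dvd_of_le hUY)))
    rw [c.core_M hS h5 hqr hY] at this
    exact hU1 (le_bot_iff.mp this)
  refine (hL.le_normBy ?_).trans c.hWM
  have h := le_core_sup_normalizer h5 hL.solvable (c.isSylowOf_of_le hS h5 hqr hY hL hPL)
  rw [← hO, hO1, bot_sup_eq] at h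
  exact h.trans inf_le_right

theorem T_le_M : S.T ≤ c.M := by
  have hm : S.IsMember (S.Y {q}) := hS.isMember_Y (by
    by_contra hn
    unfold Proper at hn
    push Not at hn
    have : S.Y {q}ᶜ = ⊥ := by
      refine Subgroup.eq_bot_of_card_eq _ ?_
      refine Hall.IsPiNumber.eq_one (π := {q}) ?_ (hS.isPiNumber_Y (proper_compl hq.out hY))
      exact (c.isMember_Yc hS h5 hqr hY).isPiNumber fun a ha h1 =>
        Hall.isPiNumber_card_mono ((c.isMember_Yc hS h5 hqr hY).inf_centralizer_le ha h1)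
          (hn a ha h1)
    refine hS.1 ⟨c.M, c.hM, fun a ha h1 => (c.theta_le hS h5 hqr hY ha h1).trans
      (sup_le ?_ inf_le_right)⟩
    exact (c.core_le_Yc hS h5 hqr hY ha h1).trans (this.le.trans bot_le))
  have hL := hS.isMember_normBy hm hY
  refine le_trans (isMember_T.le_normBy T_le_normalizer_Y) (c.le_M_of_P_le hS h5 hqr hY hL ?_)
  refine c.hP.1.le_normBy fun x hx => ?_
  have hab := (c.P_normal hS h5 hqr hY).2
  exact centralizer_le_normalizer _ (mem_centralizer_iff.mpr fun y hy =>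
    congrArg Subtype.val (hab.is_comm.comm ⟨y, c.hYP hy⟩ ⟨x, hx⟩))

theorem T_le_normalizer_P : S.T ≤ normalizer (c.P : Set G) :=
  (c.T_le_M hS h5 hqr hY).trans (c.P_normal hS h5 hqr hY).1

/-- Every `q`-member lies in `P`. -/
theorem le_P {U : Subgroup G} (hU : S.IsMember U) (hUq : IsPGroup q U) : U ≤ c.P := by
  obtain ⟨P', hP', hP'q, hUP', hmax'⟩ := H46.SignalizerTrans.exists_max hU hUq
  obtain ⟨t, ht, he⟩ := H46.SignalizerTrans.transitive S.elem card_le_A S.functor hqr c.P P' c.hP.1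
    c.hP.2.1 c.hP.2.2 hP' hP'q hmax'
  rw [Coprime.map_conj_eq (c.T_le_normalizer_P hS h5 hqr hY ht)] at he
  exact hUP'.trans he.ge

set_option maxHeartbeats 1000000 in
theorem false (h3 : ∀ z : ℕ, z.Prime → ∃ s, s.Prime ∧ s ≠ q ∧ s ≠ z ∧ S.Y {s} ≠ ⊥) : False := by
  have hTN := c.T_le_normalizer_P hS h5 hqr hY
  obtain ⟨hMP, -⟩ := c.P_normal hS h5 hqr hY
  -- a member over `T` meeting `P` lies in `M`
  have key : ∀ H, S.IsMember H → S.T ≤ H → c.P ⊓ H ≠ ⊥ → H ≤ c.M := by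
    intro H₀ hH₀ hT₀ hPH₀
    obtain ⟨H, hH, hHle, hHmax⟩ := hH₀.exists_le_maximal
    refine hHle.trans ?_
    by_contra hnot
    haveI := hH.solvable
    set Fz : ℕ → Subgroup G := fun z => (Cfsg.pCore z ↥H).map H.subtype with hFz
    have hFn : ∀ z, normalizer (H : Set G) ≤ normalizer (Fz z : Set G) := fun z =>
      Components.le_normalizer_map_characteristic _ le_rfl
    have hFm : ∀ z, S.IsMember (Fz z) := fun z =>
      hH.of_le (map_subtype_le _) (hH.le_normalizer.trans (hFn z))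
    have hFT : ∀ z, S.T ≤ normalizer (Fz z : Set G) := fun z =>
      (hT₀.trans hHle).trans (Subgroup.le_normalizer.trans (hFn z))
    have hq0 : Fz q = ⊥ := by
      by_contra hne
      have hab := (c.P_normal hS h5 hqr hY).2
      have hle := c.le_P hS h5 hqr hY (hFm q) (Cores.pCore_isPGroup.map _)
      have hPn : c.P ≤ normalizer (Fz q : Set G) := fun x hx =>
        centralizer_le_normalizer _ (mem_centralizer_iff.mpr fun y hy =>
          congrArg Subtype.val (hab.is_comm.comm ⟨y, hle hy⟩ ⟨x, hx⟩))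
      have hN := hS.isMember_normBy (hFm q) hne
      exact hnot ((hH.le_normBy (Subgroup.le_normalizer.trans (hFn q))).trans
        (c.le_M_of_P_le hS h5 hqr hY hN (c.hP.1.le_normBy hPn)))
    have hzM : ∀ z, z.Prime → z ≠ q → Fz z ≤ c.M := by
      intro z hz hzq
      haveI := Fact.mk hz
      obtain ⟨s, hs, hsq, hsz, hsY⟩ := h3 z hz
      have hL := hS.isMember_Y (proper_compl hs hsY)
      have hnd : ∀ {p : ℕ} {U : Subgroup G}, p.Prime → p ≠ s → IsPGroup p U →
          Hall.IsPiNumber ({s}ᶜ : Set ℕ) (Nat.card U) := by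
        intro p U hp hps hU
        haveI := Fact.mk hp
        exact (isPiNumber_singleton hU).mono fun x hx =>
          (Set.mem_singleton_iff.mp hx).symm ▸ hps
      exact ((hFm z).le_Y (hFT z) (hnd hz hsz.symm (Cores.pCore_isPGroup.map _))).trans
        (c.le_M_of_P_le hS h5 hqr hY hL
          (c.hP.1.le_Y hTN (hnd hq.out hsq.symm c.hP.2.1)))
    apply hPH₀
    rw [eq_bot_iff]
    intro x hx
    have hxH : x ∈ H := hHle hx.2
    set x' : ↥H := ⟨x, hxH⟩
    have hxc : x' ∈ centralizer (Cfsg.fittingSubgroup ↥H : Set ↥H) := by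
      have hle : Cfsg.fittingSubgroup ↥H ≤ centralizer ({x'} : Set ↥H) := by
        rw [Components.fitting_eq_iSup_pCore]
        refine iSup_le fun zi => ?_
        obtain ⟨z, hz'⟩ := zi
        have hz : z.Prime := Nat.prime_of_mem_primeFactors hz'
        haveI := Fact.mk hz
        intro y hy
        rw [mem_centralizer_singleton_iff]
        rcases eq_or_ne z q with rfl | hzq
        · have : y = 1 := by
            have hy' : (y : G) ∈ Fz z := mem_map_of_mem _ hy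
            rw [hq0, mem_bot] at hy'
            exact Subtype.ext hy'
          simp [this]
        · have hyF : (y : G) ∈ Fz z := mem_map_of_mem _ hy
          have hdisj : c.P ⊓ Fz z = ⊥ := by
            refine Coprime.inf_eq_bot ?_
            obtain ⟨n, hn⟩ := IsPGroup.iff_card.mp c.hP.2.1
            obtain ⟨m, hm⟩ := IsPGroup.iff_card.mp
              ((Cores.pCore_isPGroup (p := z) (G := ↥H)).map H.subtype)
            rw [hn, hm]
            exact Nat.Coprime.pow _ _ ((Nat.coprime_primes hq.out hz).mpr hzq.symm)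
          have h1 : ⁅(y : G), x⁆ ∈ c.P ⊓ Fz z := by
            refine ⟨c.P.mul_mem (Coprime.conj_mem (hMP (hzM z hz hzq hyF)) hx.1)
              (c.P.inv_mem hx.1), ?_⟩
            show ⁅(y : G), x⁆ ∈ Fz z
            rw [show ⁅(y : G), x⁆ = (y : G) * (x * (y : G)⁻¹ * x⁻¹) by
              simp only [commutatorElement_def]; group]
            exact mul_mem hyF (Coprime.conj_mem
              ((Subgroup.le_normalizer.trans (hFn z)) hxH) (inv_mem hyF))
          rw [hdisj, mem_bot, commutatorElement_eq_one_iff_mul_comm] at h1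
          exact Subtype.ext h1
      exact mem_centralizer_iff.mpr fun y hy => mem_centralizer_singleton_iff.mp (hle hy)
    have hxF : x' ∈ Cfsg.fittingSubgroup ↥H :=
      Cores.centralizer_fittingSubgroup_le (G := ↥H) hxc
    have hxP : x' ∈ c.P.subgroupOf H := mem_subgroupOf.mpr hx.1
    have hxq : x' ∈ Cfsg.pCore q ↥H := Coprime.PQFitting.mem_pCore_of_mem_fitting (G := ↥H) (t := q)
      (P := zpowers x') (c.hP.2.1.comap_subtype.to_le (zpowers_le.mpr hxP))
      (zpowers_le.mpr hxF) (mem_zpowers x')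
    have := mem_map_of_mem H.subtype hxq
    change x ∈ Fz q at this
    rw [hq0] at this
    exact this
  -- a line `B` with a nontrivial fixed point in `P`
  obtain ⟨B, hB, hBne⟩ : ∃ B, S.IsLine B ∧ c.P ⊓ centralizer (B : Set G) ≠ ⊥ := by
    by_contra hc
    push Not at hc
    exact c.P_ne_bot hS h5 hqr hY (le_bot_iff.mp (le_of_lines c.hP.1.not_dvd c.hP.1.le_normalizer
      fun D hD => (hc D hD).le))
  have hBd : ∀ d ∈ B, d ≠ 1 → S.θ d ≤ c.M := by
    intro d hd hd1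
    refine key _ (isMember_theta (hB.1 hd) hd1) (T_le (hB.1 hd) hd1) fun h => hBne ?_
    refine le_bot_iff.mp (le_trans (le_inf inf_le_left ?_) h.le)
    exact (inf_le_inf_left _ (centralizer_le (Set.singleton_subset_iff.mpr hd))).trans
      (c.hP.1.inf_centralizer_le (hB.1 hd) hd1)
  refine hS.1 ⟨c.M, c.hM, fun a ha h1 => (isMember_theta ha h1).le_of_C fun D hD => ?_⟩
  obtain ⟨d, hd, hd1⟩ := hB.exists_inter hD
  exact inf_le_right.trans ((C_le hd.2 hd1).trans (hBd d hd.1 hd1))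

end Case

/-- Three primes with nontrivial closures, one of them at least five: contradiction. -/
theorem Minimal.false_of_large (hS : S.Minimal) (h5 : 5 ≤ q) (hY : S.Y {q} ≠ ⊥)
    (h3 : ∀ z : ℕ, z.Prime → ∃ s, s.Prime ∧ s ≠ q ∧ s ≠ z ∧ S.Y {s} ≠ ⊥) : False := by
  have hqr : q ≠ r := by
    rintro rfl
    obtain ⟨a, ha, h1, hd⟩ := dvd_of_Y_ne_bot hq.out hY
    exact not_dvd_theta ha h1 hd
  obtain ⟨s, hs, hsq, -, hsY⟩ := h3 q hq.out
  have hprop : S.Proper {q} := by
    obtain ⟨a, ha, h1, hd⟩ := dvd_of_Y_ne_bot hs hsY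
    exact ⟨a, ha, h1, fun hn => hsq (hn s hs hd)⟩
  have hm := hS.isMember_Y hprop
  obtain ⟨P, hP, hPq, hYP, hPmax⟩ := H46.SignalizerTrans.exists_max hm
    (isPGroup_of_isPiNumber_singleton (hS.isPiNumber_Y hprop))
  have hP1 : P ≠ ⊥ := fun h => hY (le_bot_iff.mp (h ▸ hYP))
  obtain ⟨M, hM, hWM, hMmax⟩ := (hS.isMember_normBy (isMember_zjay hP)
    (Thompson.zjay_ne_bot hPq hP1 (Or.inl rfl))).exists_le_maximal
  exact ({ P := P, M := M, hP := ⟨hP, hPq, hPmax⟩, hYP := hYP, hM := hM, hMmax := hMmax,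
           hWM := hWM } : Case S q).false hS h5 hqr hY h3

end Setup

end Cfsg.Agent.Signalizer
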