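import Mathlib

/-!
A vanishing criterion for products over orbits of a `p`-group with norm-trivial generators.
-/

set_option autoImplicit false

namespace Cfsg.Agent.Signalizer.NormControl

open Subgroup

theorem exists_normal_index_prime {E : Type*} [Group E] [Finite E] {p : ℕ} [Fact p.Prime]
    (hE : IsPGroup p E) {R : Subgroup E} (hR : R ≠ ⊤) :
    ∃ M : Subgroup E, R ≤ M ∧ M.Normal ∧ M.index = p := by
  have hp : p.Prime := Fact.out
  obtain ⟨k, hk⟩ := IsPGroup.iff_card.mp hE
  obtain ⟨n, hn⟩ := IsPGroup.iff_card.mp (hE.to_subgroup R)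
  have hlt : n < k := by
    by_contra h
    apply hR
    apply eq_top_of_card_eq
    refine le_antisymm (card_le_card_group R) ?_
    rw [hk, hn]
    exact Nat.pow_le_pow_right hp.pos (not_lt.mp h)
  obtain ⟨M, hM, hRM⟩ := Sylow.exists_subgroup_card_pow_prime_le p
    (hk ▸ pow_dvd_pow p (Nat.sub_le k 1)) R hn (by omega : n ≤ k - 1)
  have hidx : M.index = p := by
    have h := M.card_mul_index
    rw [hM, hk, ← Nat.sub_add_cancel (by omega : 1 ≤ k), pow_succ, Nat.add_sub_cancel] at h
    exact Nat.eq_of_mul_eq_mul_left (pow_pos hp.pos _) h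
  refine ⟨M, hRM, normal_of_index_eq_minFac_card ?_, hidx⟩
  rw [hidx, hk, Nat.pow_minFac (by omega), hp.minFac_eq]

/-- If a `p`-group `E` is generated by elements whose norm maps on `V` are trivial, an equivariant
function which is trivial at fixed points has trivial product. -/
theorem prod_eq_one_of_norm {E Q V : Type*} [Group E] [Finite E] [Fintype Q] [MulAction E Q]
    [CommGroup V] {p : ℕ} [Fact p.Prime] (hE : IsPGroup p E) (act : E →* MulAut V)
    (gen : Set E) (hgen : closure gen = ⊤)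
    (hnorm : ∀ a ∈ gen, ∀ v : V, ∏ i ∈ Finset.range p, act (a ^ i) v = 1)
    (y : Q → V) (hy : ∀ (e : E) (q : Q), y (e • q) = act e (y q))
    (hfix : ∀ q : Q, (∀ e : E, e • q = q) → y q = 1) : ∏ q, y q = 1 := by
  classical
  have hp : p.Prime := Fact.out
  have : Fintype E := Fintype.ofFinite E
  rw [← Equiv.prod_comp (MulAction.selfEquivSigmaOrbitsQuotientStabilizer E Q).symm y,
    Fintype.prod_sigma]
  refine Finset.prod_eq_one fun ω _ => ?_
  set q₀ : Q := ω.out
  set R := MulAction.stabilizer E q₀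
  have hval : ∀ c : E, y ((MulAction.selfEquivSigmaOrbitsQuotientStabilizer E Q).symm ⟨ω, (c : E ⧸ R)⟩)
      = act c (y q₀) := fun c => by
    rw [← hy]; rfl
  by_cases hR : R = ⊤
  · refine Finset.prod_eq_one fun c _ => ?_
    induction c using QuotientGroup.induction_on with | _ c => ?_
    rw [hval, hfix q₀ fun e => MulAction.mem_stabilizer_iff.mp (show e ∈ R by rw [hR]; exact mem_top e), map_one]
  obtain ⟨M, hRM, hMn, hMi⟩ := exists_normal_index_prime hE hR
  obtain ⟨a, hag, haM⟩ : ∃ a ∈ gen, a ∉ M := by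
    by_contra! h
    have h1 : M = ⊤ := top_le_iff.mp (hgen ▸ (closure_le _).mpr h)
    rw [h1, index_top] at hMi
    exact hp.one_lt.ne hMi
  have hcard : Nat.card (E ⧸ M) = p := hMi
  have hord : orderOf (a : E ⧸ M) = p :=
    orderOf_eq_prime (by rw [← hcard]; exact pow_card_eq_one')
      fun h => haM ((QuotientGroup.eq_one_iff a).mp h)
  let i : Fin p → E ⧸ M := fun j => (a : E ⧸ M) ^ (j : ℕ)
  have hib : Function.Bijective i := by
    refine (Fintype.bijective_iff_injective_and_card i).mpr ⟨fun j k h => Fin.ext ?_, ?_⟩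
    · exact pow_injOn_Iio_orderOf (hord.symm ▸ j.2) (hord.symm ▸ k.2) h
    · rw [Fintype.card_fin, ← Nat.card_eq_fintype_card, hcard]
  let e₀ := Equiv.ofBijective i hib
  let f : E ⧸ M → E := fun c => a ^ (e₀.symm c : ℕ)
  have hf : Function.RightInverse f (QuotientGroup.mk (s := M)) := fun c =>
    (show ((a ^ (e₀.symm c : ℕ) : E) : E ⧸ M) = i (e₀.symm c) from rfl).trans (e₀.apply_symm_apply c)
  rw [← Equiv.prod_comp (Subgroup.quotientEquivProdOfLE' hRM f hf).symm, Fintype.prod_prod_type,
    ← Equiv.prod_comp e₀]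
  let z : V := ∏ m : M ⧸ R.subgroupOf M, Quotient.liftOn' m (fun m => act (m : E) (y q₀)) (by
    intro m₁ m₂ h
    rw [QuotientGroup.leftRel_apply, mem_subgroupOf, MulAction.mem_stabilizer_iff] at h
    push_cast at h
    rw [← hy, ← hy]
    refine congrArg y ?_
    apply MulAction.injective ((m₁ : E)⁻¹)
    show (m₁ : E)⁻¹ • (m₁ : E) • q₀ = (m₁ : E)⁻¹ • (m₂ : E) • q₀
    rw [inv_smul_smul, smul_smul, h])
  have hz : ∀ j : Fin p, ∏ m : M ⧸ R.subgroupOf M,
      y ((MulAction.selfEquivSigmaOrbitsQuotientStabilizer E Q).symm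
        ⟨ω, (Subgroup.quotientEquivProdOfLE' hRM f hf).symm (e₀ j, m)⟩) = act (a ^ (j : ℕ)) z := by
    intro j
    rw [map_prod]
    refine Finset.prod_congr rfl fun m _ => ?_
    induction m using QuotientGroup.induction_on with | _ m => ?_
    refine (hval (f (e₀ j) * m)).trans ?_
    rw [map_mul, MulAut.mul_apply]
    simp [f]
  rw [Finset.prod_congr rfl fun j _ => hz j, Fin.prod_univ_eq_prod_range (fun j => act (a ^ j) z)]
  exact hnorm a hag z

end Cfsg.Agent.Signalizer.NormControl
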