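import Cfsg.Agent.Signalizer.Induction
import Cfsg.Agent.Coprime.Hall

/-!
`S.piPart π a`: the largest `A`- and `T`-invariant `π`-subgroup of `θ a`; it is a subfunctor.
`S.Y π`: the subgroup it generates; when some value is not a `π`-group, a member, a `π`-group, containing
every `A`- and `T`-invariant member which is a `π`-group.
-/

set_option autoImplicit false
set_option linter.unusedSectionVars false

namespace Cfsg.Agent.Signalizer

open Subgroup

universe u

variable {G : Type u} [Group G] [Finite G] {r : ℕ} [hr : Fact r.Prime]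

namespace Setup

/-- The invariant `π`-subgroups of `θ a`. -/
def piSubgroups (S : Setup G r) (π : Set ℕ) (a : G) : Set (Subgroup G) :=
  {U | U ≤ S.θ a ∧ S.A ≤ normalizer (U : Set G) ∧ S.T ≤ normalizer (U : Set G) ∧
    Hall.IsPiNumber π (Nat.card U)}

/-- The largest invariant `π`-subgroup of `θ a`. -/
def piPart (S : Setup G r) (π : Set ℕ) (a : G) : Subgroup G := sSup (S.piSubgroups π a)

/-- The subgroup generated by the `piPart`s. -/
def Y (S : Setup G r) (π : Set ℕ) : Subgroup G :=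
  ⨆ a : {a : G // a ∈ S.A ∧ a ≠ 1}, S.piPart π a

variable {S : Setup G r} {π : Set ℕ}

theorem piPart_le {a : G} : S.piPart π a ≤ S.θ a := sSup_le fun _ h => h.1

theorem mem_normalizer_sSup {s : Set (Subgroup G)} {g : G}
    (h : ∀ U ∈ s, g ∈ normalizer (U : Set G)) : g ∈ normalizer ((sSup s : Subgroup G) : Set G) := by
  refine Coprime.mem_normalizer_of_map_conj ?_
  rw [sSup_eq_iSup, Subgroup.map_iSup]
  refine iSup_congr fun U => ?_
  rw [Subgroup.map_iSup]
  exact iSup_congr fun hU => Coprime.map_conj_eq (h U hU)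

theorem A_le_normalizer_piPart {a : G} : S.A ≤ normalizer (S.piPart π a : Set G) := fun _g hg =>
  mem_normalizer_sSup fun _U hU => hU.2.1 hg

theorem T_le_normalizer_piPart {a : G} : S.T ≤ normalizer (S.piPart π a : Set G) := fun _g hg =>
  mem_normalizer_sSup fun _U hU => hU.2.2.1 hg

theorem isPiNumber_piPart {a : G} (ha : a ∈ S.A) (h1 : a ≠ 1) :
    Hall.IsPiNumber π (Nat.card (S.piPart π a)) := by
  have hAθ := (isMember_theta ha h1).le_normalizer
  have hcop := coprime_A (S := S) (not_dvd_theta ha h1)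
  obtain ⟨H, hH, hAH⟩ := Coprime.exists_invariant_hall hAθ hcop (solvable_theta ha h1) π
  refine Hall.isPiNumber_card_mono (K := H) (sSup_le fun U hU => ?_) hH.2.1
  obtain ⟨H', hH', hAH', hUH'⟩ := Coprime.exists_invariant_hall_ge hAθ hcop (solvable_theta ha h1)
    hU.1 hU.2.1 hU.2.2.2
  obtain ⟨c, hc, he⟩ := Coprime.exists_centralizer_conj_hall hAθ hcop (solvable_theta ha h1)
    hH' hAH' hH hAH
  have hcT : c ∈ S.T := (isMember_theta ha h1).inf_centralizer_A_le hc
  rw [← he]
  exact (Coprime.map_conj_eq (hU.2.2.1 hcT)).symm.le.trans (Subgroup.map_mono hUH')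

theorem IsMember.le_piPart {U : Subgroup G} (hU : S.IsMember U)
    (hT : S.T ≤ normalizer (U : Set G)) (hπ : Hall.IsPiNumber π (Nat.card U)) {a : G}
    (ha : a ∈ S.A) (h1 : a ≠ 1) : U ⊓ centralizer ({a} : Set G) ≤ S.piPart π a :=
  le_sSup ⟨hU.inf_centralizer_le ha h1,
    le_normalizer_inf hU.le_normalizer (le_normalizer_centralizer_singleton ha),
    (le_inf hT ((T_le_centralizer.trans (centralizer_le (Set.singleton_subset_iff.mpr ha))).trans
      Subgroup.le_normalizer)).trans inf_normalizer_le_normalizer_inf,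
    Hall.isPiNumber_card_mono inf_le_left hπ⟩

theorem piPart_balance {a : G} (ha : a ∈ S.A) (h1 : a ≠ 1) {b : G} (hb : b ∈ S.A) (hb1 : b ≠ 1) :
    S.piPart π a ⊓ centralizer ({b} : Set G) ≤ S.piPart π b :=
  ((isMember_theta ha h1).of_le piPart_le A_le_normalizer_piPart).le_piPart T_le_normalizer_piPart
    (isPiNumber_piPart ha h1) hb hb1

theorem A_le_normalizer_Y : S.A ≤ normalizer (S.Y π : Set G) := fun g hg => by
  refine Coprime.mem_normalizer_of_map_conj ?_
  rw [Y, Subgroup.map_iSup]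
  exact iSup_congr fun a => Coprime.map_conj_eq (A_le_normalizer_piPart hg)

theorem T_le_normalizer_Y : S.T ≤ normalizer (S.Y π : Set G) := fun g hg => by
  refine Coprime.mem_normalizer_of_map_conj ?_
  rw [Y, Subgroup.map_iSup]
  exact iSup_congr fun a => Coprime.map_conj_eq (T_le_normalizer_piPart hg)

theorem piPart_eq_of_isPiNumber {a : G} (ha : a ∈ S.A) (h1 : a ≠ 1)
    (h : Hall.IsPiNumber π (Nat.card (S.θ a))) : S.piPart π a = S.θ a :=
  le_antisymm piPart_le (le_sSup ⟨le_rfl, (isMember_theta ha h1).le_normalizer,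
    (T_le ha h1).trans le_normalizer, h⟩)

/-- `π` is proper: some value is not a `π`-group. -/
def Proper (S : Setup G r) (π : Set ℕ) : Prop :=
  ∃ a ∈ S.A, a ≠ 1 ∧ ¬ Hall.IsPiNumber π (Nat.card (S.θ a))

theorem Minimal.Y_spec (hS : S.Minimal) (hπ : S.Proper π) :
    S.IsMember (S.Y π) ∧
      ∀ a ∈ S.A, a ≠ 1 → S.Y π ⊓ centralizer ({a} : Set G) = S.piPart π a := by
  obtain ⟨a, ha, h1, hne⟩ := hπ
  exact hS.isMember_iSup (S.piPart π) (fun _ _ _ => piPart_le) (fun _ _ _ => A_le_normalizer_piPart)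
    (fun _ ha h1 _ hb hb1 => piPart_balance ha h1 hb hb1)
    ⟨a, ha, h1, fun he => hne (he ▸ isPiNumber_piPart ha h1)⟩

theorem Minimal.isMember_Y (hS : S.Minimal) (hπ : S.Proper π) : S.IsMember (S.Y π) :=
  (hS.Y_spec hπ).1

/-- A member all of whose fixed-point subgroups are `π`-groups is a `π`-group. -/
theorem IsMember.isPiNumber {U : Subgroup G} (hU : S.IsMember U)
    (h : ∀ a ∈ S.A, a ≠ 1 → Hall.IsPiNumber π (Nat.card (U ⊓ centralizer ({a} : Set G) : Subgroup G))) :
    Hall.IsPiNumber π (Nat.card U) := by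
  intro q hq hqU
  haveI := Fact.mk hq
  obtain ⟨P, hP⟩ := Coprime.exists_invariant_sylow hU.le_normalizer (coprime_A hU.not_dvd)
    (Or.inr hU.solvable) q
  have hP1 : (P : Subgroup U).map U.subtype ≠ ⊥ := fun h0 =>
    P.ne_bot_of_dvd_card hqU ((map_eq_bot_iff_of_injective _ U.subtype_injective).mp h0)
  have hPU : (P : Subgroup U).map U.subtype ≤ U := map_subtype_le _
  obtain ⟨a, ha, h1, hne⟩ := exists_theta_inf_ne_bot (hU.of_le hPU hP) hP1
  refine h a ha h1 q hq (dvd_trans ?_ (card_dvd_of_le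
    (inf_le_inf hPU (theta_le_centralizer (S := S) ha h1))))
  obtain ⟨n, hn⟩ := IsPGroup.iff_card.mp ((P.isPGroup'.map U.subtype).to_le
    (inf_le_left (b := S.θ a)))
  rcases n with _ | n
  · exact absurd ((Subgroup.eq_bot_of_card_eq _ (by simpa using hn))) hne
  · exact hn ▸ dvd_pow_self q n.succ_ne_zero

theorem Minimal.isPiNumber_Y (hS : S.Minimal) (hπ : S.Proper π) :
    Hall.IsPiNumber π (Nat.card (S.Y π)) :=
  (hS.isMember_Y hπ).isPiNumber fun a ha h1 => by
    rw [(hS.Y_spec hπ).2 a ha h1]; exact isPiNumber_piPart ha h1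

/-- `Y π` contains every invariant member which is a `π`-group. -/
theorem IsMember.le_Y {U : Subgroup G} (hU : S.IsMember U) (hT : S.T ≤ normalizer (U : Set G))
    (hπ : Hall.IsPiNumber π (Nat.card U)) : U ≤ S.Y π :=
  le_of_points le_rfl (by rw [S.card_A]; exact Nat.pow_le_pow_right hr.out.pos (by norm_num))
    hU.not_dvd hU.le_normalizer fun a ha h1 =>
      le_iSup_of_le ⟨a, ha, h1⟩ (hU.le_piPart hT hπ ha h1)

end Setup

end Cfsg.Agent.Signalizer
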