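import Cfsg.Prelude.Def_Balance
import Cfsg.Agent.Coprime.Generation
import Cfsg.Agent.Coprime.Action
import Cfsg.Agent.H40.Generation
import Mathlib.Algebra.BigOperators.Finprod

/-!
A solvable signalizer functor on an elementary abelian group of order `r ^ 3`: basic notions for the
proof of the solvable signalizer functor theorem.

* `Setup G r`: the data `A`, `θ`.
* `S.IsMember U`: `U` is in the family of `θ`.
* `S.T`: the common part of all values.
* `S.IsLine D`: `D ≤ A` of order `r ^ 2`;  `S.C D`: the common part of the values on `D`.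
* `S.normBy X`: generated by the parts of the values normalizing `X`.
* `S.Complete`: some member contains all the values.
* `S.weight`: sum of the orders of the values;  `S.Minimal`: not complete, smaller weights complete.
-/

set_option autoImplicit false
set_option linter.unusedSectionVars false

namespace Cfsg.Agent.Signalizer

open Subgroup

universe u

/-- A solvable signalizer functor on an elementary abelian group of order `r ^ 3`. -/
structure Setup (G : Type u) [Group G] (r : ℕ) where
  /-- the acting group -/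
  A : Subgroup G
  /-- the functor -/
  θ : G → Subgroup G
  elem : Cfsg.IsElementaryAbelian r A
  card_A : Nat.card A = r ^ 3
  functor : Cfsg.IsSolvableSignalizerFunctor r A θ

variable {G : Type u} [Group G] {r : ℕ}

namespace Setup

variable (S : Setup G r)

/-- `U` belongs to the family of `θ`. -/
def IsMember (U : Subgroup G) : Prop := U ∈ Cfsg.signalizerFamily r S.A S.θ

/-- The intersection of all the values. -/
def T : Subgroup G := Cfsg.signalizerInf S.A S.θ

/-- A subgroup of `A` of order `r ^ 2`. -/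
def IsLine (D : Subgroup G) : Prop := D ≤ S.A ∧ Nat.card D = r ^ 2

/-- The intersection of the values on `D`. -/
def C (D : Subgroup G) : Subgroup G := Cfsg.signalizerInf D S.θ

/-- The subgroup generated by the parts of the values normalizing `X`. -/
def normBy (X : Subgroup G) : Subgroup G :=
  ⨆ a : {a : G // a ∈ S.A ∧ a ≠ 1}, S.θ a ⊓ normalizer (X : Set G)

/-- Some member contains all the values. -/
def Complete : Prop := ∃ X, S.IsMember X ∧ ∀ a ∈ S.A, a ≠ 1 → S.θ a ≤ X

/-- The sum of the orders of the values. -/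
noncomputable def weight : ℕ := ∑ᶠ a : {a : G // a ∈ S.A ∧ a ≠ 1}, Nat.card (S.θ a)

/-- A minimal counterexample. -/
def Minimal : Prop :=
  ¬ S.Complete ∧ ∀ (H : Type u) [Group H] [Finite H] (S' : Setup H r),
    S'.weight < S.weight → S'.Complete

variable {S}

theorem theta_le_centralizer {a : G} (ha : a ∈ S.A) (h1 : a ≠ 1) :
    S.θ a ≤ centralizer ({a} : Set G) := S.functor.1.1 a ha h1

theorem not_dvd_theta {a : G} (ha : a ∈ S.A) (h1 : a ≠ 1) : ¬ r ∣ Nat.card (S.θ a) :=
  S.functor.1.2.1 a ha h1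

theorem solvable_theta {a : G} (ha : a ∈ S.A) (h1 : a ≠ 1) : Group.IsSolvable (S.θ a) :=
  S.functor.2 a ha h1

theorem balance {a b : G} (ha : a ∈ S.A) (h1 : a ≠ 1) (hb : b ∈ S.A) (hb1 : b ≠ 1) :
    S.θ a ⊓ centralizer ({b} : Set G) ≤ S.θ b := S.functor.1.2.2.2 a ha h1 b hb hb1

theorem isMember_theta {a : G} (ha : a ∈ S.A) (h1 : a ≠ 1) : S.IsMember (S.θ a) :=
  ⟨solvable_theta ha h1, not_dvd_theta ha h1, S.functor.1.2.2.1 a ha h1,
    fun _b hb hb1 => balance ha h1 hb hb1⟩

theorem IsMember.solvable {U : Subgroup G} (h : S.IsMember U) : Group.IsSolvable U := h.1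

theorem IsMember.not_dvd {U : Subgroup G} (h : S.IsMember U) : ¬ r ∣ Nat.card U := h.2.1

theorem IsMember.le_normalizer {U : Subgroup G} (h : S.IsMember U) :
    S.A ≤ normalizer (U : Set G) := le_normalizer_iff.mpr h.2.2.1

theorem IsMember.inf_centralizer_le {U : Subgroup G} (h : S.IsMember U) {a : G} (ha : a ∈ S.A)
    (h1 : a ≠ 1) : U ⊓ centralizer ({a} : Set G) ≤ S.θ a := h.2.2.2 a ha h1

theorem IsMember.of_le [Finite G] {U V : Subgroup G} (h : S.IsMember U) (hVU : V ≤ U)
    (hV : S.A ≤ normalizer (V : Set G)) : S.IsMember V :=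
  ⟨Coprime.isSolvable_of_le hVU h.1, fun hd => h.2.1 (hd.trans (card_dvd_of_le hVU)),
    fun _b hb _v hv => Coprime.conj_mem (hV hb) hv,
    fun _a ha h1 => (inf_le_inf_right _ hVU).trans (h.2.2.2 _ ha h1)⟩

theorem isMember_bot (hr : r.Prime) : S.IsMember ⊥ :=
  ⟨inferInstance, by simp [hr.ne_one], fun b _ x hx => by simp [mem_bot.mp hx], fun a _ _ => by simp⟩

theorem le_normalizer_inf {H K : Subgroup G} (hH : S.A ≤ normalizer (H : Set G))
    (hK : S.A ≤ normalizer (K : Set G)) : S.A ≤ normalizer ((H ⊓ K : Subgroup G) : Set G) :=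
  (le_inf hH hK).trans inf_normalizer_le_normalizer_inf

theorem A_le_centralizer_A : S.A ≤ centralizer (S.A : Set G) := fun a ha =>
  mem_centralizer_iff.mpr fun _c hc => H40.elemAb_commute S.elem hc ha

theorem le_normalizer_centralizer {D : Subgroup G} (hD : D ≤ S.A) :
    S.A ≤ normalizer ((centralizer (D : Set G) : Subgroup G) : Set G) :=
  (A_le_centralizer_A.trans (centralizer_le hD)).trans le_normalizer

theorem le_normalizer_centralizer_singleton {a : G} (ha : a ∈ S.A) :
    S.A ≤ normalizer ((centralizer ({a} : Set G) : Subgroup G) : Set G) :=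
  (A_le_centralizer_A.trans (centralizer_le (Set.singleton_subset_iff.mpr ha))).trans le_normalizer

theorem T_le {a : G} (ha : a ∈ S.A) (h1 : a ≠ 1) : S.T ≤ S.θ a :=
  iInf_le (fun a : {a : G // a ∈ S.A ∧ a ≠ 1} => S.θ a) ⟨a, ha, h1⟩

theorem T_le_centralizer : S.T ≤ centralizer (S.A : Set G) := by
  intro x hx
  refine mem_centralizer_iff.mpr fun a ha => ?_
  by_cases h1 : a = 1
  · simp [h1]
  · exact (mem_centralizer_singleton_iff.mp (theta_le_centralizer ha h1 (T_le ha h1 hx))).symm

theorem C_le {D : Subgroup G} {d : G} (hd : d ∈ D) (hd1 : d ≠ 1) : S.C D ≤ S.θ d :=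
  iInf_le (fun a : {a : G // a ∈ D ∧ a ≠ 1} => S.θ a) ⟨d, hd, hd1⟩

theorem le_C {D U : Subgroup G} (h : ∀ d ∈ D, d ≠ 1 → U ≤ S.θ d) : U ≤ S.C D :=
  le_iInf fun d => h d d.2.1 d.2.2

theorem C_le_centralizer {D : Subgroup G} (hD : D ≤ S.A) : S.C D ≤ centralizer (D : Set G) := by
  intro x hx
  refine mem_centralizer_iff.mpr fun a ha => ?_
  by_cases h1 : a = 1
  · simp [h1]
  · exact (mem_centralizer_singleton_iff.mp
      (theta_le_centralizer (hD ha) h1 (C_le ha h1 hx))).symm

theorem theta_inf_centralizer_le_C {D : Subgroup G} (hD : D ≤ S.A) {d : G} (hd : d ∈ S.A)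
    (hd1 : d ≠ 1) : S.θ d ⊓ centralizer (D : Set G) ≤ S.C D :=
  le_C fun _b hb hb1 => (inf_le_inf_left _ (centralizer_le (Set.singleton_subset_iff.mpr hb))).trans
    (balance hd hd1 (hD hb) hb1)

theorem IsMember.inf_centralizer_le_C {U : Subgroup G} (h : S.IsMember U) {D : Subgroup G}
    (hD : D ≤ S.A) : U ⊓ centralizer (D : Set G) ≤ S.C D :=
  le_C fun _b hb hb1 =>
    (inf_le_inf_left _ (centralizer_le (Set.singleton_subset_iff.mpr hb))).trans
      (h.inf_centralizer_le (hD hb) hb1)

theorem T_le_C {D : Subgroup G} (hD : D ≤ S.A) : S.T ≤ S.C D :=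
  le_C fun _b hb hb1 => T_le (hD hb) hb1

theorem IsMember.inf_centralizer_A_le {U : Subgroup G} (h : S.IsMember U) :
    U ⊓ centralizer (S.A : Set G) ≤ S.T :=
  le_iInf fun a => (inf_le_inf_left _ (centralizer_le (Set.singleton_subset_iff.mpr a.2.1))).trans
    (h.inf_centralizer_le a.2.1 a.2.2)

theorem le_normalizer_iInf {ι : Sort*} {f : ι → Subgroup G}
    (h : ∀ i, S.A ≤ normalizer (f i : Set G)) : S.A ≤ normalizer ((⨅ i, f i : Subgroup G) : Set G) :=
  le_normalizer_iff.mpr fun b hb x hx =>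
    mem_iInf.mpr fun i => Coprime.conj_mem (h i hb) (mem_iInf.mp hx i)

theorem le_normalizer_C {D : Subgroup G} (hD : D ≤ S.A) :
    S.A ≤ normalizer (S.C D : Set G) :=
  le_normalizer_iInf fun d => (isMember_theta (hD d.2.1) d.2.2).le_normalizer

section Finite

variable [Finite G] [hr : Fact r.Prime]

theorem coprime_A {U : Subgroup G} (hU : ¬ r ∣ Nat.card U) :
    (Nat.card S.A).Coprime (Nat.card U) :=
  H40.coprime_card_of_isPGroup (H40.elemAb_isPGroup S.elem) hU

theorem solvable_A : Group.IsSolvable S.A :=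
  have := S.elem.1
  Coprime.isSolvable_of_isMulCommutative

theorem A_ne_bot : S.A ≠ ⊥ := fun h => by
  have := S.card_A
  rw [h, card_bot] at this
  exact (Nat.one_lt_pow (by norm_num) hr.out.one_lt).ne this

theorem exists_ne_one : ∃ a ∈ S.A, a ≠ 1 :=
  S.A.bot_or_exists_ne_one.resolve_left S.A_ne_bot

theorem IsLine.exists_ne_one {D : Subgroup G} (hD : S.IsLine D) : ∃ d ∈ D, d ≠ 1 :=
  D.bot_or_exists_ne_one.resolve_left fun h => by
    have := hD.2
    rw [h, card_bot] at this
    exact (Nat.one_lt_pow (by norm_num) hr.out.one_lt).ne this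

theorem C_eq {D : Subgroup G} (hD : S.IsLine D) {d : G} (hd : d ∈ D) (hd1 : d ≠ 1) :
    S.C D = S.θ d ⊓ centralizer (D : Set G) :=
  le_antisymm (le_inf (C_le hd hd1) (C_le_centralizer hD.1))
    (theta_inf_centralizer_le_C hD.1 (hD.1 hd) hd1)

theorem isMember_C {D : Subgroup G} (hD : S.IsLine D) : S.IsMember (S.C D) :=
  let ⟨_d, hd, hd1⟩ := hD.exists_ne_one
  (isMember_theta (hD.1 hd) hd1).of_le (C_le hd hd1) (le_normalizer_C hD.1)

theorem isMember_T : S.IsMember S.T :=
  let ⟨_a, ha, h1⟩ := S.exists_ne_one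
  (isMember_theta ha h1).of_le (T_le ha h1) (le_normalizer_C le_rfl)

/-- A subgroup normalized by `A` of order prime to `r` is generated by its fixed points on lines. -/
theorem le_of_lines {K M : Subgroup G} (hK : ¬ r ∣ Nat.card K)
    (hAK : S.A ≤ normalizer (K : Set G))
    (h : ∀ D, S.IsLine D → K ⊓ centralizer (D : Set G) ≤ M) : K ≤ M := by
  refine H40.le_of_hyperplanes S.elem hK hAK fun B hB hi => ?_
  obtain ⟨n, hn⟩ := IsPGroup.iff_card.mp ((H40.elemAb_isPGroup S.elem).to_le hB)
  have hm := relIndex_mul_relIndex (⊥ : Subgroup G) B S.A bot_le hB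
  rw [relIndex_bot_left, relIndex_bot_left, S.card_A] at hm
  have h2 : 2 ≤ n := by
    by_contra hlt
    have h1 : Nat.card B ≤ r := by
      rw [hn]; exact (Nat.pow_le_pow_right hr.out.pos (by omega)).trans_eq (pow_one r)
    have := Nat.mul_le_mul h1 hi
    rw [hm] at this
    have := hr.out.one_lt
    nlinarith [Nat.pos_of_ne_zero hr.out.ne_zero]
  obtain ⟨D, hD⟩ := Sylow.exists_subgroup_card_pow_prime (G := B) r (n := 2)
    (hn ▸ pow_dvd_pow r h2)
  have hDB : D.map B.subtype ≤ B := map_subtype_le _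
  refine le_trans (inf_le_inf_left _ (centralizer_le hDB))
    (h _ ⟨hDB.trans hB, ?_⟩)
  rw [← hD, Nat.card_congr (D.equivMapOfInjective _ B.subtype_injective).toEquiv]

/-- A member is the join of its intersections with the line parts. -/
theorem IsMember.le_of_C {U M : Subgroup G} (hU : S.IsMember U)
    (h : ∀ D, S.IsLine D → U ⊓ S.C D ≤ M) : U ≤ M :=
  le_of_lines hU.not_dvd hU.le_normalizer fun D hD =>
    (le_inf inf_le_left (hU.inf_centralizer_le_C hD.1)).trans (h D hD)

/-- A member is the join of its fixed points on a noncyclic subgroup of `A`. -/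
theorem le_of_points {B K M : Subgroup G} (hB : B ≤ S.A) (hB2 : r ^ 2 ≤ Nat.card B)
    (hK : ¬ r ∣ Nat.card K) (hAK : B ≤ normalizer (K : Set G))
    (h : ∀ b ∈ B, b ≠ 1 → K ⊓ centralizer ({b} : Set G) ≤ M) : K ≤ M := by
  have hBel := H40.elemAb_mono S.elem hB
  have := hBel.1
  exact Coprime.le_of_centralizer_noncyclic_le (H40.elemAb_not_cyclic hBel hB2) hAK
    (H40.coprime_card_of_isPGroup (H40.elemAb_isPGroup hBel) hK) h

/-- A nontrivial subgroup of a value on a line. -/
theorem exists_theta_inf_ne_bot {U : Subgroup G} (hU : S.IsMember U) (h : U ≠ ⊥) :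
    ∃ a ∈ S.A, a ≠ 1 ∧ U ⊓ S.θ a ≠ ⊥ := by
  by_contra hc
  push Not at hc
  refine h (le_bot_iff.mp (le_of_points le_rfl ?_ hU.not_dvd hU.le_normalizer fun a ha h1 => ?_))
  · rw [S.card_A]; exact Nat.pow_le_pow_right hr.out.pos (by norm_num)
  · rw [← hc a ha h1]
    exact le_inf inf_le_left (hU.inf_centralizer_le ha h1)

end Finite

end Setup

end Cfsg.Agent.Signalizer
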