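import Cfsg.Agent.Signalizer.TwoPrimesFinal

/-!
The two-prime case of the solvable signalizer functor theorem.
-/

set_option autoImplicit false
set_option linter.style.haveILetI false

namespace Cfsg.Agent.Signalizer.Setup

open Subgroup

universe u

variable {G : Type u} [Group G] [Finite G] {r : ℕ} [hr : Fact r.Prime]

theorem Y_singleton_self_eq_bot {S : Setup G r} (hS : S.Minimal) {p q : ℕ}
    (hY : ∀ x : ℕ, x.Prime → x ≠ p → x ≠ q → S.Y {x} = ⊥) {s : ℕ} (hs : s.Prime) (hsr : s = r) :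
    S.Y {s} = ⊥ := by
  subst hsr
  rw [← le_bot_iff]
  refine iSup_le fun a => ?_
  have h1 := S.isPiNumber_piPart (π := {s}) a.2.1 a.2.2
  rcases eq_or_ne (S.piPart {s} a) ⊥ with e | e
  · rw [e]
  exfalso
  obtain ⟨x, hx, hxd⟩ := Nat.exists_prime_and_dvd
    (fun h0 => e (Subgroup.eq_bot_of_card_eq _ h0))
  have := h1 x hx hxd
  rw [Set.mem_singleton_iff] at this
  subst this
  exact S.not_dvd_theta a.2.1 a.2.2 (hxd.trans (card_dvd_of_le piPart_le))

/-- No minimal counterexample has all prime parts but two trivial. -/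
theorem Minimal.false_of_two_colours {S : Setup G r} (hS : S.Minimal) {p q : ℕ} (hp : p.Prime)
    (hq : q.Prime) (hpq : p ≠ q) (hY : ∀ x : ℕ, x.Prime → x ≠ p → x ≠ q → S.Y {x} = ⊥) :
    False := by
  have key : ∀ a b : ℕ, a.Prime → b.Prime → a ≠ b → a ≠ r → b ≠ r →
      (∀ x : ℕ, x.Prime → x ≠ a → x ≠ b → S.Y {x} = ⊥) → False := by
    intro a b ha hb hab har hbr hab'
    haveI := Fact.mk ha
    haveI := Fact.mk hb
    exact TwoColours.false (p := a) (q := b) ⟨hS, hab, har, hbr, hab'⟩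
  have other : ∀ a : ℕ, ∃ b : ℕ, b.Prime ∧ b ≠ a ∧ b ≠ r := by
    intro a
    by_cases h2 : (2 : ℕ) ≠ a ∧ 2 ≠ r
    · exact ⟨2, Nat.prime_two, h2⟩
    by_cases h3 : (3 : ℕ) ≠ a ∧ 3 ≠ r
    · exact ⟨3, Nat.prime_three, h3⟩
    exact ⟨5, Nat.prime_five, by omega, by omega⟩
  have hYr : ∀ x : ℕ, x.Prime → x = r → S.Y {x} = ⊥ := fun x hx he =>
    Y_singleton_self_eq_bot hS hY hx he
  by_cases hpr : p = r
  · obtain ⟨b, hb, hbq, hbr⟩ := other q
    refine key b q hb hq hbq hbr (fun e => hpq (hpr.trans e.symm)) fun x hx h1 h2 => ?_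
    by_cases hxr : x = r
    · exact hYr x hx hxr
    · exact hY x hx (fun e => hxr (e.trans hpr)) h2
  by_cases hqr : q = r
  · obtain ⟨b, hb, hbp, hbr⟩ := other p
    refine key p b hp hb hbp.symm hpr hbr fun x hx h1 h2 => ?_
    by_cases hxr : x = r
    · exact hYr x hx hxr
    · exact hY x hx h1 (fun e => hxr (e.trans hqr))
  exact key p q hp hq hpq hpr hqr hY

end Cfsg.Agent.Signalizer.Setup
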