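import Cfsg.Prelude.Def_Amalgam
import Cfsg.Agent.Signalizer.Setup
import Cfsg.Agent.H60.Basic
import Cfsg.Agent.H42.Transitivity
import Cfsg.Agent.H70.FrobQuot
import Cfsg.Agent.Coprime.Centralize
import Cfsg.Agent.Coprime.Commutator

/-!
Small tools for the two-prime case of the solvable signalizer functor theorem.
-/

set_option autoImplicit false
set_option linter.unusedSectionVars false
set_option linter.style.haveILetI false

namespace Cfsg.Agent.Signalizer.TwoPrimes

open Subgroup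

universe u

variable {G : Type u} [Group G] [Finite G] {p q r : ℕ} [Fact p.Prime] [Fact q.Prime] [Fact r.Prime]

omit [Fact p.Prime] [Fact q.Prime] in
/-- A subgroup of prime order lies in every subgroup it meets. -/
theorem le_of_prime_card {E L : Subgroup G} (hE : Nat.card E = r) {x : G} (hxE : x ∈ E)
    (hxL : x ∈ L) (hx : x ≠ 1) : E ≤ L := by
  have h1 : zpowers x ≤ E := zpowers_le.mpr hxE
  have h2 := Subgroup.card_dvd_of_le h1
  rw [hE, Nat.card_zpowers] at h2
  rcases (Fact.out : r.Prime).eq_one_or_self_of_dvd _ h2 with h | h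
  · exact absurd (orderOf_eq_one_iff.mp h) hx
  · rw [← Subgroup.eq_of_le_of_card_ge h1 (by rw [hE, Nat.card_zpowers, h])]
    exact zpowers_le.mpr hxL

theorem not_dvd_of_isPGroup (hpr : p ≠ r) {U : Subgroup G} (hU : IsPGroup p U) :
    ¬ r ∣ Nat.card U := by
  obtain ⟨n, hn⟩ := IsPGroup.iff_card.mp hU
  rw [hn]
  exact fun h => hpr ((Nat.prime_dvd_prime_iff_eq Fact.out Fact.out).mp
    ((Fact.out : r.Prime).dvd_of_dvd_pow h)).symm

theorem coprime_of_isPGroup (hpq : p ≠ q) {P Q : Subgroup G} (hP : IsPGroup p P)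
    (hQ : IsPGroup q Q) : (Nat.card P).Coprime (Nat.card Q) := by
  obtain ⟨n, hn⟩ := IsPGroup.iff_card.mp hP
  obtain ⟨m, hm⟩ := IsPGroup.iff_card.mp hQ
  rw [hn, hm]
  exact ((Nat.coprime_primes Fact.out Fact.out).mpr hpq).pow n m

theorem coprime_zpowers (hpr : p ≠ r) {P : Subgroup G} (hP : IsPGroup p P) {d : G} (hd : d ^ r = 1) :
    (Nat.card (zpowers d)).Coprime (Nat.card P) := by
  obtain ⟨n, hn⟩ := IsPGroup.iff_card.mp hP
  rw [hn, Nat.card_zpowers]
  exact Nat.Coprime.coprime_dvd_left (orderOf_dvd_of_pow_eq_one hd)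
    (Nat.Coprime.pow_right _ ((Nat.coprime_primes Fact.out Fact.out).mpr hpr.symm))

theorem pCore_le_centralizer_pCore (hpq : p ≠ q) (U : Subgroup G) :
    Cfsg.pCoreOf p U ≤ centralizer (Cfsg.pCoreOf q U : Set G) := by
  rw [← commutator_eq_bot_iff_le_centralizer, ← le_bot_iff,
    ← (IsPGroup.disjoint_of_ne p q hpq _ _ (H60.pCoreOf_isPGroup U) (H60.pCoreOf_isPGroup U)).eq_bot]
  exact H60.commutator_le_inf_of_le_normalizer
    ((H60.pCoreOf_le U).trans (H60.le_normalizer_pCoreOf U))
    ((H60.pCoreOf_le U).trans (H60.le_normalizer_pCoreOf U))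

theorem le_normalizer_inf_centralizer {B X : Subgroup G} (h : B ≤ normalizer (X : Set G)) :
    B ≤ normalizer ((X ⊓ centralizer (X : Set G) : Subgroup G) : Set G) :=
  H60.le_normalizer_inf h (h.trans (H60.normalizer_le_normalizer_centralizer X))

theorem centre_isMulCommutative (X : Subgroup G) :
    IsMulCommutative (X ⊓ centralizer (X : Set G) : Subgroup G) :=
  ⟨⟨fun x y => Subtype.ext ((mem_centralizer_iff.mp x.2.2 (y : G) y.2.1).symm)⟩⟩

/-- The normalizer condition inside a nilpotent subgroup. -/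
theorem eq_of_inf_normalizer_le {P U : Subgroup G} (hP : IsPGroup p P) (hU : U ≤ P)
    (h : P ⊓ normalizer (U : Set G) ≤ U) : U = P := by
  by_contra hne
  haveI := hP.isNilpotent
  have hlt : U.subgroupOf P < ⊤ := lt_top_iff_ne_top.mpr fun e =>
    hne (le_antisymm hU (subgroupOf_eq_top.mp e))
  obtain ⟨x, hx, hx'⟩ := SetLike.exists_of_lt (Group.normalizerCondition_of_isNilpotent _ hlt)
  refine hx' (h ⟨x.2, ?_⟩)
  show (x : G) ∈ normalizer (U : Set G)
  rw [mem_normalizer_iff] at hx ⊢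
  intro z
  refine ⟨fun hz => (hx ⟨z, hU hz⟩).mp hz, fun hz => ?_⟩
  have hzP : z ∈ P := by
    simpa [mul_assoc] using P.mul_mem (P.mul_mem (P.inv_mem x.2) (hU hz)) x.2
  exact (hx ⟨z, hzP⟩).mpr hz

/-- If `d` of order `r` acts on an abelian `p`-group `Z` and fixed-point-freely on a `q`-group `V`
normalized by `Z`, then `[Z, d]` centralizes `V`. -/
theorem commutator_le_centralizer_of_fpf (hpq : p ≠ q) (hpr : p ≠ r) {Z V : Subgroup G}
    (hZ : IsPGroup p Z) (hZc : IsMulCommutative Z) (hV : IsPGroup q V) {d : G} (hd : d ^ r = 1)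
    (hdZ : d ∈ normalizer (Z : Set G)) (hdV : d ∈ normalizer (V : Set G))
    (hZV : Z ≤ normalizer (V : Set G)) (hfix : V ⊓ centralizer {d} = ⊥) :
    ⁅Z, zpowers d⁆ ≤ centralizer (V : Set G) := by
  set L := ⁅Z, zpowers d⁆ with hL
  have hdZ' : zpowers d ≤ normalizer (Z : Set G) := zpowers_le.mpr hdZ
  have hLZ : L ≤ Z := Coprime.commutator_le_left_of_normalizer hdZ'
  have hdL : d ∈ normalizer (L : Set G) :=
    Coprime.mem_normalizer_commutator hdZ (Subgroup.le_normalizer (mem_zpowers d))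
  haveI := hZc
  obtain ⟨hfree, -⟩ := Coprime.abelian_decomposition hdZ' (coprime_zpowers hpr hZ hd)
  have hnorm : ∀ w ∈ V, (w * d) ^ r = d ^ r := by
    intro w hw
    let φ : V → V := fun v => ⟨(v : G) * d * (v : G)⁻¹ * d⁻¹, by
      have h := mul_mem v.2 ((mem_normalizer_iff.mp hdV _).mp (V.inv_mem v.2))
      simpa [mul_assoc] using h⟩
    have hφ : Function.Injective φ := fun a b he => by
      have he' : (a : G) * d * (a : G)⁻¹ = (b : G) * d * (b : G)⁻¹ :=
        mul_right_cancel (congrArg Subtype.val he)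
      have h1 : (b : G)⁻¹ * a ∈ V ⊓ centralizer {d} := by
        refine ⟨V.mul_mem (V.inv_mem b.2) a.2, mem_centralizer_singleton_iff.mpr ?_⟩
        calc (b : G)⁻¹ * a * d = (b : G)⁻¹ * ((a : G) * d * (a : G)⁻¹) * a := by group
          _ = d * ((b : G)⁻¹ * a) := by rw [he']; group
      rw [hfix, mem_bot, inv_mul_eq_one] at h1
      exact Subtype.ext h1.symm
    obtain ⟨v, hv⟩ := (Finite.injective_iff_surjective.mp hφ) ⟨w, hw⟩
    have hv' : (v : G) * d * (v : G)⁻¹ = w * d := by
      have := congrArg Subtype.val hv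
      simp only [φ] at this
      rw [← this, inv_mul_cancel_right]
    rw [← hv', conj_pow, hd, mul_one, mul_inv_cancel]
  have hfpf : ∀ i, 0 < i → i < r → ∀ y ∈ L, d ^ i * y * (d ^ i)⁻¹ = y → y = 1 := by
    intro i hi hir y hy he
    have hy1 : y ∈ (Z ⊓ centralizer (zpowers d : Set G)) ⊓ L := by
      refine ⟨⟨hLZ hy, ?_⟩, hy⟩
      have hle : zpowers d ≤ zpowers (d ^ i) := by
        rw [zpowers_le]
        obtain ⟨j, hj⟩ := Nat.exists_mul_mod_eq_one_of_coprime
          ((Fact.out : r.Prime).coprime_iff_not_dvd.mpr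
            (fun h => absurd (Nat.le_of_dvd hi h) (by omega))).symm (Fact.out : r.Prime).one_lt
        refine mem_zpowers_iff.mpr ⟨(j : ℤ), ?_⟩
        rw [zpow_natCast, ← pow_mul, ← Nat.mod_add_div (i * j) r, hj.2, pow_add, pow_one,
          pow_mul, hd, one_pow, mul_one]
      refine centralizer_le hle ?_
      rw [H42.centralizer_zpowers']
      exact mem_centralizer_singleton_iff.mpr (mul_inv_eq_iff_eq_mul.mp he).symm
    rw [hfree, mem_bot] at hy1
    exact hy1
  have h := H70.centralizes_pGroup (p := q) (l := p)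
    ((Nat.coprime_primes Fact.out Fact.out).mpr hpq) L (hZ.to_le hLZ) d r
    (Fact.out : r.Prime).pos (fun y hy => Coprime.conj_mem hdL hy) hfpf V hV (hLZ.trans hZV) hdV
    hnorm
  exact le_centralizer_iff.mp h

end Cfsg.Agent.Signalizer.TwoPrimes
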