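import Cfsg.Agent.Signalizer.TwoPrimesCores
import Cfsg.Agent.H31.VSub
import Cfsg.Agent.H59.KielerLocal
import Cfsg.Agent.Signalizer.OffenderFixed

/-!
The offender step: in a solvable group without `O_{p'}` acted on coprimely by `A`, whose fixed points
normalize a `p`-subgroup `S` containing `O_p`, an element of `S` lying in `p`-subgroups normalized by
the normalizers of `Ω₁Z(S)` and of `J(S)` lies in `O_p`.
-/

set_option autoImplicit false
set_option linter.unusedSectionVars false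
set_option linter.style.haveILetI false

namespace Cfsg.Agent.Signalizer.TwoPrimes

open Subgroup
open scoped commutatorElement

universe u

theorem omegaZ_map_of_injective {X Y : Type u} [Group X] [Group Y] {p : ℕ} {f : X →* Y}
    (hf : Function.Injective f) (S : Subgroup X) :
    (H31.omegaZ p S).map f = H31.omegaZ p (S.map f) := by
  rw [H31.omegaZ, H31.omegaOne_map hf, H31.map_inf_centralizer hf]

theorem omegaZ_ne_bot {X : Type u} [Group X] [Finite X] {p : ℕ} [Fact p.Prime] {S : Subgroup X}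
    (hS : IsPGroup p S) (h : S ≠ ⊥) : H31.omegaZ p S ≠ ⊥ := H59.omegaOne_center_ne_bot hS h

theorem omegaZ_le {X : Type u} [Group X] (p : ℕ) (S : Subgroup X) : H31.omegaZ p S ≤ S :=
  (H31.omegaOne_le p _).trans inf_le_left

theorem normalizer_le_normalizer_omegaZ {X : Type u} [Group X] [Finite X] (p : ℕ) (S : Subgroup X) :
    normalizer (S : Set X) ≤ normalizer (H31.omegaZ p S : Set X) := fun g hg =>
  Coprime.mem_normalizer_of_map_conj (by rw [H31.omegaZ_map, Coprime.map_conj_eq hg])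

theorem thompsonSubgroupOf_ne_bot {X : Type u} [Group X] [Finite X] {p : ℕ} [Fact p.Prime]
    {S : Subgroup X} (hS : IsPGroup p S) (h : S ≠ ⊥) : Cfsg.thompsonSubgroupOf p S ≠ ⊥ := by
  obtain ⟨B, hB⟩ := H31.exists_maxIn p S
  intro e
  exact omegaZ_ne_bot hS h (le_bot_iff.mp ((H31.omegaOne_center_le_maxIn hB).trans
    ((H31.le_thompsonSubgroupOf hB).trans e.le)))

variable {G : Type u} [Group G] [Finite G] {p r : ℕ} [Fact p.Prime] [Fact r.Prime]

theorem mem_pCoreOf_of_factors {A K S : Subgroup G} (hA : Cfsg.IsElementaryAbelian r A)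
    (hAK : A ≤ normalizer (K : Set G)) (hKr : ¬ r ∣ Nat.card K) (hKs : Group.IsSolvable K)
    (hKp : pPrimeOf p K = ⊥) (hS : IsPGroup p S) (hSK : S ≤ K) (hOS : Cfsg.pCoreOf p K ≤ S)
    (hAS : A ≤ normalizer (S : Set G)) (hCS : K ⊓ centralizer (A : Set G) ≤ normalizer (S : Set G))
    {x : G} (hx : x ∈ S)
    (h₁ : ∃ P : Subgroup G, IsPGroup p P ∧ x ∈ P ∧
      K ⊓ normalizer (H31.omegaZ p S : Set G) ≤ normalizer (P : Set G))
    (h₂ : ∃ P : Subgroup G, IsPGroup p P ∧ x ∈ P ∧
      K ⊓ normalizer (Cfsg.thompsonSubgroupOf p S : Set G) ≤ normalizer (P : Set G)) :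
    x ∈ Cfsg.pCoreOf p K := by
  haveI := hKs
  set R := fitP p K with hR
  set O := Cfsg.pCoreOf p K with hO
  have hKR : K ≤ normalizer (R : Set G) := le_normalizer_fitP K
  set G₀ := R ⊔ S with hG₀
  have hG₀K : G₀ ≤ K := sup_le (fitP_le K) hSK
  have hSG₀ : S ≤ G₀ := le_sup_right
  have hdec : ∀ g ∈ G₀, ∃ u ∈ R, ∃ s ∈ S, u * s = g := fun g hg =>
    (Coprime.mem_sup_iff (hSK.trans hKR)).mp hg
  have hRS : ∀ {T : Subgroup G}, T ≤ R → IsPGroup p T → T ≤ O := fun h hp =>
    le_pCoreOf_of_le_fitP hp h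
  -- `S` is a Sylow subgroup of `G₀`
  have hSmax : ∀ T : Subgroup G, T ≤ G₀ → IsPGroup p T → S ≤ T → T ≤ S := by
    intro T hTG hTp hST t ht
    obtain ⟨u, hu, s, hs, rfl⟩ := hdec t (hTG ht)
    have huT : u ∈ T := by simpa using T.mul_mem ht (T.inv_mem (hST hs))
    exact mul_mem (hOS (hRS (inf_le_right : T ⊓ R ≤ R) (hTp.to_le inf_le_left) ⟨huT, hu⟩)) hs
  obtain ⟨S', hS'⟩ := (hS.comap_subtype (K := G₀)).exists_le_sylow
  have hS'map : (S' : Subgroup G₀).map G₀.subtype = S := by
    refine le_antisymm (hSmax _ (map_subtype_le _) (S'.isPGroup'.map _) ?_) ?_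
    all_goals
      intro z hz
      exact ⟨⟨z, hSG₀ hz⟩, hS' (mem_subgroupOf.mpr hz), rfl⟩
  have hpG₀ : Cfsg.pPrimeCore p G₀ = ⊥ := by
    rw [← Subgroup.map_eq_bot_iff_of_injective _ G₀.subtype_injective]
    show pPrimeOf p G₀ = ⊥
    have hOG : O ≤ G₀ := hOS.trans hSG₀
    have hc : ⁅pPrimeOf p G₀, O⁆ = ⊥ := le_bot_iff.mp <| by
      rw [← Cores.disjoint_of_isPGroup_of_coprime (H60.pCoreOf_isPGroup (p := p) K)
        (coprime_pPrimeOf G₀), inf_comm]
      exact H60.commutator_le_inf_of_le_normalizer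
        (((pPrimeOf_le G₀).trans hG₀K).trans (H60.le_normalizer_pCoreOf K))
        (hOG.trans (le_normalizer_pPrimeOf G₀))
    rw [commutator_eq_bot_iff_le_centralizer] at hc
    have hle : pPrimeOf p G₀ ≤ O := (le_inf ((pPrimeOf_le G₀).trans hG₀K) hc).trans
      (inf_centralizer_pCoreOf_le hKs hKp)
    have := Cores.disjoint_of_isPGroup_of_coprime (H60.pCoreOf_isPGroup (p := p) K)
      (coprime_pPrimeOf (p := p) G₀)
    rwa [inf_eq_right.mpr hle] at this
  by_cases hfac : Cfsg.IsThompsonFactorizable p G₀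
  · -- `G₀ = C(Ω₁Z(S)) N(J(S))`
    set Cx := Coprime.relCentralizer O (zpowers x) with hCx
    have hxK : zpowers x ≤ K := zpowers_le.mpr (hSK hx)
    have hkey : ∀ (W : Subgroup G), (∃ P : Subgroup G, IsPGroup p P ∧ x ∈ P ∧
        K ⊓ normalizer (W : Set G) ≤ normalizer (P : Set G)) → R ⊓ normalizer (W : Set G) ≤ Cx := by
      rintro W ⟨P, hPp, hxP, hPn⟩ v ⟨hvR, hvW⟩
      refine ⟨H60.le_normalizer_pCoreOf K (fitP_le K hvR), fun z hz => ?_⟩
      refine hRS (inf_le_right : P ⊓ R ≤ R) (hPp.to_le inf_le_left) ⟨?_, ?_⟩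
      · rw [commutatorElement_def]
        exact P.mul_mem (Coprime.conj_mem (hPn ⟨fitP_le K hvR, hvW⟩) (zpowers_le.mpr hxP hz))
          (P.inv_mem (zpowers_le.mpr hxP hz))
      · rw [commutatorElement_def, mul_assoc v z, mul_assoc v]
        exact mul_mem hvR (Coprime.conj_mem (hKR (hxK hz)) (inv_mem hvR))
    have hRC : R ≤ Cx := by
      intro g hg
      obtain ⟨y, hy, c, hc, n, hn, he⟩ := hfac S' ⟨g, mem_sup_left hg⟩
      rw [hpG₀, mem_bot] at hy
      subst hy
      have he' : g = (c : G) * n := by simpa using congrArg Subtype.val he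
      have hcW : (c : G) ∈ centralizer (H31.omegaZ p S : Set G) := by
        rw [mem_centralizer_iff]
        intro w hw
        have hw' : w ∈ (H31.omegaZ p (S' : Subgroup G₀)).map G₀.subtype := by
          rw [omegaZ_map_of_injective G₀.subtype_injective, hS'map]; exact hw
        obtain ⟨w', hw', rfl⟩ := hw'
        exact congrArg Subtype.val (mem_centralizer_iff.mp hc w' hw')
      have hnJ : (n : G) ∈ normalizer (Cfsg.thompsonSubgroupOf p S : Set G) := by
        refine Coprime.mem_normalizer_of_map_conj ?_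
        rw [← hS'map, ← H31.thompsonSubgroupOf_map G₀.subtype_injective, Subgroup.map_map]
        have h := congrArg (fun X => X.map G₀.subtype) (Coprime.map_conj_eq hn)
        simp only [Subgroup.map_map] at h
        exact h
      obtain ⟨u₁, hu₁, s₁, hs₁, hc₁⟩ := hdec (c : G) c.2
      obtain ⟨u₂, hu₂, s₂, hs₂, hn₂⟩ := hdec (n : G) n.2
      have hSW : S ≤ centralizer (H31.omegaZ p S : Set G) :=
        (le_centralizer_iff.mp (H31.omegaOne_le p _ |>.trans inf_le_right))
      have hu₁C : u₁ ∈ centralizer (H31.omegaZ p S : Set G) := by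
        rw [show u₁ = (c : G) * s₁⁻¹ by rw [← hc₁, mul_inv_cancel_right]]
        exact mul_mem hcW (inv_mem (hSW hs₁))
      have hSJ : S ≤ normalizer (Cfsg.thompsonSubgroupOf p S : Set G) :=
        Subgroup.le_normalizer.trans (H31.normalizer_le_normalizer_thompsonSubgroupOf p S)
      have hu₂N : u₂ ∈ normalizer (Cfsg.thompsonSubgroupOf p S : Set G) := by
        rw [show u₂ = (n : G) * s₂⁻¹ by rw [← hn₂, mul_inv_cancel_right]]
        exact mul_mem hnJ (inv_mem (hSJ hs₂))
      have hmid : s₁ * u₂ * s₁⁻¹ ∈ R ⊓ normalizer (Cfsg.thompsonSubgroupOf p S : Set G) :=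
        ⟨Coprime.conj_mem (hKR (hSK hs₁)) hu₂, (normalizer _).mul_mem ((normalizer _).mul_mem (hSJ hs₁) hu₂N) ((normalizer _).inv_mem (hSJ hs₁))⟩
      have hg' : g = u₁ * (s₁ * u₂ * s₁⁻¹) * (s₁ * s₂) := by rw [he', ← hc₁, ← hn₂]; group
      have hss : s₁ * s₂ ∈ R := by
        have : s₁ * s₂ = (u₁ * (s₁ * u₂ * s₁⁻¹))⁻¹ * g := by rw [hg']; group
        rw [this]
        exact mul_mem (inv_mem (mul_mem hu₁ hmid.1)) hg
      have hssO : s₁ * s₂ ∈ O :=
        hRS (inf_le_right : S ⊓ R ≤ R) (hS.to_le inf_le_left) ⟨mul_mem hs₁ hs₂, hss⟩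
      have hssC : s₁ * s₂ ∈ Cx := by
        have hOK := H60.le_normalizer_pCoreOf (p := p) K
        refine ⟨Subgroup.le_normalizer hssO, fun z hz => ?_⟩
        rw [commutatorElement_def, mul_assoc (s₁ * s₂) z, mul_assoc (s₁ * s₂)]
        exact mul_mem hssO (Coprime.conj_mem (hOK (hxK hz)) (inv_mem hssO))
      rw [hg']
      exact mul_mem (mul_mem (hkey _ h₁ ⟨hu₁, centralizer_le_normalizer _ hu₁C⟩)
        (hkey _ h₂ hmid)) hssC
    have h12 : ⁅R, zpowers x⁆ ≤ O := Coprime.commutator_le_of_le_relCentralizer hRC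
    have hxp : IsPGroup p (zpowers x) := hS.to_le (zpowers_le.mpr hx)
    refine le_pCoreOf_of_series hKs hxp hxK h12 ?_ (mem_zpowers x)
    exact (commutator_le.mpr fun o ho z hz => by
      rw [commutatorElement_def, mul_assoc o z, mul_assoc o]
      exact mul_mem ho (Coprime.conj_mem ((H60.le_normalizer_pCoreOf K) (hxK hz))
        (inv_mem ho))).trans le_sup_left
  · -- failure of factorization contradicts the action of `C(A)`
    exfalso
    haveI : Group.IsSolvable G₀ := Coprime.isSolvable_of_le hG₀K hKs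
    have hAG : A ≤ normalizer (G₀ : Set G) := fun a ha => Coprime.mem_normalizer_of_map_conj (by
      rw [hG₀, Subgroup.map_sup, Coprime.map_conj_eq ((hAK.trans (normalizer_le_normalizer_fitP K)) ha),
        Coprime.map_conj_eq (hAS ha)])
    exact hfac (Offender.isThompsonFactorizable hAG hA
      (fun h => hKr (h.trans (Subgroup.card_dvd_of_le hG₀K))) Cores.isPSolvable_of_isSolvable hpG₀
      hS hSG₀ (fun T hT hTp hST => hSmax T hT hTp hST) hAS
      ((inf_le_inf_right _ hG₀K).trans hCS))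

end Cfsg.Agent.Signalizer.TwoPrimes
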