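import Cfsg.Agent.Signalizer.TwoPrimesMixed
import Cfsg.Agent.Signalizer.TwoPrimesOff

/-!
The intersection `X_p` of the `O_{p',p}` of the normalizers of `Ω₁Z(Y_p)` and `J(Y_p)` lies in the
core of every maximal member of colour `p`.
-/

set_option autoImplicit false
set_option linter.unusedSectionVars false
set_option linter.style.haveILetI false

namespace Cfsg.Agent.Signalizer

open Subgroup TwoPrimes Setup
open scoped commutatorElement

universe u

variable {G : Type u} [Group G] [Finite G] {r p q : ℕ} [hr : Fact r.Prime] [Fact p.Prime]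
  [Fact q.Prime]

namespace Setup

/-- The normalizer of `Ω₁Z(Y_p)`. -/
def normZ (S : Setup G r) (p : ℕ) : Subgroup G := S.normBy (H31.omegaZ p (S.pMax p))

/-- The normalizer of `J(Y_p)`. -/
def normJ (S : Setup G r) (p : ℕ) : Subgroup G :=
  S.normBy (Cfsg.thompsonSubgroupOf p (S.pMax p))

/-- `X_p`. -/
def xCore (S : Setup G r) (p : ℕ) : Subgroup G :=
  (S.pMax p ⊓ core12 p (S.normZ p)) ⊓ core12 p (S.normJ p)

variable {S : Setup G r}

theorem inf_pPrimeOf_eq_bot_of_le {U K : Subgroup G} (hU : U ⊓ centralizer (Cfsg.pCoreOf p K : Set G) = U)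
    (hp : U ≤ Cfsg.pCoreOf p K) (hc : (Nat.card U).Coprime p) : U = ⊥ := by
  have := Cores.disjoint_of_isPGroup_of_coprime (H60.pCoreOf_isPGroup (p := p) K) hc
  rwa [inf_eq_right.mpr hp] at this

/-- `O_{p',p}(K)` is covered by `O_{p'}(K)` and its part in `Y_p`, if `T` meets `O_{p'}(K)` trivially. -/
theorem core12_le_sup (hpr : p ≠ r) {K : Subgroup G} (hK : S.IsMember K) (hT : S.T ≤ K)
    (h0 : S.T ⊓ pPrimeOf p K = ⊥) :
    core12 p K ≤ pPrimeOf p K ⊔ (S.pMax p ⊓ core12 p K) := by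
  set M := core12 p K with hM
  have hMA : S.A ≤ normalizer (M : Set G) := hK.le_normalizer.trans (normalizer_le_normalizer_core12 K)
  have hMmem : S.IsMember M := hK.of_le (core12_le K) hMA
  have hMT : S.T ≤ normalizer (M : Set G) := hT.trans (le_normalizer_core12 K)
  set C := M ⊓ centralizer (S.A : Set G) with hC
  have hCA : S.A ≤ normalizer (C : Set G) := H60.le_normalizer_inf hMA (le_normalizer_centralizer le_rfl)
  have hCp : IsPGroup p C := fun x => by
    obtain ⟨k, hk⟩ := exists_pow_mem_of_mem_core12 x.2.1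
    refine ⟨k, Subtype.ext ?_⟩
    have hxT : (x : G) ∈ S.T := hMmem.inf_centralizer_A_le x.2
    have h1 : (x : G) ^ p ^ k ∈ S.T ⊓ pPrimeOf p K := ⟨pow_mem hxT _, hk⟩
    rw [h0, mem_bot] at h1
    exact h1
  have hcop := coprime_A (S := S) hMmem.not_dvd
  obtain ⟨P₁, hCP, hP₁A⟩ := Coprime.exists_invariant_sylow_ge hMA hcop (Or.inl solvable_A) p
    (inf_le_left : C ≤ M) hCp hCA
  set P := (P₁ : Subgroup M).map M.subtype with hP
  have hPM : P ≤ M := map_subtype_le _
  have hPp : IsPGroup p P := P₁.isPGroup'.map _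
  have hPT : S.T ≤ normalizer (P : Set G) := by
    intro t ht
    refine Coprime.mem_normalizer_of_map_conj ?_
    refine eq_of_le_of_card_ge ?_ (Coprime.card_map_conj t P).ge
    set P' := P.map (MulAut.conj t).toMonoidHom with hP'
    have hP'M : P' ≤ M := (Subgroup.map_mono hPM).trans (Coprime.map_conj_eq (hMT ht)).le
    have hP'A : S.A ≤ normalizer (P' : Set G) := by
      intro a ha
      refine Coprime.mem_normalizer_of_map_conj ?_
      rw [hP', Coprime.map_conj_map_conj,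
        ((mem_centralizer_iff.mp (T_le_centralizer ht)) a ha : a * t = t * a),
        ← Coprime.map_conj_map_conj, Coprime.map_conj_eq (hP₁A ha)]
    obtain ⟨P₂, hP₂, hP₂A⟩ := Coprime.exists_invariant_sylow_ge hMA hcop (Or.inl solvable_A) p
      hP'M (hPp.map _) hP'A
    obtain ⟨c, hcA, hc⟩ := Coprime.exists_conj_invariant_sylow hMA hcop (Or.inl solvable_A) p P₂ P₁
      hP₂A hP₁A
    have hcP : (c : G) ∈ P := hCP ⟨c.2, hcA⟩
    intro x hx
    obtain ⟨y, hy, rfl⟩ := hP₂ hx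
    have hy' : c * y * c⁻¹ ∈ (P₁ : Subgroup M) := by
      rw [← hc]
      exact ⟨y, hy, rfl⟩
    have h' : (c : G) * y * (c : G)⁻¹ ∈ P := ⟨_, hy', rfl⟩
    have := P.mul_mem (P.mul_mem (P.inv_mem hcP) h') hcP
    simpa [mul_assoc] using this
  have hPY : P ≤ S.pMax p := (hMmem.of_le hPM hP₁A).le_pMax hpr hPp hPT
  refine H70.card_dvd_of_forall_sylow (sup_le (pPrimeOf_le_core12 K) inf_le_right) fun x hx hxd => ?_
  haveI := Fact.mk hx
  by_cases hxp : x = p
  · subst hxp
    exact ⟨P₁, (le_inf hPY hPM).trans le_sup_right⟩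
  · obtain ⟨Q⟩ : Nonempty (Sylow x M) := inferInstance
    refine ⟨Q, le_trans (le_pPrimeOf_of_le_core12 ?_ (map_subtype_le _)) le_sup_left⟩
    obtain ⟨n, hn⟩ := IsPGroup.iff_card.mp (Q.isPGroup'.map M.subtype)
    rw [hn]
    exact Nat.Coprime.pow_left _ ((Nat.coprime_primes hx Fact.out).mpr hxp)

/-- `O_{p'}` of a member containing the `p`-part of `O_{p',p}(K)` meets `K` inside `O_{p'}(K)`. -/
theorem pPrimeOf_inf_le (hpr : p ≠ r) {K N : Subgroup G} (hK : S.IsMember K) (hT : S.T ≤ K)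
    (h0 : S.T ⊓ pPrimeOf p K = ⊥) (hL : S.pMax p ⊓ core12 p K ≤ N) :
    pPrimeOf p N ⊓ K ≤ pPrimeOf p K := by
  set U := pPrimeOf p N ⊓ K with hU
  have hUc : (Nat.card U).Coprime p :=
    (coprime_pPrimeOf N).coprime_dvd_left (card_dvd_of_le inf_le_left)
  have hKO : K ≤ normalizer (pPrimeOf p K : Set G) := le_normalizer_pPrimeOf K
  refine le_pPrimeOf_of_series hK.solvable hUc inf_le_right (C := pPrimeOf p K) ?_ ?_
  · rw [commutator_le]
    intro x hx u hu
    obtain ⟨o, ho, l, hl, rfl⟩ := (Coprime.mem_sup_iff ((inf_le_right.trans (core12_le K)).trans hKO)).mp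
      (core12_le_sup hpr hK hT h0 hx)
    have hlK : l ∈ K := core12_le K hl.2
    have h1 : ⁅l, u⁆ ∈ pPrimeOf p K := by
      refine le_pPrimeOf_of_le_core12 (X := pPrimeOf p N ⊓ core12 p K)
        ((coprime_pPrimeOf N).coprime_dvd_left (card_dvd_of_le inf_le_left)) inf_le_right ⟨?_, ?_⟩
      · rw [commutatorElement_def]
        exact (pPrimeOf p N).mul_mem (Coprime.conj_mem (le_normalizer_pPrimeOf N (hL hl)) hu.1) ((pPrimeOf p N).inv_mem hu.1)
      · rw [commutatorElement_def, mul_assoc l u, mul_assoc l]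
        exact mul_mem hl.2 (Coprime.conj_mem (le_normalizer_core12 K hu.2) (inv_mem hl.2))
    rw [show ⁅o * l, u⁆ = o * ⁅l, u⁆ * u * o⁻¹ * u⁻¹ by simp only [commutatorElement_def]; group]
    have h2 := Coprime.conj_mem (hKO hu.2) (inv_mem ho)
    rw [show o * ⁅l, u⁆ * u * o⁻¹ * u⁻¹ = o * ⁅l, u⁆ * (u * o⁻¹ * u⁻¹) by group]
    exact mul_mem (mul_mem ho h1) h2
  · rw [commutator_le]
    intro o ho u hu
    rw [commutatorElement_def, mul_assoc o u, mul_assoc o]
    exact mul_mem ho (Coprime.conj_mem (hKO hu.2) (inv_mem ho))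

end Setup

namespace TwoColours

variable {S : Setup G r} (h : TwoColours S p q)
include h

theorem T_inf_pPrimeOf {H K : Subgroup G} (hH : S.IsHH H) (hq : Cfsg.pCoreOf q H = ⊥)
    (hOK : Cfsg.pCoreOf p H ≤ K) : S.T ⊓ pPrimeOf p K = ⊥ := by
  set U := S.T ⊓ pPrimeOf p K with hU
  have hUc : (Nat.card U).Coprime p :=
    (coprime_pPrimeOf K).coprime_dvd_left (card_dvd_of_le inf_le_right)
  have hUH : U ≤ H := inf_le_left.trans hH.T_le
  have hcen : ⁅U, Cfsg.pCoreOf p H⁆ = ⊥ := le_bot_iff.mp <| by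
    rw [← Cores.disjoint_of_isPGroup_of_coprime (H60.pCoreOf_isPGroup (p := p) H)
      (coprime_pPrimeOf K), inf_comm]
    rw [commutator_le]
    intro u hu o ho
    refine ⟨?_, ?_⟩
    · rw [commutatorElement_def, mul_assoc u o, mul_assoc u]
      exact mul_mem hu.2 (Coprime.conj_mem (le_normalizer_pPrimeOf K (hOK ho)) (inv_mem hu.2))
    · rw [commutatorElement_def]
      exact (Cfsg.pCoreOf p H).mul_mem (Coprime.conj_mem (H60.le_normalizer_pCoreOf H (hUH hu)) ho) ((Cfsg.pCoreOf p H).inv_mem ho)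
  rw [commutator_eq_bot_iff_le_centralizer] at hcen
  exact inf_pPrimeOf_eq_bot_of_le (inf_eq_left.mpr hcen)
    ((le_inf hUH hcen).trans (h.colour_inf_centralizer hH hq)) hUc

theorem pMax_ne_bot {H : Subgroup G} (hH : S.IsHH H) (hq : Cfsg.pCoreOf q H = ⊥) :
    S.pMax p ≠ ⊥ := fun e => h.colour_ne_bot hH hq
  (le_bot_iff.mp ((hH.mem.pCoreOf_le_pMax h.hpr hH.T_le_normalizer).trans e.le))

theorem pMax_le_normZ : S.pMax p ≤ S.normZ p :=
  isMember_pMax.le_normBy
    (Subgroup.le_normalizer.trans (normalizer_le_normalizer_omegaZ p (S.pMax p)))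

theorem pMax_le_normJ : S.pMax p ≤ S.normJ p :=
  isMember_pMax.le_normBy
    (Subgroup.le_normalizer.trans (H31.normalizer_le_normalizer_thompsonSubgroupOf p (S.pMax p)))

theorem T_le_normZ : S.T ≤ S.normZ p :=
  h.T_le_normBy (T_le_normalizer_pMax.trans (normalizer_le_normalizer_omegaZ p _))

theorem T_le_normJ : S.T ≤ S.normJ p :=
  h.T_le_normBy (T_le_normalizer_pMax.trans (H31.normalizer_le_normalizer_thompsonSubgroupOf p _))

theorem isMember_normZ (h0 : S.pMax p ≠ ⊥) : S.IsMember (S.normZ p) :=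
  h.min.isMember_normBy (isMember_pMax.of_le (omegaZ_le p _)
    (A_le_normalizer_pMax.trans (normalizer_le_normalizer_omegaZ p _)))
    (omegaZ_ne_bot isPGroup_pMax h0)

theorem isMember_normJ (h0 : S.pMax p ≠ ⊥) : S.IsMember (S.normJ p) :=
  h.min.isMember_normBy (isMember_pMax.of_le (H31.thompsonSubgroupOf_le p _)
    (A_le_normalizer_pMax.trans (H31.normalizer_le_normalizer_thompsonSubgroupOf p _)))
    (thompsonSubgroupOf_ne_bot isPGroup_pMax h0)

/-- One step of the induction: `x` lies in `O_{p',p}(K)`. -/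
theorem mem_core12_of_factors {H K : Subgroup G} (hH : S.IsHH H) (hq : Cfsg.pCoreOf q H = ⊥)
    (hK : S.IsMember K) (hT : S.T ≤ K) (hOK : Cfsg.pCoreOf p H ≤ K) {x : G}
    (hx : x ∈ S.pMax p ⊓ K)
    (hx₁ : x ∈ core12 p (S.normBy (H31.omegaZ p (S.pMax p ⊓ K))))
    (hx₂ : x ∈ core12 p (S.normBy (Cfsg.thompsonSubgroupOf p (S.pMax p ⊓ K)))) :
    x ∈ core12 p K := by
  set N₀ := pPrimeOf p K with hN₀
  set S₁ := S.pMax p ⊓ K with hS₁
  have hS₁p : IsPGroup p S₁ := isPGroup_pMax.to_le inf_le_left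
  have hS₁A : S.A ≤ normalizer (S₁ : Set G) :=
    Setup.le_normalizer_inf A_le_normalizer_pMax hK.le_normalizer
  have hS₁T : S.T ≤ normalizer (S₁ : Set G) :=
    H60.le_normalizer_inf T_le_normalizer_pMax (hT.trans Subgroup.le_normalizer)
  have hS₁mem : S.IsMember S₁ := hK.of_le inf_le_right hS₁A
  have hS₁0 : S₁ ≠ ⊥ := fun e => h.colour_ne_bot hH hq (le_bot_iff.mp
    ((le_inf (hH.mem.pCoreOf_le_pMax h.hpr hH.T_le_normalizer) hOK).trans e.le))
  have h0 := h.T_inf_pPrimeOf hH hq hOK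
  have hKN : K ≤ normalizer (N₀ : Set G) := le_normalizer_pPrimeOf K
  have hAN : S.A ≤ normalizer (N₀ : Set G) :=
    hK.le_normalizer.trans (normalizer_le_normalizer_pPrimeOf K)
  have hN₀K : N₀ ≤ K := pPrimeOf_le K
  have hS₁N : S₁ ≤ normalizer (N₀ : Set G) := inf_le_right.trans hKN
  -- the image of `S₁` is an isomorphic copy
  let φ : S₁ →* Quo N₀ :=
    (QuotientGroup.mk' _).comp (Subgroup.inclusion hS₁N)
  have hφ : Function.Injective φ := by
    rw [← MonoidHom.ker_eq_bot_iff, eq_bot_iff]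
    intro z hz
    have hz' : (z : G) ∈ N₀ := (cl_eq_one_iff (hS₁N z.2)).mp hz
    have hd := Cores.disjoint_of_isPGroup_of_coprime hS₁p (coprime_pPrimeOf (p := p) K)
    have : (z : G) ∈ S₁ ⊓ N₀ := ⟨z.2, hz'⟩
    rw [hd, mem_bot] at this
    exact mem_bot.mpr (Subtype.ext this)
  have hmap : ∀ X : Subgroup G, X ≤ S₁ → (X.subgroupOf S₁).map φ = im N₀ X := by
    intro X hX
    refine le_antisymm ?_ fun z hz => ?_
    · rintro _ ⟨y, hy, rfl⟩
      exact cl_mem_im (x := (y : G)) hy (hS₁N y.2)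
    · obtain ⟨y, hy, hyX, rfl⟩ := mem_im.mp hz
      exact ⟨⟨y, hX hyX⟩, hyX, rfl⟩
  have himZ : H31.omegaZ p (im N₀ S₁) = im N₀ (H31.omegaZ p S₁) := by
    rw [← hmap _ le_rfl, ← hmap _ (omegaZ_le p S₁), ← omegaZ_map_of_injective hφ, subgroupOf_self]
    congr 1
    apply map_injective S₁.subtype_injective
    rw [omegaZ_map_of_injective S₁.subtype_injective, map_subgroupOf_eq_of_le (omegaZ_le p S₁),
      ← MonoidHom.range_eq_map, range_subtype]
  have himJ : Cfsg.thompsonSubgroupOf p (im N₀ S₁) = im N₀ (Cfsg.thompsonSubgroupOf p S₁) := by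
    rw [← hmap _ le_rfl, ← hmap _ (H31.thompsonSubgroupOf_le p S₁),
      ← H31.thompsonSubgroupOf_map hφ, subgroupOf_self]
    congr 1
    apply map_injective S₁.subtype_injective
    rw [H31.thompsonSubgroupOf_map S₁.subtype_injective,
      map_subgroupOf_eq_of_le (H31.thompsonSubgroupOf_le p S₁),
      ← MonoidHom.range_eq_map, range_subtype]
  -- `O_{p'}` of the image is trivial
  have hsol : Group.IsSolvable (im N₀ K) := by
    haveI := hK.solvable
    haveI : Group.IsSolvable (K.subgroupOf (normalizer (N₀ : Set G))) :=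
      Group.isSolvable_of_isSolvable_injective (f := (subgroupOfEquivOfLe hKN).toMonoidHom)
        (subgroupOfEquivOfLe hKN).injective
    exact Coprime.isSolvable_map _ inferInstance
  have hKp : pPrimeOf p (im N₀ K) = ⊥ := by
    set Q := pPrimeOf p (im N₀ K) with hQ
    set Q₀ := (Q.comap (QuotientGroup.mk' _)).map (normalizer (N₀ : Set G)).subtype ⊓ K with hQ₀
    have hQc : (Nat.card Q₀).Coprime p := by
      refine ((Fact.out : p.Prime).coprime_iff_not_dvd.mpr fun hd => ?_).symm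
      obtain ⟨y, hy⟩ := exists_prime_orderOf_dvd_card' p hd
      obtain ⟨w, hw, hwy⟩ := y.2.1
      have hyN : (y : G) ∈ normalizer (N₀ : Set G) := hKN y.2.2
      have hcy : cl N₀ y hyN ∈ Q := by
        have : w = ⟨(y : G), hyN⟩ := Subtype.ext hwy
        rwa [this] at hw
      have hyp : (y : G) ^ p = 1 := by
        rw [← SubgroupClass.coe_pow, ← hy, pow_orderOf_eq_one, OneMemClass.coe_one]
      have h1 : cl N₀ y hyN = 1 := by
        rw [← orderOf_eq_one_iff]
        refine Nat.eq_one_of_dvd_coprimes (coprime_pPrimeOf (p := p) (im N₀ K))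
          (orderOf_dvd_natCard _ hcy) (orderOf_dvd_of_pow_eq_one ?_)
        rw [cl_pow, cl_eq_one_iff, hyp]
        exact one_mem _
      have hy0 : (y : G) ∈ N₀ := (cl_eq_one_iff hyN).mp h1
      have hy1 : (y : G) = 1 := by
        rw [← orderOf_eq_one_iff]
        exact Nat.eq_one_of_dvd_coprimes (coprime_pPrimeOf (p := p) K) (orderOf_dvd_natCard _ hy0)
          (orderOf_dvd_of_pow_eq_one hyp)
      rw [Subgroup.orderOf_coe y |>.symm, hy1, orderOf_one] at hy
      exact (Fact.out : p.Prime).ne_one hy.symm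
    have hQn : K ≤ normalizer (Q₀ : Set G) := by
      refine le_normalizer_iff.mpr fun k hk z hz => ⟨?_, K.mul_mem (K.mul_mem hk hz.2) (K.inv_mem hk)⟩
      obtain ⟨w, hw, hwz⟩ := hz.1
      refine ⟨⟨k, hKN hk⟩ * w * ⟨k, hKN hk⟩⁻¹, ?_, by simp [← hwz]⟩
      rw [SetLike.mem_coe, mem_comap, map_mul, map_mul, map_inv]
      exact Coprime.conj_mem (le_normalizer_pPrimeOf (im N₀ K) (cl_mem_im hk (hKN hk))) hw
    rw [← le_bot_iff]
    intro z hz
    obtain ⟨w, hw, hwK, rfl⟩ := mem_im.mp (pPrimeOf_le _ hz)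
    exact mem_bot.mpr ((cl_eq_one_iff hw).mpr
      (le_pPrimeOf inf_le_right hQn hQc ⟨⟨⟨w, hw⟩, hz, rfl⟩, hwK⟩))
  have hN₀p := coprime_pPrimeOf (p := p) K
  have hOS : Cfsg.pCoreOf p (im N₀ K) ≤ im N₀ S₁ := by
    intro z hz
    obtain ⟨w, hw, hwK, rfl⟩ := mem_im.mp (H60.pCoreOf_le _ hz)
    set O := (((Cfsg.pCoreOf p (im N₀ K)).comap (QuotientGroup.mk' _)).map
      (normalizer (N₀ : Set G)).subtype) ⊓ K with hO
    have hOle : O ≤ core12 p K := by
      refine le_core12 inf_le_right ?_ ?_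
      · refine le_normalizer_iff.mpr fun k hk z hz => ⟨?_, K.mul_mem (K.mul_mem hk hz.2) (K.inv_mem hk)⟩
        obtain ⟨v, hv, hvz⟩ := hz.1
        refine ⟨⟨k, hKN hk⟩ * v * ⟨k, hKN hk⟩⁻¹, ?_, by simp [← hvz]⟩
        rw [SetLike.mem_coe, mem_comap, map_mul, map_mul, map_inv]
        exact Coprime.conj_mem (H60.le_normalizer_pCoreOf (im N₀ K) (cl_mem_im hk (hKN hk))) hv
      · rintro y ⟨⟨v, hv, rfl⟩, -⟩
        obtain ⟨k, hk⟩ := H60.pCoreOf_isPGroup (im N₀ K) ⟨_, hv⟩
        have hk' : cl N₀ (v : G) v.2 ^ p ^ k = 1 := congrArg Subtype.val hk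
        rw [cl_pow, cl_eq_one_iff] at hk'
        exact ⟨k, hk'⟩
    have hwC := core12_le_sup h.hpr hK hT h0 (hOle ⟨⟨⟨w, hw⟩, hz, rfl⟩, hwK⟩)
    obtain ⟨o, ho, l, hl, e⟩ := (Coprime.mem_sup_iff
      ((inf_le_right.trans (core12_le K)).trans hKN)).mp hwC
    have hlS : l ∈ S₁ := ⟨hl.1, core12_le K hl.2⟩
    have : cl N₀ w hw = cl N₀ l (hS₁N hlS) := by
      subst e
      rw [← cl_mul (Subgroup.le_normalizer ho) (hS₁N hlS), (cl_eq_one_iff _).mpr ho, one_mul]
    rw [this]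
    exact cl_mem_im hlS _
  have hCS : im N₀ K ⊓ centralizer (im N₀ S.A : Set (Quo N₀)) ≤
      normalizer (im N₀ S₁ : Set (Quo N₀)) :=
    (inf_centralizer_im hAN hKN hN₀K hK.le_normalizer (coprime_A hK.not_dvd)
      (Or.inl solvable_A)).trans (im_le_normalizer hS₁N (inf_le_left.trans hKN)
        (hK.inf_centralizer_A_le.trans hS₁T))
  have hfac : ∀ W : Subgroup G, W ≤ S₁ → S.A ≤ normalizer (W : Set G) →
      x ∈ core12 p (S.normBy W) → S₁ ≤ normalizer (W : Set G) →
      ∃ P : Subgroup (Quo N₀), IsPGroup p P ∧ cl N₀ x (hS₁N hx) ∈ P ∧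
        im N₀ K ⊓ normalizer (im N₀ W : Set (Quo N₀)) ≤ normalizer (P : Set (Quo N₀)) := by
    intro W hW hWA hxW hS₁W
    set N' := S.normBy W with hN'
    have hS₁N' : S₁ ≤ N' := hS₁mem.le_normBy hS₁W
    refine ⟨im N₀ (core12 p N' ⊓ K), ?_, cl_mem_im (X := core12 p N' ⊓ K) ⟨hxW, hx.2⟩ _, ?_⟩
    · rintro ⟨z, hz⟩
      obtain ⟨w, hw, ⟨hwC, hwK⟩, rfl⟩ := mem_im.mp hz
      obtain ⟨k, hk⟩ := exists_pow_mem_of_mem_core12 hwC
      refine ⟨k, Subtype.ext ?_⟩
      show cl N₀ w hw ^ p ^ k = 1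
      rw [cl_pow, cl_eq_one_iff]
      exact pPrimeOf_inf_le h.hpr hK hT h0 ((inf_le_inf_left _ (core12_le K)).trans hS₁N')
        ⟨hk, pow_mem hwK _⟩
    · have hKW : K ⊓ normalizer (W : Set G) ≤ N' := (hK.of_le inf_le_left
        (Setup.le_normalizer_inf hK.le_normalizer (hWA.trans le_normalizer))).le_normBy inf_le_right
      refine (inf_normalizer_im hKN hN₀K hN₀p (hS₁p.to_le hW) (hW.trans inf_le_right)).trans
        (im_le_normalizer (inf_le_right.trans hKN) (inf_le_left.trans hKN)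
          (H60.le_normalizer_inf (hKW.trans (le_normalizer_core12 N'))
            (inf_le_left.trans Subgroup.le_normalizer)))
  have hOA : Cfsg.IsElementaryAbelian r (im N₀ S.A) := im_isElementaryAbelian S.elem
  have hres := mem_pCoreOf_of_factors (x := cl N₀ x (hS₁N hx)) hOA
    (im_le_normalizer hKN hAN hK.le_normalizer)
    (fun hd => hK.not_dvd (hd.trans (card_im_dvd K))) hsol hKp (im_isPGroup hS₁p)
    (im_mono inf_le_right) hOS (im_le_normalizer hS₁N hAN hS₁A) hCS (cl_mem_im hx _)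
    (by
      rw [himZ]
      exact hfac _ (omegaZ_le p S₁) (hS₁A.trans (normalizer_le_normalizer_omegaZ p S₁)) hx₁
        (Subgroup.le_normalizer.trans (normalizer_le_normalizer_omegaZ p S₁)))
    (by
      rw [himJ]
      exact hfac _ (H31.thompsonSubgroupOf_le p S₁)
        (hS₁A.trans (H31.normalizer_le_normalizer_thompsonSubgroupOf p S₁)) hx₂
        (Subgroup.le_normalizer.trans (H31.normalizer_le_normalizer_thompsonSubgroupOf p S₁)))
  -- pull back
  set O := (((Cfsg.pCoreOf p (im N₀ K)).comap (QuotientGroup.mk' _)).map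
    (normalizer (N₀ : Set G)).subtype) ⊓ K with hO
  refine le_core12 (M := O) inf_le_right ?_ ?_ ⟨⟨⟨x, hS₁N hx⟩, hres, rfl⟩, hx.2⟩
  · refine le_normalizer_iff.mpr fun k hk z hz => ⟨?_, K.mul_mem (K.mul_mem hk hz.2) (K.inv_mem hk)⟩
    obtain ⟨v, hv, hvz⟩ := hz.1
    refine ⟨⟨k, hKN hk⟩ * v * ⟨k, hKN hk⟩⁻¹, ?_, by simp [← hvz]⟩
    rw [SetLike.mem_coe, mem_comap, map_mul, map_mul, map_inv]
    exact Coprime.conj_mem (H60.le_normalizer_pCoreOf (im N₀ K) (cl_mem_im hk (hKN hk))) hv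
  · rintro y ⟨⟨v, hv, rfl⟩, -⟩
    obtain ⟨k, hk⟩ := H60.pCoreOf_isPGroup (im N₀ K) ⟨_, hv⟩
    have hk' : cl N₀ (v : G) v.2 ^ p ^ k = 1 := congrArg Subtype.val hk
    rw [cl_pow, cl_eq_one_iff] at hk'
    exact ⟨k, hk'⟩

theorem xCore_inf_le {H : Subgroup G} (hH : S.IsHH H) (hq : Cfsg.pCoreOf q H = ⊥) :
    ∀ (n : ℕ) (K : Subgroup G), S.IsMember K → S.T ≤ K → Cfsg.pCoreOf p H ≤ K →
      Nat.card (S.pMax p) ≤ Nat.card (S.pMax p ⊓ K : Subgroup G) + n →
      S.xCore p ⊓ K ≤ core12 p K := by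
  intro n
  induction n using Nat.strong_induction_on with
  | _ n ih =>
  intro K hK hT hOK hn x hx
  set S₁ := S.pMax p ⊓ K with hS₁
  have hxS : x ∈ S₁ := ⟨hx.1.1.1, hx.2⟩
  have hS₁A : S.A ≤ normalizer (S₁ : Set G) :=
    Setup.le_normalizer_inf A_le_normalizer_pMax hK.le_normalizer
  have hS₁T : S.T ≤ normalizer (S₁ : Set G) :=
    H60.le_normalizer_inf T_le_normalizer_pMax (hT.trans Subgroup.le_normalizer)
  have hS₁p : IsPGroup p S₁ := isPGroup_pMax.to_le inf_le_left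
  have hOS : Cfsg.pCoreOf p H ≤ S₁ := le_inf (hH.mem.pCoreOf_le_pMax h.hpr hH.T_le_normalizer) hOK
  have hS₁0 : S₁ ≠ ⊥ := fun e => h.colour_ne_bot hH hq (le_bot_iff.mp (hOS.trans e.le))
  by_cases heq : S₁ = S.pMax p
  · refine h.mem_core12_of_factors hH hq hK hT hOK hxS ?_ ?_
    · rw [← hS₁, heq]; exact hx.1.1.2
    · rw [← hS₁, heq]; exact hx.1.2
  have key : ∀ W : Subgroup G, W ≤ S₁ → W ≠ ⊥ →
      normalizer (S₁ : Set G) ≤ normalizer (W : Set G) → x ∈ core12 p (S.normBy W) := by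
    intro W hW hW0 hN
    have hWmem : S.IsMember W := hK.of_le (hW.trans inf_le_right) (hS₁A.trans hN)
    have hS₁N : S₁ ≤ S.normBy W :=
      (hK.of_le inf_le_right hS₁A).le_normBy (Subgroup.le_normalizer.trans hN)
    have hN' : S.pMax p ⊓ normalizer (S₁ : Set G) ≤ S.normBy W :=
      (isMember_pMax.of_le inf_le_left (Setup.le_normalizer_inf A_le_normalizer_pMax
        (hS₁A.trans Subgroup.le_normalizer))).le_normBy (inf_le_right.trans hN)
    have hlt : Nat.card S₁ < Nat.card (S.pMax p ⊓ S.normBy W : Subgroup G) := by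
      refine lt_of_le_of_ne (Subgroup.card_le_of_le (le_inf inf_le_left hS₁N)) fun e => heq ?_
      have he := Subgroup.eq_of_le_of_card_ge (le_inf inf_le_left hS₁N) e.ge
      exact eq_of_inf_normalizer_le isPGroup_pMax inf_le_left
        ((le_inf inf_le_left hN').trans he.ge)
    have hcard : Nat.card (S.pMax p ⊓ S.normBy W : Subgroup G) ≤ Nat.card (S.pMax p) :=
      Subgroup.card_le_of_le inf_le_left
    exact ih (Nat.card (S.pMax p) - Nat.card (S.pMax p ⊓ S.normBy W : Subgroup G))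
      (by omega) _ (h.min.isMember_normBy hWmem hW0)
      (h.T_le_normBy (hS₁T.trans hN)) (hOS.trans hS₁N) (by omega) ⟨hx.1, hS₁N hxS⟩
  exact h.mem_core12_of_factors hH hq hK hT hOK hxS
    (key _ (omegaZ_le p S₁) (omegaZ_ne_bot hS₁p hS₁0) (normalizer_le_normalizer_omegaZ p S₁))
    (key _ (H31.thompsonSubgroupOf_le p S₁) (thompsonSubgroupOf_ne_bot hS₁p hS₁0)
      (H31.normalizer_le_normalizer_thompsonSubgroupOf p S₁))

/-- `X_p` lies in the core of every maximal member of colour `p`. -/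
theorem xCore_le {H : Subgroup G} (hH : S.IsHH H) (hq : Cfsg.pCoreOf q H = ⊥) :
    S.xCore p ≤ Cfsg.pCoreOf p H := by
  set Q := Cfsg.pCoreOf p H with hQ
  set X := S.xCore p with hX
  have h0 : S.pMax p ≠ ⊥ := h.pMax_ne_bot hH hq
  have hQY : Q ≤ S.pMax p := hH.mem.pCoreOf_le_pMax h.hpr hH.T_le_normalizer
  have hXY : X ≤ S.pMax p := inf_le_left.trans inf_le_left
  have hXA : S.A ≤ normalizer (X : Set G) := Setup.le_normalizer_inf (Setup.le_normalizer_inf
      A_le_normalizer_pMax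
      ((h.isMember_normZ h0).le_normalizer.trans (normalizer_le_normalizer_core12 _)))
    ((h.isMember_normJ h0).le_normalizer.trans (normalizer_le_normalizer_core12 _))
  have hYX : S.pMax p ≤ normalizer (X : Set G) := H60.le_normalizer_inf (H60.le_normalizer_inf
      Subgroup.le_normalizer (h.pMax_le_normZ.trans (le_normalizer_core12 _)))
    (h.pMax_le_normJ.trans (le_normalizer_core12 _))
  have hH12 : core12 p H ≤ Q := by
    intro x hx
    obtain ⟨k, hk⟩ := exists_pow_mem_of_mem_core12 hx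
    have hbot := h.pPrimeOf_eq_bot hH.mem hH.T_le_normalizer hq
    refine H60.le_pCoreOf (core12_le H) (le_normalizer_core12 H) ?_ hx
    intro y
    obtain ⟨k, hk⟩ := exists_pow_mem_of_mem_core12 y.2
    rw [hbot, mem_bot] at hk
    exact ⟨k, Subtype.ext hk⟩
  have hXH : X ⊓ H ≤ Q := le_trans
    (h.xCore_inf_le hH hq _ H hH.mem hH.T_le (H60.pCoreOf_le H) (Nat.le_add_left _ _)) hH12
  have hQX : Q ≤ normalizer (X : Set G) := hQY.trans hYX
  have hW : Q = Q ⊔ X := by
    refine eq_of_inf_normalizer_le (isPGroup_pMax.to_le (sup_le hQY hXY)) le_sup_left ?_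
    intro z hz
    have hzH : z ∈ H := by
      refine h.le_of_normal_core hH (h.colour_ne_bot hH hq) (isMember_pMax.of_le
        (inf_le_left.trans (sup_le hQY hXY)) (Setup.le_normalizer_inf ?_
          ((hH.mem.isMember_pCoreOf p).le_normalizer.trans Subgroup.le_normalizer)))
        inf_le_right hz
      exact (le_inf (hH.mem.isMember_pCoreOf p).le_normalizer hXA).trans
        inf_normalizer_le_normalizer_join
    obtain ⟨u, hu, v, hv, rfl⟩ := (Coprime.mem_sup_iff hQX).mp (sup_comm Q X ▸ hz.1)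
    refine mul_mem (hXH ⟨hu, ?_⟩) hv
    simpa using H.mul_mem hzH (H.inv_mem (H60.pCoreOf_le H hv))
  exact le_sup_right.trans hW.ge

end TwoColours

end Cfsg.Agent.Signalizer
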