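import Cfsg.Agent.Signalizer.TwoPrimesCores

/-!
Two criteria to lie in `O_{p',p}(K)` for a subgroup of a solvable group `K`.
-/

set_option autoImplicit false
set_option linter.unusedSectionVars false
set_option linter.style.haveILetI false

namespace Cfsg.Agent.Signalizer.TwoPrimes

open Subgroup
open scoped commutatorElement

universe u

variable {G : Type u} [Group G] [Finite G] {p r : ℕ} [Fact p.Prime] [Fact r.Prime]

/-- A subgroup centralizing `O_{p',p}(K) / O_{p'}(K)` lies in `O_{p',p}(K)`. -/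
theorem le_core12_of_centralizes {K U : Subgroup G} (hs : Group.IsSolvable K) (hUK : U ≤ K)
    (h : ⁅core12 p K, U⁆ ≤ pPrimeOf p K) : U ≤ core12 p K := by
  haveI := hs
  set f := QuotientGroup.mk' (Cfsg.pPrimeCore p K) with hf
  set V := Cfsg.pCore p (K ⧸ Cfsg.pPrimeCore p K) with hV
  have hVimg : V = ((core12 p K).subgroupOf K).map f := by
    rw [core12, subgroupOf_map_subtype_self, Cfsg.pPrimePCore,
      map_comap_eq_self_of_surjective (QuotientGroup.mk'_surjective _)]
  have h1 : ⁅V, (U.subgroupOf K).map f⁆ = ⊥ := le_bot_iff.mp <| by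
    rw [hVimg, map_subgroupOf_commutator f (core12_le K) hUK, Subgroup.map_le_iff_le_comap,
      MonoidHom.comap_bot, hf, QuotientGroup.ker_mk']
    exact fun x hx => (mk_mem_map x.2).mp (h (mem_subgroupOf.mp hx))
  rw [commutator_eq_bot_iff_le_centralizer, le_centralizer_iff] at h1
  have h2 : (U.subgroupOf K).map f ≤ V := h1.trans
    (Cores.centralizer_pCore_le Cores.isPSolvable_of_isSolvable Cores.pPrimeCore_quotient_pPrimeCore)
  intro x hx
  refine (mk_mem_map (hUK hx)).mpr ?_
  rw [Cfsg.pPrimePCore, mem_comap]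
  exact h2 (mem_map_of_mem f (mem_subgroupOf.mpr hx))

/-- The quotient by `O_{p',p}(K)` has no normal `p`-subgroup. -/
theorem pCoreOf_im_core12_eq_bot (K : Subgroup G) :
    Cfsg.pCoreOf p (im (core12 p K) K) = ⊥ := by
  set C := core12 p K with hC
  have hKC : K ≤ normalizer (C : Set G) := le_normalizer_core12 K
  set O := (((Cfsg.pCoreOf p (im C K)).comap (QuotientGroup.mk' _)).map
    (normalizer (C : Set G)).subtype) ⊓ K with hO
  have hOle : O ≤ C := by
    refine le_core12 inf_le_right ?_ ?_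
    · refine le_normalizer_iff.mpr fun k hk z hz => ⟨?_, K.mul_mem (K.mul_mem hk hz.2) (K.inv_mem hk)⟩
      obtain ⟨v, hv, hvz⟩ := hz.1
      refine ⟨⟨k, hKC hk⟩ * v * ⟨k, hKC hk⟩⁻¹, ?_, by simp [← hvz]⟩
      rw [SetLike.mem_coe, mem_comap, map_mul, map_mul, map_inv]
      exact Coprime.conj_mem (H60.le_normalizer_pCoreOf (im C K) (cl_mem_im hk (hKC hk))) hv
    · rintro y ⟨⟨v, hv, rfl⟩, -⟩
      obtain ⟨k, hk⟩ := H60.pCoreOf_isPGroup (im C K) ⟨_, hv⟩
      have hk' : cl C (v : G) v.2 ^ p ^ k = 1 := congrArg Subtype.val hk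
      rw [cl_pow, cl_eq_one_iff] at hk'
      obtain ⟨j, hj⟩ := exists_pow_mem_of_mem_core12 hk'
      refine ⟨k + j, ?_⟩
      rwa [pow_add, pow_mul]
  rw [← le_bot_iff]
  intro z hz
  obtain ⟨w, hw, hwK, rfl⟩ := mem_im.mp (H60.pCoreOf_le _ hz)
  exact mem_bot.mpr ((cl_eq_one_iff hw).mpr (hOle ⟨⟨⟨w, hw⟩, hz, rfl⟩, hwK⟩))

/-- In `im N K` the Fitting subgroup, inside the ambient quotient. -/
theorem exists_fit {X : Type u} [Group X] [Finite X] {K : Subgroup X} (hs : Group.IsSolvable K)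
    (hp : Cfsg.pCoreOf p K = ⊥) :
    ∃ V : Subgroup X, V ≤ K ∧ Group.IsNilpotent V ∧ (Nat.card V).Coprime p ∧
      normalizer (K : Set X) ≤ normalizer (V : Set X) ∧ K ⊓ centralizer (V : Set X) ≤ V := by
  haveI := hs
  set F := Cfsg.fittingSubgroup K with hF
  have hp' : Cfsg.pCore p K = ⊥ :=
    (Subgroup.map_eq_bot_iff_of_injective _ K.subtype_injective).mp hp
  refine ⟨F.map K.subtype, map_subtype_le _, ?_, ?_, normalizer_le_normalizer_map F, ?_⟩
  · haveI : Group.IsNilpotent F := Cores.fittingSubgroup_isNilpotent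
    exact Group.nilpotent_of_mulEquiv (F.equivMapOfInjective K.subtype K.subtype_injective)
  · rw [card_map_of_injective K.subtype_injective]
    refine Cores.coprime_card_pPrimeCore.coprime_dvd_left (card_dvd_of_le ?_)
    have h := Cores.iSup_pCore_le_sup (G := K) p
    rwa [hp', sup_bot_eq, ← Cores.iSup_pCore_eq_fittingSubgroup] at h
  · rintro x ⟨hxK, hxC⟩
    refine ⟨⟨x, hxK⟩, Cores.centralizer_fittingSubgroup_le (mem_centralizer_iff.mpr fun f hf => ?_),
      rfl⟩
    exact Subtype.ext (mem_centralizer_iff.mp hxC (f : X) (mem_map_of_mem K.subtype hf))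

/-- An abelian `p`-subgroup `X = [X, a]` lies in `O_{p',p}(K)` if the commutators of `C_K(a)` with it
lie in a subgroup `Σ` whose `p'`-subgroups in `K` lie in `O_{p'}(K)`. -/
theorem le_core12_of_fixed (hpr : p ≠ r) {K X B : Subgroup G} (hs : Group.IsSolvable K)
    (hKr : ¬ r ∣ Nat.card K) {a : G} (ha : a ^ r = 1) (haK : a ∈ normalizer (K : Set G))
    (hX : IsPGroup p X) (hXc : IsMulCommutative X) (hXK : X ≤ K)
    (haX : a ∈ normalizer (X : Set G)) (hXa : X ≤ ⁅X, zpowers a⁆)
    (hB : ∀ u ∈ K, u * a = a * u → ∀ x ∈ X, ⁅u, x⁆ ∈ B)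
    (hBp : ∀ Y : Subgroup G, Y ≤ B ⊓ K → (Nat.card Y).Coprime p → Y ≤ pPrimeOf p K) :
    X ≤ core12 p K := by
  set C := core12 p K with hC
  have hKC : K ≤ normalizer (C : Set G) := le_normalizer_core12 K
  have haC : zpowers a ≤ normalizer (C : Set G) :=
    zpowers_le.mpr (normalizer_le_normalizer_core12 K haK)
  have hCK : C ≤ K := core12_le K
  have hXC : X ≤ normalizer (C : Set G) := hXK.trans hKC
  have hK'cop : (Nat.card (im C K)).Coprime r :=
    ((Fact.out : r.Prime).coprime_iff_not_dvd.mpr fun hd => hKr (hd.trans (card_im_dvd K))).symm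
  have hsol : Group.IsSolvable (im C K) := by
    haveI := hs
    haveI : Group.IsSolvable (K.subgroupOf (normalizer (C : Set G))) :=
      Group.isSolvable_of_isSolvable_injective (f := (subgroupOfEquivOfLe hKC).toMonoidHom)
        (subgroupOfEquivOfLe hKC).injective
    exact Coprime.isSolvable_map _ inferInstance
  obtain ⟨V, hVK, hVn, hVp, hVN, hVC⟩ := exists_fit hsol (pCoreOf_im_core12_eq_bot (p := p) K)
  set a' := cl C a (haC (mem_zpowers a)) with ha'
  have ha'im : a' ∈ im C (zpowers a) := cl_mem_im (mem_zpowers a) _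
  have hzK : zpowers a ≤ normalizer (K : Set G) := zpowers_le.mpr haK
  have ha'V : a' ∈ normalizer (V : Set (Quo C)) :=
    hVN (im_le_normalizer hKC haC hzK ha'im)
  have hX'K : im C X ≤ im C K := im_mono hXK
  have hX'V : im C X ≤ normalizer (V : Set (Quo C)) := hX'K.trans (Subgroup.le_normalizer.trans hVN)
  have hcop : (Nat.card (zpowers a)).Coprime (Nat.card K) := by
    rw [Nat.card_zpowers]
    exact Nat.Coprime.coprime_dvd_left (orderOf_dvd_of_pow_eq_one ha)
      ((Fact.out : r.Prime).coprime_iff_not_dvd.mpr hKr)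
  have hza : im C (zpowers a) ≤ zpowers a' := by
    intro z hz
    obtain ⟨x, hx, hxa, rfl⟩ := mem_im.mp hz
    obtain ⟨i, rfl⟩ := hxa
    exact ⟨i, (map_zpow (QuotientGroup.mk' (C.subgroupOf (normalizer (C : Set G))))
      ⟨a, haC (mem_zpowers a)⟩ i).symm⟩
  have hfix : V ⊓ centralizer {a'} ≤ centralizer (im C X : Set (Quo C)) := by
    rintro z ⟨hzV, hza'⟩
    have hz1 : z ∈ im C K ⊓ centralizer (im C (zpowers a) : Set (Quo C)) :=
      ⟨hVK hzV, centralizer_le (SetLike.coe_subset_coe.mpr hza)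
        (by rwa [H42.centralizer_zpowers'])⟩
    obtain ⟨u, hu, hu', rfl⟩ := mem_im.mp
      (inf_centralizer_im haC hKC hCK hzK hcop (Or.inl (Coprime.isSolvable_zpowers a)) hz1)
    refine mem_centralizer_iff.mpr fun w hw => ?_
    obtain ⟨x, hx, hxX, rfl⟩ := mem_im.mp hw
    set y := ⁅u, x⁆ with hy
    have hyB : y ∈ B := hB u hu'.1
      (mem_centralizer_iff.mp hu'.2 a (mem_zpowers a)).symm x hxX
    have hyK : y ∈ K := commutator_le_of_le le_rfl hXK (commutator_mem_commutator hu'.1 hxX)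
    have hyV : cl C y (hKC hyK) ∈ V := by
      have h1 : cl C x hx * (cl C u hu)⁻¹ * (cl C x hx)⁻¹ ∈ V :=
        Coprime.conj_mem (hX'V (cl_mem_im hxX hx)) (inv_mem hzV)
      have h2 := mul_mem hzV h1
      have e : cl C y (hKC hyK) = cl C u hu * (cl C x hx * (cl C u hu)⁻¹ * (cl C x hx)⁻¹) := by
        rw [show cl C u hu * (cl C x hx * (cl C u hu)⁻¹ * (cl C x hx)⁻¹) =
          ⁅cl C u hu, cl C x hx⁆ by simp only [commutatorElement_def]; group]
        rfl
      rwa [e]
    -- the `p'`-part of `y` lies in `O_{p'}`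
    set k := (orderOf y).factorization p with hk
    have hdvd : p ^ k ∣ orderOf y := Nat.ordProj_dvd _ _
    have hco : (Nat.card (zpowers (y ^ p ^ k))).Coprime p := by
      rw [Nat.card_zpowers, orderOf_pow_of_dvd (pow_ne_zero _ (Fact.out : p.Prime).ne_zero) hdvd]
      exact (Nat.coprime_ordCompl Fact.out (orderOf_pos y).ne').symm
    have hyC : y ^ p ^ k ∈ C := pPrimeOf_le_core12 K
      (hBp _ (zpowers_le.mpr (pow_mem (⟨hyB, hyK⟩ : y ∈ B ⊓ K) _)) hco (mem_zpowers _))
    have hy1 : cl C y (hKC hyK) = 1 := by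
      rw [← orderOf_eq_one_iff]
      refine Nat.eq_one_of_dvd_coprimes (hVp.pow_right k) (orderOf_dvd_natCard V hyV)
        (orderOf_dvd_of_pow_eq_one ?_)
      rw [cl_pow, cl_eq_one_iff]
      exact hyC
    have hcomm : ⁅cl C u hu, cl C x hx⁆ = 1 := hy1
    exact (commutatorElement_eq_one_iff_mul_comm.mp hcomm).symm
  have hcent := le_centralizer_of_fixed_nilpotent (p := p) (r := r) hpr (im_isPGroup hX)
    (im_isMulCommutative hXc) hVn hVp (hK'cop.coprime_dvd_left (card_dvd_of_le hVK))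
    (a := a') (by rw [ha', cl_pow, cl_eq_one_iff, ha]; exact one_mem C)
    (im_le_normalizer hXC haC (zpowers_le.mpr haX) ha'im) ha'V hX'V
    ((im_mono hXa).trans (by
      rw [im_commutator hXC haC]
      exact commutator_mono le_rfl hza)) hfix
  have hle : im C X ≤ V := (le_inf hX'K hcent).trans hVC
  have hbot : im C X = ⊥ := by
    have := Cores.disjoint_of_isPGroup_of_coprime (im_isPGroup (N := C) hX) hVp
    rwa [inf_eq_left.mpr hle] at this
  exact (im_eq_bot_iff hXC).mp hbot

end Cfsg.Agent.Signalizer.TwoPrimes
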