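import Cfsg.Agent.Signalizer.TwoPrimesStep
import Cfsg.Agent.Signalizer.TwoPrimesLift
import Cfsg.Agent.Signalizer.Induction

/-!
The end of the two-prime case.
-/

set_option autoImplicit false
set_option linter.unusedSectionVars false
set_option linter.style.haveILetI false

namespace Cfsg.Agent.Signalizer

open Subgroup TwoPrimes Setup
open scoped commutatorElement

universe u

variable {G : Type u} [Group G] [Finite G] {r p q : ℕ} [hr : Fact r.Prime] [Fact p.Prime]
  [Fact q.Prime]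

namespace Setup

variable {S : Setup G r}

/-- The line parts cannot all normalize one nontrivial member. -/
theorem Minimal.false_of_normalizes (hS : S.Minimal) {Y : Subgroup G} (hY : S.IsMember Y)
    (hY0 : Y ≠ ⊥) {b : G} (hb : b ∈ S.A) (hb1 : b ≠ 1)
    (h : ∀ D, S.IsLine D → b ∉ D → S.C D ≤ normalizer (Y : Set G)) : False := by
  have hL := hS.isMember_normBy hY hY0
  refine hS.not_commutators_le hb hb1 hL fun D hD hbD x hx => ?_
  have hxL : x ∈ S.normBy Y := (isMember_C hD).le_normBy (h D hD hbD) hx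
  rw [commutatorElement_def, mul_assoc x b, mul_assoc x]
  exact mul_mem hxL (Coprime.conj_mem (hL.le_normalizer hb) (inv_mem hxL))

end Setup

namespace TwoColours

variable {S : Setup G r} (h : TwoColours S p q)
include h

theorem exists_hh_of_incapable {x : G} (hx : x ∈ S.A) (h1 : x ≠ 1) (hinc : ¬ S.Capable q x) :
    ∃ H, S.IsHH H ∧ S.θ x ≤ H ∧ Cfsg.pCoreOf p H = ⊥ := by
  obtain ⟨H, hH, hle⟩ := exists_isHH_theta hx h1
  exact ⟨H, hH, hle, (h.colour_or hH).resolve_right fun e => hinc ⟨H, hH, hle, e⟩⟩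

theorem capable_or {x : G} (hx : x ∈ S.A) (h1 : x ≠ 1) : S.Capable q x ∨ S.Capable p x := by
  by_cases hc : S.Capable q x
  · exact Or.inl hc
  · exact Or.inr (h.exists_hh_of_incapable hx h1 hc)

theorem yTwo_ne_bot (hcap : ∀ D, S.IsLine D → ∃ c ∈ D, c ≠ 1 ∧ S.Capable q c) :
    S.yTwo p ≠ ⊥ := by
  obtain ⟨a, ha, _⟩ := exists_ne_one (S := S)
  obtain ⟨D, hD, _⟩ := exists_line_through ha
  obtain ⟨c, _, _, H, hH, _, hq⟩ := hcap D hD
  intro e
  refine omegaZ_ne_bot isPGroup_pMax (h.pMax_ne_bot hH hq) (le_bot_iff.mp ?_)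
  refine le_trans ?_ ((h.centre_le_yTwo hcap).trans e.le)
  exact (H31.omegaOne_le p _)

theorem step_of_single {D : Subgroup G} (hD : S.IsLine D) {m : G} (hm : m ∈ D) (hm1 : m ≠ 1)
    (hminc : ¬ S.Capable q m)
    (huniq : ∀ x ∈ D, x ≠ 1 → ¬ S.Capable q x → x ∈ zpowers m) :
    S.C D ≤ normalizer (S.yTwo p : Set G) := by
  have hmA := hD.1 hm
  have hZ : zpowers m ≤ S.A := zpowers_le.mpr hmA
  have hmr : Nat.card (zpowers m) = r := by
    rw [Nat.card_zpowers]; exact orderOf_eq_prime (S.elem.2 m hmA) hm1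
  refine h.step_of_auxiliary hD (Z := zpowers m) (hZ.trans A_le_centralizer_A) ?_
    (hZ.trans A_le_normalizer_yTwo) ?_
    (fun a ha ha1 => hZ.trans (isMember_theta ha ha1).le_normalizer) ?_ ?_
  · rw [hmr]; exact (Nat.coprime_primes hr.out Fact.out).mpr h.hpr.symm
  · rw [H42.centralizer_zpowers']
    exact h.yTwo_inf_centralizer_eq_bot hmA hm1 hminc
  · intro g hg
    refine ⟨g, fun w hw => ?_, 1, one_mem _, (mul_one g).symm⟩
    exact (mem_centralizer_iff.mp (C_le_centralizer hD.1 hg) w (zpowers_le.mpr hm hw)).symm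
  · intro m' hm' hm'1 hinc' D' hD' hm'D'
    have hmD' : zpowers m ≤ D' :=
      le_of_prime_card hmr (huniq m' hm' hm'1 hinc') hm'D' hm'1
    exact (Coprime.commutator_le_left_of_normalizer (le_normalizer_C hD'.1)).trans
      ((C_le_centralizer hD'.1).trans (centralizer_le (SetLike.coe_subset_coe.mpr hmD')))

/-- The incapable points do not all lie in one line. -/
theorem exists_incapable_off (hcap : ∀ D, S.IsLine D → ∃ c ∈ D, c ≠ 1 ∧ S.Capable q c)
    {F : Subgroup G} (hF : S.IsLine F) : ∃ m ∈ S.A, m ≠ 1 ∧ ¬ S.Capable q m ∧ m ∉ F := by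
  by_contra hc
  push Not at hc
  obtain ⟨b, hb, hb1⟩ := hF.exists_ne_one
  refine h.min.false_of_normalizes isMember_yTwo (h.yTwo_ne_bot hcap) (hF.1 hb) hb1
    fun D hD hbD => ?_
  by_cases hall : ∀ f ∈ D, f ≠ 1 → S.Capable q f
  · exact h.step_of_capable hD hall
  push Not at hall
  obtain ⟨m, hm, hm1, hminc⟩ := hall
  have hmF : m ∈ F := hc m (hD.1 hm) hm1 hminc
  refine h.step_of_single hD hm hm1 hminc fun x hx hx1 hxinc => ?_
  have hxF : x ∈ F := hc x (hD.1 hx) hx1 hxinc
  by_contra hxm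
  have hcard : r ∣ Nat.card (zpowers m) ∧ Nat.card (zpowers m) = r := by
    rw [Nat.card_zpowers, orderOf_eq_prime (S.elem.2 m (hD.1 hm)) hm1]
    exact ⟨dvd_rfl, rfl⟩
  have hlt : Nat.card (zpowers m) < Nat.card (D ⊓ F : Subgroup G) := by
    refine lt_of_le_of_ne (Subgroup.card_le_of_le (zpowers_le.mpr ⟨hm, hmF⟩)) fun e => hxm ?_
    rw [Subgroup.eq_of_le_of_card_ge (zpowers_le.mpr (⟨hm, hmF⟩ : m ∈ D ⊓ F)) e.ge]
    exact ⟨hx, hxF⟩
  obtain ⟨i, hi, hci⟩ := (Nat.dvd_prime_pow hr.out).mp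
    (hD.2 ▸ card_dvd_of_le (inf_le_left : D ⊓ F ≤ D) : Nat.card (D ⊓ F : Subgroup G) ∣ r ^ 2)
  rw [hcard.2, hci] at hlt
  have hi2 : i = 2 := by
    by_contra hne
    have : i ≤ 1 := by omega
    have := Nat.pow_le_pow_right hr.out.pos this
    simp only [pow_one] at this
    omega
  subst hi2
  have hDF : D ⊓ F = D := Subgroup.eq_of_le_of_card_ge inf_le_left (by rw [hci, hD.2])
  have hle : D ≤ F := inf_eq_left.mp hDF
  exact hbD ((Subgroup.eq_of_le_of_card_ge hle (by rw [hD.2, hF.2])).symm ▸ hb)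

section CaseB

variable (hcap : ∀ D, S.IsLine D → ∃ c ∈ D, c ≠ 1 ∧ S.Capable q c)
include hcap

/-- Abelian invariant subgroups of all cores of colour `q` lie in `T`. -/
theorem le_T_of_le_cores {W : Subgroup G} (hWA : S.A ≤ normalizer (W : Set G))
    (hWc : IsMulCommutative W)
    (hW : ∀ H, S.IsHH H → Cfsg.pCoreOf p H = ⊥ → W ≤ Cfsg.pCoreOf q H) : W ≤ S.T := by
  obtain ⟨a, ha, _⟩ := exists_ne_one (S := S)
  obtain ⟨D₀, hD₀, _⟩ := exists_line_through ha
  obtain ⟨m₀, hm₀, hm₀1, hm₀inc, _⟩ := h.exists_incapable_off hcap hD₀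
  obtain ⟨H₀, hH₀, _, hp₀⟩ := h.exists_hh_of_incapable hm₀ hm₀1 hm₀inc
  have hWmem : S.IsMember W := (hH₀.mem.isMember_pCoreOf q).of_le (hW H₀ hH₀ hp₀) hWA
  have hWq : IsPGroup q W := (H60.pCoreOf_isPGroup H₀).to_le (hW H₀ hH₀ hp₀)
  refine le_of_lines hWmem.not_dvd hWA fun E hE => ?_
  set WE := W ⊓ centralizer (E : Set G) with hWE
  have hWEA : S.A ≤ normalizer (WE : Set G) :=
    Setup.le_normalizer_inf hWA (le_normalizer_centralizer hE.1)
  have hWEmem : S.IsMember WE := hWmem.of_le inf_le_left hWEA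
  have hWEq : IsPGroup q WE := hWq.to_le inf_le_left
  haveI := hWc
  haveI : IsMulCommutative WE := .of_setLike_mul_comm fun x hx y hy =>
    setLike_mul_comm (s := W) hx.1 hy.1
  have hcopA := coprime_A (S := S) hWEmem.not_dvd
  rw [← Coprime.commutator_sup_centralizer hWEA hcopA (Or.inl solvable_A), sup_le_iff]
  refine ⟨?_, hWEmem.inf_centralizer_A_le⟩
  obtain ⟨d, hd, hd1, M, hM, hθM, hqM⟩ := hcap E hE
  obtain ⟨m, hm, hm1, hminc, hmE⟩ := h.exists_incapable_off hcap hE
  obtain ⟨Hm, hHm, hθm, hpm⟩ := h.exists_hh_of_incapable hm hm1 hminc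
  set P := ⁅WE, zpowers m⁆ with hP
  have hmZ : zpowers m ≤ S.A := zpowers_le.mpr hm
  have hPWE : P ≤ WE := Coprime.commutator_le_left_of_normalizer (hmZ.trans hWEA)
  have hWEm : ⁅WE, S.A⁆ ≤ P := by
    rw [← hE.sup_zpowers hm hmE, commutator_le]
    intro x hx b hb
    obtain ⟨e, he, z, hz, rfl⟩ := (Coprime.mem_sup_iff
      ((hmZ.trans A_le_centralizer_A).trans ((centralizer_le (SetLike.coe_subset_coe.mpr hE.1)).trans
        (centralizer_le_normalizer _)))).mp hb
    have hc := mem_centralizer_iff.mp hx.2 e he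
    have hk : ⁅x, z⁆ ∈ P := commutator_mem_commutator hx hz
    have hc2 := mem_centralizer_iff.mp (hPWE hk).2 e he
    have h1 : ⁅x, e⁆ = 1 := commutatorElement_eq_one_iff_mul_comm.mpr hc.symm
    rw [commutatorElement_mul_right_eq_mul_conj, h1, one_mul, hc2, mul_inv_cancel_right]
    exact hk
  suffices hbot : P = ⊥ from (hWEm.trans hbot.le).trans bot_le
  have hcopm : (Nat.card (zpowers m)).Coprime (Nat.card WE) :=
    hcopA.coprime_dvd_left (card_dvd_of_le hmZ)
  haveI : Group.IsSolvable (zpowers m) := Coprime.isSolvable_zpowers m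
  have hPa : P ≤ ⁅P, zpowers m⁆ :=
    (Coprime.commutator_commutator_eq (hmZ.trans hWEA) hcopm (Or.inl inferInstance)).ge
  have hPc : IsMulCommutative P := .of_setLike_mul_comm fun x hx y hy =>
    setLike_mul_comm (s := W) (hPWE hx).1 (hPWE hy).1
  have hPM : P ≤ M := hPWE.trans ((hWmem.inf_centralizer_le_C hE.1).trans ((C_le hd hd1).trans hθM))
  have hPQ : P ≤ Cfsg.pCoreOf q Hm := (hPWE.trans inf_le_left).trans (hW Hm hHm hpm)
  set V := Cfsg.pCoreOf p M with hV
  have hPV : P ≤ normalizer (V : Set G) := hPM.trans (H60.le_normalizer_pCoreOf M)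
  have hfix : V ⊓ centralizer {m} ≤ centralizer (P : Set G) := by
    rw [← commutator_eq_bot_iff_le_centralizer, ← le_bot_iff,
      ← Coprime.inf_eq_bot (coprime_of_isPGroup h.hpq (H60.pCoreOf_isPGroup (p := p) M)
        (H60.pCoreOf_isPGroup (p := q) Hm)), commutator_le]
    intro x hx y hy
    have hxH : x ∈ Hm := hθm ((hM.mem.isMember_pCoreOf p).inf_centralizer_le hm hm1 hx)
    refine ⟨?_, ?_⟩
    · rw [commutatorElement_def, mul_assoc x y, mul_assoc x]
      exact mul_mem hx.1 (Coprime.conj_mem (hPV hy) (inv_mem hx.1))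
    · rw [commutatorElement_def]
      exact (Cfsg.pCoreOf q Hm).mul_mem (Coprime.conj_mem (H60.le_normalizer_pCoreOf Hm hxH) (hPQ hy))
        ((Cfsg.pCoreOf q Hm).inv_mem (hPQ hy))
  have hcent := le_centralizer_of_fixed h.hpq.symm h.hqr h.hpr (hWEq.to_le hPWE) hPc
    (H60.pCoreOf_isPGroup (p := p) M) (a := m) (S.elem.2 m hm)
    (Coprime.mem_normalizer_commutator (hWEA hm) (Subgroup.le_normalizer (mem_zpowers m)))
    ((hM.mem.isMember_pCoreOf p).le_normalizer hm) hPV hPa hfix
  have hPle : P ≤ V := (le_inf hPM hcent).trans (h.colour_inf_centralizer hM hqM)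
  have := Coprime.inf_eq_bot (coprime_of_isPGroup h.hpq (H60.pCoreOf_isPGroup (p := p) M)
    (hWEq.to_le hPWE))
  rwa [inf_eq_right.mpr hPle] at this

theorem omegaZ_le_pCoreOf {H : Subgroup G} (hH : S.IsHH H) (hp : Cfsg.pCoreOf p H = ⊥) :
    H31.omegaZ q (S.pMax q) ≤ Cfsg.pCoreOf q H := by
  have g := h.symm
  have hmem : S.IsMember (H31.omegaZ q (S.pMax q)) := isMember_pMax.of_le (omegaZ_le q _)
    (A_le_normalizer_pMax.trans (normalizer_le_normalizer_omegaZ q _))
  have hc : H31.omegaZ q (S.pMax q) ≤ centralizer (Cfsg.pCoreOf q H : Set G) :=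
    ((H31.omegaOne_le q _).trans inf_le_right).trans
      (centralizer_le (hH.mem.pCoreOf_le_pMax h.hqr hH.T_le_normalizer))
  exact (le_inf (g.le_of_normal_core hH (g.colour_ne_bot hH hp) hmem
    (hc.trans (centralizer_le_normalizer _))) hc).trans (g.colour_inf_centralizer hH hp)

theorem omegaZ_le_T : H31.omegaZ q (S.pMax q) ≤ S.T := by
  refine h.le_T_of_le_cores hcap
    (A_le_normalizer_pMax.trans (normalizer_le_normalizer_omegaZ q _)) ?_
    fun H hH hp => h.omegaZ_le_pCoreOf hcap hH hp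
  haveI := TwoPrimes.centre_isMulCommutative (S.pMax q)
  exact .of_setLike_mul_comm fun x hx y hy => setLike_mul_comm
    (S := Subgroup G) (s := S.pMax q ⊓ centralizer (S.pMax q : Set G))
    (H31.omegaOne_le q _ hx) (H31.omegaOne_le q _ hy)

/-- The centre of the `p`-part of the core of `N(J)` lies in `T`. -/
theorem centre_core_le_T {H : Subgroup G} (hH : S.IsHH H) (hp : Cfsg.pCoreOf p H = ⊥) :
    (S.pMax q ⊓ core12 q (S.normJ q)) ⊓
      centralizer ((S.pMax q ⊓ core12 q (S.normJ q) : Subgroup G) : Set G) ≤ S.T := by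
  have g := h.symm
  have h0 : S.pMax q ≠ ⊥ := g.pMax_ne_bot hH hp
  set N := S.normZ q with hN
  set MJ := S.normJ q with hMJ
  set LJ := S.pMax q ⊓ core12 q MJ with hLJ
  set V := LJ ⊓ centralizer (LJ : Set G) with hV
  set LN := S.pMax q ⊓ core12 q N with hLN
  have hNmem : S.IsMember N := g.isMember_normZ h0
  have hMJmem : S.IsMember MJ := g.isMember_normJ h0
  have hYN : S.pMax q ≤ N := g.pMax_le_normZ
  have hYMJ : S.pMax q ≤ MJ := g.pMax_le_normJ
  have hLJA : S.A ≤ normalizer (LJ : Set G) := Setup.le_normalizer_inf A_le_normalizer_pMax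
    (hMJmem.le_normalizer.trans (normalizer_le_normalizer_core12 MJ))
  have hVA : S.A ≤ normalizer (V : Set G) := TwoPrimes.le_normalizer_inf_centralizer hLJA
  have hVY : S.pMax q ≤ normalizer (V : Set G) := TwoPrimes.le_normalizer_inf_centralizer
    (H60.le_normalizer_inf Subgroup.le_normalizer (hYMJ.trans (le_normalizer_core12 MJ)))
  have hVle : V ≤ S.pMax q := inf_le_left.trans inf_le_left
  have hVmem : S.IsMember V := isMember_pMax.of_le hVle hVA
  have hVq : IsPGroup q V := isPGroup_pMax.to_le hVle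
  haveI hVc : IsMulCommutative V := TwoPrimes.centre_isMulCommutative LJ
  set C := core12 q N with hC
  set O := pPrimeOf q N with hO
  set W₀ := V ⊓ C with hW₀
  have hCA : S.A ≤ normalizer (C : Set G) :=
    hNmem.le_normalizer.trans (normalizer_le_normalizer_core12 N)
  have hW₀c : IsMulCommutative W₀ := .of_setLike_mul_comm fun x hx y hy =>
    setLike_mul_comm (s := V) hx.1 hy.1
  have hW₀T : W₀ ≤ S.T := h.le_T_of_le_cores hcap (Setup.le_normalizer_inf hVA hCA) hW₀c
    fun K hK hpK => le_trans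
      (le_inf (le_inf (inf_le_left.trans hVle) inf_le_right)
        (inf_le_left.trans (inf_le_left.trans inf_le_right)))
      (g.xCore_le hK hpK)
  have hTO : S.T ⊓ O = ⊥ := g.T_inf_pPrimeOf hH hp
    ((hH.mem.pCoreOf_le_pMax h.hqr hH.T_le_normalizer).trans hYN)
  have hCsup : C ≤ O ⊔ LN := core12_le_sup h.hqr hNmem g.T_le_normZ hTO
  have hNO : N ≤ normalizer (O : Set G) := le_normalizer_pPrimeOf N
  have hLNO : LN ⊓ O = ⊥ :=
    Cores.disjoint_of_isPGroup_of_coprime (isPGroup_pMax.to_le inf_le_left) (coprime_pPrimeOf N)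
  have hLNA : S.A ≤ normalizer (LN : Set G) := Setup.le_normalizer_inf A_le_normalizer_pMax hCA
  -- `V` is centralized by `A`
  suffices hkey : ∀ a ∈ S.A, ⁅V, zpowers a⁆ = ⊥ by
    refine le_trans (le_inf le_rfl fun v hv => mem_centralizer_iff.mpr fun a ha => ?_)
      hVmem.inf_centralizer_A_le
    have h1 : ⁅v, a⁆ ∈ (⊥ : Subgroup G) :=
      hkey a ha ▸ commutator_mem_commutator hv (mem_zpowers a)
    exact (commutatorElement_eq_one_iff_mul_comm.mp (mem_bot.mp h1)).symm
  intro a ha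
  set X := ⁅V, zpowers a⁆ with hX
  have haZ : zpowers a ≤ S.A := zpowers_le.mpr ha
  have hXV : X ≤ V := Coprime.commutator_le_left_of_normalizer (haZ.trans hVA)
  haveI : Group.IsSolvable (zpowers a) := Coprime.isSolvable_zpowers a
  have hXa : ⁅X, zpowers a⁆ = X := Coprime.commutator_commutator_eq (haZ.trans hVA)
    ((coprime_A (S := S) hVmem.not_dvd).coprime_dvd_left (card_dvd_of_le haZ))
    (Or.inl inferInstance)
  have haT : ∀ t ∈ S.T, a * t = t * a := fun t ht =>
    mem_centralizer_iff.mp (T_le_centralizer ht) a ha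
  -- `X` centralizes `C_{LN}(a)`
  have hcomm : ∀ l ∈ LN, a * l = l * a → ∀ x ∈ X, l * x = x * l := by
    intro l hl hla x hx
    have hXle : X ≤ centralizer ({l} : Set G) := by
      rw [hX, commutator_le]
      intro v hv z hz
      obtain ⟨i, rfl⟩ := hz
      rw [mem_centralizer_singleton_iff]
      have hwW : ⁅l, v⁆ ∈ W₀ := by
        refine ⟨?_, ?_⟩
        · rw [commutatorElement_def]
          exact V.mul_mem (Coprime.conj_mem (hVY hl.1) hv) (V.inv_mem hv)
        · rw [commutatorElement_def, mul_assoc l v, mul_assoc l]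
          exact mul_mem hl.2 (Coprime.conj_mem
            (le_normalizer_core12 N (hYN (hVle hv))) (inv_mem hl.2))
      set w := ⁅l, v⁆ with hw
      have hli : l * a ^ i = a ^ i * l := (Commute.zpow_right (hla.symm : Commute l a) i)
      have hwi : w * a ^ i = a ^ i * w := (Commute.zpow_right ((haT w (hW₀T hwW)).symm : Commute w a) i)
      have hux : ⁅v, a ^ i⁆ ∈ V :=
        hXV (commutator_mem_commutator hv ⟨i, rfl⟩)
      have hwu : w * ⁅v, a ^ i⁆ = ⁅v, a ^ i⁆ * w :=
        setLike_mul_comm (s := V) hwW.1 hux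
      have hconj : l * ⁅v, a ^ i⁆ * l⁻¹ = ⁅v, a ^ i⁆ := by
        have h1 : l * ⁅v, a ^ i⁆ * l⁻¹ = ⁅l * v * l⁻¹, a ^ i⁆ := by
          have e : l * a ^ i * l⁻¹ = a ^ i := by rw [hli, mul_inv_cancel_right]
          conv_rhs => rw [← e]
          simp only [commutatorElement_def]; group
        rw [h1, show l * v * l⁻¹ = w * v by simp only [hw, commutatorElement_def]; group,
          commutatorElement_mul_left_eq_conj_mul,
          commutatorElement_eq_one_iff_mul_comm.mpr hwi, mul_one, hwu, mul_inv_cancel_right]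
      calc ⁅v, a ^ i⁆ * l = l * ⁅v, a ^ i⁆ * l⁻¹ * l := by rw [hconj]
        _ = l * ⁅v, a ^ i⁆ := by group
    exact (mem_centralizer_singleton_iff.mp (hXle hx)).symm
  set C' := C ⊓ Coprime.relCentralizer O (zpowers a) with hC'
  set B := N ⊓ (Coprime.relCentralizer C' C ⊓ Coprime.relCentralizer O C') with hB
  have haO : zpowers a ≤ normalizer (O : Set G) :=
    haZ.trans (hNmem.le_normalizer.trans (normalizer_le_normalizer_pPrimeOf N))
  have hCN : C ≤ N := core12_le N
  have hXN : X ≤ N := (hXV.trans hVle).trans hYN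
  have hLNC' : ∀ y ∈ C', ∃ o ∈ O, ∃ l ∈ LN, a * l = l * a ∧ o * l = y := by
    rintro y ⟨hyC, hyO, hy⟩
    obtain ⟨o, ho, l, hl, rfl⟩ :=
      (Coprime.mem_sup_iff ((inf_le_right.trans hCN).trans hNO)).mp (hCsup hyC)
    refine ⟨o, ho, l, hl, ?_, rfl⟩
    have haO' : a ∈ normalizer (O : Set G) := haO (mem_zpowers a)
    have hol := hy a (mem_zpowers a)
    have h1 : ⁅l, a⁆ ∈ LN ⊓ O := by
      refine ⟨?_, ?_⟩
      · rw [commutatorElement_def, mul_assoc l a, mul_assoc l]
        exact mul_mem hl (Coprime.conj_mem (hLNA ha) (inv_mem hl))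
      · have e : o * ⁅l, a⁆ * o⁻¹ = ⁅o * l, a⁆ * (a * o * a⁻¹) * o⁻¹ := by
          simp only [commutatorElement_def]; group
        have h2 : o * ⁅l, a⁆ * o⁻¹ ∈ O :=
          e ▸ mul_mem (mul_mem hol (Coprime.conj_mem haO' ho)) (inv_mem ho)
        have := O.mul_mem (O.mul_mem (O.inv_mem ho) h2) ho
        simpa [mul_assoc] using this
    rw [hLNO, mem_bot, commutatorElement_eq_one_iff_mul_comm] at h1
    exact h1.symm
  have hXB : X ≤ B := by
    intro x hx
    have hxN : x ∈ N := hXN hx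
    have hxO : x ∈ normalizer (O : Set G) := hNO hxN
    have hxC' : ∀ y ∈ C', ⁅x, y⁆ ∈ O := by
      intro y hy
      obtain ⟨o, ho, l, hl, hla, rfl⟩ := hLNC' y hy
      rw [commutatorElement_mul_right_eq_mul_conj, commutatorElement_eq_one_iff_mul_comm.mpr
        ((hcomm l hl hla x hx).symm : x * l = l * x), mul_one, mul_inv_cancel_right]
      rw [commutatorElement_def]
      exact O.mul_mem (Coprime.conj_mem hxO ho) (O.inv_mem ho)
    have hxn : x ∈ normalizer (C' : Set G) := by
      refine mem_normalizer_iff''.mpr fun y => ⟨fun hy => ?_, fun hy => ?_⟩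
      · have h1 : x⁻¹ * y * x = y * (y⁻¹ * ⁅x⁻¹, y⁆ * y) := by
          simp only [commutatorElement_def]; group
        have hOC' : O ≤ C' := le_inf (pPrimeOf_le_core12 N) fun o ho =>
          ⟨Subgroup.le_normalizer ho, fun z hz => by
            rw [commutatorElement_def, mul_assoc o z, mul_assoc o]
            exact mul_mem ho (Coprime.conj_mem (haO hz) (inv_mem ho))⟩
        rw [h1]
        refine mul_mem hy (hOC' (Coprime.conj_mem' (hNO (hCN hy.1)) ?_))
        rw [commutatorElement_inv_left, ← commutatorElement_inv x y]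
        exact Coprime.conj_mem' hxO (inv_mem (hxC' y hy))
      · have hOC' : O ≤ C' := le_inf (pPrimeOf_le_core12 N) fun o ho =>
          ⟨Subgroup.le_normalizer ho, fun z hz => by
            rw [commutatorElement_def, mul_assoc o z, mul_assoc o]
            exact mul_mem ho (Coprime.conj_mem (haO hz) (inv_mem ho))⟩
        have h1 : y = ⁅x, x⁻¹ * y * x⁆ * (x⁻¹ * y * x) := by
          simp only [commutatorElement_def]; group
        rw [h1]
        exact mul_mem (hOC' (hxC' _ hy)) hy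
    refine ⟨hxN, ⟨hxn, fun y hy => ?_⟩, hxO, hxC'⟩
    obtain ⟨o, ho, l, hl, rfl⟩ :=
      (Coprime.mem_sup_iff ((inf_le_right.trans hCN).trans hNO)).mp (hCsup hy)
    have hOC' : O ≤ C' := le_inf (pPrimeOf_le_core12 N) fun o ho =>
      ⟨Subgroup.le_normalizer ho, fun z hz => by
        rw [commutatorElement_def, mul_assoc o z, mul_assoc o]
        exact mul_mem ho (Coprime.conj_mem (haO hz) (inv_mem ho))⟩
    have hxl : ⁅x, l⁆ ∈ C' := by
      have hmem : ⁅x, l⁆ ∈ W₀ := by
        refine ⟨?_, ?_⟩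
        · rw [commutatorElement_def, mul_assoc x l, mul_assoc x]
          exact mul_mem (hXV hx) (Coprime.conj_mem (hVY hl.1) (inv_mem (hXV hx)))
        · rw [commutatorElement_def]
          exact C.mul_mem (Coprime.conj_mem (le_normalizer_core12 N hxN) hl.2) (C.inv_mem hl.2)
      refine ⟨hmem.2, hNO (hCN hmem.2), fun z hz => ?_⟩
      obtain ⟨i, rfl⟩ := hz
      rw [commutatorElement_eq_one_iff_mul_comm.mpr
        (Commute.zpow_right ((haT _ (hW₀T hmem)).symm : Commute ⁅x, l⁆ a) i)]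
      exact one_mem _
    have hxo : ⁅x, o⁆ ∈ O := by
      rw [commutatorElement_def]
      exact O.mul_mem (Coprime.conj_mem hxO ho) (O.inv_mem ho)
    rw [commutatorElement_mul_right_eq_mul_conj]
    exact mul_mem (mul_mem (mul_mem (hOC' hxo) (hOC' ho)) hxl) (inv_mem (hOC' ho))
  have hXc : IsMulCommutative X := .of_setLike_mul_comm fun x hx y hy =>
    setLike_mul_comm (s := V) (hXV hx) (hXV hy)
  have hBn : ∀ u ∈ N, u * a = a * u → u ∈ normalizer (B : Set G) := by
    intro u hu hua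
    have huC : u ∈ normalizer (C : Set G) := le_normalizer_core12 N hu
    have huO : u ∈ normalizer (O : Set G) := hNO hu
    have hconj : ∀ {K₁ K₂ : Subgroup G}, u ∈ normalizer (K₁ : Set G) →
        u ∈ normalizer (K₂ : Set G) → u ∈ normalizer (Coprime.relCentralizer K₁ K₂ : Set G) := by
      intro K₁ K₂ h₁ h₂
      refine mem_normalizer_iff.mpr fun z => ⟨fun hz => ?_, fun hz => ?_⟩
      · refine ⟨mul_mem (mul_mem h₁ hz.1) (inv_mem h₁), fun k hk => ?_⟩
        rw [show ⁅u * z * u⁻¹, k⁆ = u * ⁅z, u⁻¹ * k * u⁆ * u⁻¹ by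
          simp only [commutatorElement_def]; group]
        exact Coprime.conj_mem h₁ (hz.2 _ (Coprime.conj_mem' h₂ hk))
      · refine ⟨by simpa [mul_assoc] using mul_mem (mul_mem (inv_mem h₁) hz.1) h₁, fun k hk => ?_⟩
        rw [show ⁅z, k⁆ = u⁻¹ * ⁅u * z * u⁻¹, u * k * u⁻¹⁆ * u by
          simp only [commutatorElement_def]; group]
        exact Coprime.conj_mem' h₁ (hz.2 _ (Coprime.conj_mem h₂ hk))
    have huZ : u ∈ normalizer (zpowers a : Set G) := by
      refine centralizer_le_normalizer _ (mem_centralizer_iff.mpr fun z hz => ?_)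
      obtain ⟨i, rfl⟩ := hz
      exact ((Commute.zpow_right (hua : Commute u a) i)).symm
    have huC' : u ∈ normalizer (C' : Set G) :=
      Subgroup.inf_normalizer_le_normalizer_inf ⟨huC, hconj huO huZ⟩
    exact Subgroup.inf_normalizer_le_normalizer_inf ⟨Subgroup.le_normalizer hu,
      Subgroup.inf_normalizer_le_normalizer_inf ⟨hconj huC' huC, hconj huO huC'⟩⟩
  have hXC : X ≤ C := by
    refine le_core12_of_fixed (r := r) (B := B) h.hqr hNmem.solvable hNmem.not_dvd
      (S.elem.2 a ha) (hNmem.le_normalizer ha) (hVq.to_le hXV) hXc hXN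
      (Coprime.mem_normalizer_commutator (hVA ha) (Subgroup.le_normalizer (mem_zpowers a)))
      hXa.ge (fun u hu hua x hx => ?_) fun Y hY hYc => ?_
    · rw [commutatorElement_def]
      exact mul_mem (Coprime.conj_mem (hBn u hu hua) (hXB hx)) (inv_mem (hXB hx))
    · refine le_pPrimeOf_of_series hNmem.solvable hYc (hY.trans inf_le_right) (C := C') ?_ ?_
      · rw [commutator_comm]
        exact Coprime.commutator_le_of_le_relCentralizer fun y hy => (hY hy).1.2.1
      · rw [commutator_comm]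
        exact Coprime.commutator_le_of_le_relCentralizer fun y hy => (hY hy).1.2.2
  rw [← hXa, commutator_eq_bot_iff_le_centralizer]
  refine (le_inf hXV hXC).trans (hW₀T.trans (T_le_centralizer.trans ?_))
  exact centralizer_le (SetLike.coe_subset_coe.mpr haZ)

/-- `X_q` is the whole `q`-part of the core of `N(Ω₁Z(Y_q))`. -/
theorem inf_core12_normZ_le {H : Subgroup G} (hH : S.IsHH H) (hp : Cfsg.pCoreOf p H = ⊥) :
    S.pMax q ⊓ core12 q (S.normZ q) ≤ S.xCore q := by
  have g := h.symm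
  have h0 : S.pMax q ≠ ⊥ := g.pMax_ne_bot hH hp
  set N := S.normZ q with hN
  set MJ := S.normJ q with hMJ
  set Z := H31.omegaZ q (S.pMax q) with hZ
  set LJ := S.pMax q ⊓ core12 q MJ with hLJ
  set O := pPrimeOf q MJ with hO
  have hNmem : S.IsMember N := g.isMember_normZ h0
  have hMJmem : S.IsMember MJ := g.isMember_normJ h0
  have hYN : S.pMax q ≤ N := g.pMax_le_normZ
  have hYMJ : S.pMax q ≤ MJ := g.pMax_le_normJ
  have hTMJ : S.T ≤ MJ := g.T_le_normJ
  have hTO : S.T ⊓ O = ⊥ := g.T_inf_pPrimeOf hH hp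
    ((hH.mem.pCoreOf_le_pMax h.hqr hH.T_le_normalizer).trans hYMJ)
  have hCsup : core12 q MJ ≤ O ⊔ LJ := core12_le_sup h.hqr hMJmem hTMJ hTO
  have hMO : MJ ≤ normalizer (O : Set G) := le_normalizer_pPrimeOf MJ
  have hAO : S.A ≤ normalizer (O : Set G) :=
    hMJmem.le_normalizer.trans (normalizer_le_normalizer_pPrimeOf MJ)
  have hOM : O ≤ MJ := pPrimeOf_le MJ
  have hLJO : LJ ⊓ O = ⊥ :=
    Cores.disjoint_of_isPGroup_of_coprime (isPGroup_pMax.to_le inf_le_left) (coprime_pPrimeOf MJ)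
  have hZY : Z ≤ S.pMax q := omegaZ_le q _
  have hZcent : Z ≤ centralizer (S.pMax q : Set G) := (H31.omegaOne_le q _).trans inf_le_right
  have hZMJ : Z ≤ MJ := hZY.trans hYMJ
  have hZcore : Z ≤ core12 q MJ := by
    refine le_core12_of_centralizes hMJmem.solvable hZMJ (commutator_le.mpr fun y hy z hz => ?_)
    obtain ⟨o, ho, l, hl, rfl⟩ :=
      (Coprime.mem_sup_iff ((inf_le_right.trans (core12_le MJ)).trans hMO)).mp (hCsup hy)
    rw [commutatorElement_mul_left_eq_conj_mul, commutatorElement_eq_one_iff_mul_comm.mpr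
      (mem_centralizer_iff.mp (hZcent hz) l hl.1), mul_one, mul_inv_cancel, one_mul,
      commutatorElement_def, mul_assoc o z, mul_assoc o]
    exact O.mul_mem ho (Coprime.conj_mem (hMO (hZMJ hz)) (O.inv_mem ho))
  set E := core12 q MJ ⊓ Coprime.relCentralizer O (core12 q MJ) with hE
  have hZE : Z ≤ E := by
    refine le_inf hZcore fun z hz => ⟨hMO (hZMJ hz), fun y hy => ?_⟩
    obtain ⟨o, ho, l, hl, rfl⟩ :=
      (Coprime.mem_sup_iff ((inf_le_right.trans (core12_le MJ)).trans hMO)).mp (hCsup hy)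
    rw [commutatorElement_mul_right_eq_mul_conj, commutatorElement_eq_one_iff_mul_comm.mpr
      (mem_centralizer_iff.mp (hZcent hz) l hl.1).symm, mul_one, mul_inv_cancel_right,
      commutatorElement_def]
    exact O.mul_mem (Coprime.conj_mem (hMO (hZMJ hz)) ho) (O.inv_mem ho)
  have hnE : ∀ u : G, u ∈ normalizer (MJ : Set G) → ∀ e ∈ E, u * e * u⁻¹ ∈ E := by
    intro u hu e he
    have huC := normalizer_le_normalizer_core12 (p := q) MJ hu
    have huO : u ∈ normalizer (O : Set G) := normalizer_le_normalizer_pPrimeOf MJ hu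
    refine ⟨Coprime.conj_mem huC he.1, mul_mem (mul_mem huO he.2.1) (inv_mem huO), fun k hk => ?_⟩
    rw [show ⁅u * e * u⁻¹, k⁆ = u * ⁅e, u⁻¹ * k * u⁆ * u⁻¹ by
      simp only [commutatorElement_def]; group]
    exact Coprime.conj_mem huO (he.2.2 _ (Coprime.conj_mem' huC hk))
  have hEA : ⁅S.A, E⁆ ≤ O := by
    rw [commutator_comm, commutator_le]
    intro e he a ha
    obtain ⟨o, ho, l, hl, rfl⟩ :=
      (Coprime.mem_sup_iff ((inf_le_right.trans (core12_le MJ)).trans hMO)).mp (hCsup he.1)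
    have hlT : l ∈ S.T := by
      refine h.centre_core_le_T hcap hH hp ⟨hl, mem_centralizer_iff.mpr fun l' hl' => ?_⟩
      have h1 : ⁅l, l'⁆ ∈ LJ ⊓ O := by
        refine ⟨?_, ?_⟩
        · rw [commutatorElement_def]
          exact LJ.mul_mem (LJ.mul_mem (LJ.mul_mem hl hl') (LJ.inv_mem hl)) (LJ.inv_mem hl')
        · have h2 := he.2.2 l' hl'.2
          have e1 : o * ⁅l, l'⁆ * o⁻¹ = ⁅o * l, l'⁆ * (l' * o * l'⁻¹) * o⁻¹ := by
            simp only [commutatorElement_def]; group
          have h3 : o * ⁅l, l'⁆ * o⁻¹ ∈ O := e1 ▸ mul_mem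
            (mul_mem h2 (Coprime.conj_mem (hMO (core12_le MJ hl'.2)) ho)) (inv_mem ho)
          have := O.mul_mem (O.mul_mem (O.inv_mem ho) h3) ho
          simpa [mul_assoc] using this
      rw [hLJO, mem_bot, commutatorElement_eq_one_iff_mul_comm] at h1
      exact h1.symm
    rw [commutatorElement_mul_left_eq_conj_mul, commutatorElement_eq_one_iff_mul_comm.mpr
      ((mem_centralizer_iff.mp (T_le_centralizer hlT) a ha).symm), mul_one, mul_inv_cancel, one_mul,
      commutatorElement_def, mul_assoc o a, mul_assoc o]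
    exact O.mul_mem ho (Coprime.conj_mem (hAO ha) (O.inv_mem ho))
  have hEO : E ≤ normalizer (O : Set G) := inf_le_left.trans ((core12_le MJ).trans hMO)
  have hEMJ : ⁅E, MJ⁆ ≤ E := by
    refine commutator_le.mpr fun e he m hm => ?_
    rw [commutatorElement_def, mul_assoc e m, mul_assoc e]
    exact E.mul_mem he (hnE m (Subgroup.le_normalizer hm) _ (E.inv_mem he))
  have hcen : ⁅⁅MJ, S.A⁆, E⁆ ≤ O := Coprime.commutator_rotate_le hMO hAO hEO
    ((commutator_mono hEA le_rfl).trans (by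
      rw [commutator_le]
      intro o ho m hm
      rw [commutatorElement_def, mul_assoc o m, mul_assoc o]
      exact O.mul_mem ho (Coprime.conj_mem (hMO hm) (O.inv_mem ho))))
    ((commutator_mono hEMJ le_rfl).trans ((commutator_comm _ _).le.trans hEA))
  -- Frattini
  have hMA : ⁅MJ, S.A⁆ ≤ MJ := Coprime.commutator_le_left_of_normalizer hMJmem.le_normalizer
  have hnorm : im O MJ ≤ normalizer (im O Z : Set (Quo O)) := by
    conv_lhs => rw [← Coprime.commutator_sup_centralizer hMJmem.le_normalizer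
      (coprime_A hMJmem.not_dvd) (Or.inl solvable_A)]
    rw [im_sup (hMA.trans hMO) (inf_le_left.trans hMO), sup_le_iff]
    refine ⟨le_trans ?_ (centralizer_le_normalizer _), im_le_normalizer (hZMJ.trans hMO)
      (inf_le_left.trans hMO) ((hMJmem.inf_centralizer_A_le.trans T_le_normalizer_pMax).trans
        (normalizer_le_normalizer_omegaZ q _))⟩
    rw [← commutator_eq_bot_iff_le_centralizer, ← im_commutator (hMA.trans hMO) (hZMJ.trans hMO),
      im_eq_bot_iff ((commutator_mono le_rfl hZE).trans (hcen.trans Subgroup.le_normalizer))]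
    exact (commutator_mono le_rfl hZE).trans hcen
  have hfr : MJ ≤ O ⊔ (MJ ⊓ N) := by
    intro x hx
    have hx' := inf_normalizer_im hMO hOM (coprime_pPrimeOf MJ)
      (isPGroup_pMax.to_le hZY) hZMJ ⟨cl_mem_im hx (hMO hx), hnorm (cl_mem_im hx (hMO hx))⟩
    obtain ⟨y, hy, hyM, hxy⟩ := mem_im.mp hx'
    have hyN : y ∈ N := (hMJmem.of_le inf_le_left (Setup.le_normalizer_inf hMJmem.le_normalizer
      ((A_le_normalizer_pMax.trans (normalizer_le_normalizer_omegaZ q _)).trans
        Subgroup.le_normalizer))).le_normBy inf_le_right hyM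
    have hyi : y⁻¹ ∈ normalizer (O : Set G) := inv_mem hy
    have h1 : cl O (x * y⁻¹) (mul_mem (hMO hx) hyi) = 1 := by
      rw [← cl_mul (hMO hx) hyi, ← hxy, cl_mul hy hyi]
      exact (cl_eq_one_iff _).mpr (by rw [mul_inv_cancel]; exact one_mem O)
    rw [show x = (x * y⁻¹) * y by group]
    exact mul_mem (mem_sup_left ((cl_eq_one_iff _).mp h1)) (mem_sup_right ⟨hyM.1, hyN⟩)
  set C' := core12 q N ⊓ MJ with hC'
  set M := O ⊔ C' with hM
  have hMle : M ≤ core12 q MJ := by
    refine le_core12 (sup_le hOM inf_le_right) ?_ ?_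
    · refine le_trans hfr (sup_le (fun o ho => mem_sup_left ho |> Subgroup.le_normalizer (G := G)) ?_)
      exact le_trans (le_inf (inf_le_left.trans hMO)
        (H60.le_normalizer_inf (inf_le_right.trans (le_normalizer_core12 N))
          (inf_le_left.trans Subgroup.le_normalizer))) inf_normalizer_le_normalizer_join
    · intro x hx
      obtain ⟨o, ho, c, hc, rfl⟩ := (Coprime.mem_sup_iff (inf_le_right.trans hMO)).mp hx
      obtain ⟨k, hk⟩ := exists_pow_mem_of_mem_core12 hc.1
      refine ⟨k, ?_⟩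
      have hcO : c ^ q ^ k ∈ O := pPrimeOf_inf_le h.hqr hMJmem hTMJ hTO
        (inf_le_left.trans hYN) ⟨hk, pow_mem hc.2 _⟩
      have hc1 : cl O (o * c) (mul_mem (Subgroup.le_normalizer ho) (hMO hc.2)) ^ q ^ k = 1 := by
        rw [← cl_mul (Subgroup.le_normalizer ho) (hMO hc.2), (cl_eq_one_iff _).mpr ho, one_mul,
          cl_pow, cl_eq_one_iff]
        exact hcO
      rw [cl_pow, cl_eq_one_iff] at hc1
      exact hc1
  exact le_inf le_rfl
    ((le_inf inf_le_right (inf_le_left.trans hYMJ)).trans (le_sup_right.trans hMle))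

/-- Every maximal member of colour `q` is the normalizer of `Ω₁Z(Y_q)`. -/
theorem eq_normZ {H : Subgroup G} (hH : S.IsHH H) (hp : Cfsg.pCoreOf p H = ⊥) :
    H = S.normZ q ∧ ⁅H, S.A⁆ ≤ centralizer (H31.omegaZ q (S.pMax q) : Set G) := by
  have g := h.symm
  have h0 : S.pMax q ≠ ⊥ := g.pMax_ne_bot hH hp
  set Q := Cfsg.pCoreOf q H with hQ
  set N := S.normZ q with hN
  set Z := H31.omegaZ q (S.pMax q) with hZ
  set LN := S.pMax q ⊓ core12 q N with hLN
  set CH := Q ⊓ centralizer (Q : Set G) with hCH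
  have hNmem : S.IsMember N := g.isMember_normZ h0
  have hQY : Q ≤ S.pMax q := hH.mem.pCoreOf_le_pMax h.hqr hH.T_le_normalizer
  have hCHA : S.A ≤ normalizer (CH : Set G) :=
    TwoPrimes.le_normalizer_inf_centralizer (hH.mem.isMember_pCoreOf q).le_normalizer
  have hZQ : Z ≤ Q := h.omegaZ_le_pCoreOf hcap hH hp
  have hZcent : Z ≤ centralizer (S.pMax q : Set G) := (H31.omegaOne_le q _).trans inf_le_right
  have hZCH : Z ≤ CH := le_inf hZQ (hZcent.trans (centralizer_le hQY))
  have hLNle : ∀ K, S.IsHH K → Cfsg.pCoreOf p K = ⊥ → LN ≤ Cfsg.pCoreOf q K :=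
    fun K hK hpK => (h.inf_core12_normZ_le hcap hH hp).trans (g.xCore_le hK hpK)
  have hCHN : CH ≤ N := (isMember_pMax.of_le (inf_le_left.trans hQY) hCHA).le_normBy
    ((inf_le_right.trans (centralizer_le hZQ)).trans (centralizer_le_normalizer _))
  have hNO : N ≤ normalizer (pPrimeOf q N : Set G) := le_normalizer_pPrimeOf N
  have hCsup : core12 q N ≤ pPrimeOf q N ⊔ LN := core12_le_sup h.hqr hNmem g.T_le_normZ
    (g.T_inf_pPrimeOf hH hp (hQY.trans g.pMax_le_normZ))
  have hCHC : CH ≤ core12 q N := by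
    refine le_core12_of_centralizes hNmem.solvable hCHN (commutator_le.mpr fun y hy z hz => ?_)
    obtain ⟨o, ho, l, hl, rfl⟩ :=
      (Coprime.mem_sup_iff ((inf_le_right.trans (core12_le N)).trans hNO)).mp (hCsup hy)
    rw [commutatorElement_mul_left_eq_conj_mul, commutatorElement_eq_one_iff_mul_comm.mpr
      (mem_centralizer_iff.mp hz.2 l (hLNle H hH hp hl)), mul_one, mul_inv_cancel, one_mul,
      commutatorElement_def, mul_assoc o z, mul_assoc o]
    exact (pPrimeOf q N).mul_mem ho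
      (Coprime.conj_mem (hNO (hCHN hz)) ((pPrimeOf q N).inv_mem ho))
  have hCHT : CH ≤ S.T := h.le_T_of_le_cores hcap hCHA (TwoPrimes.centre_isMulCommutative Q)
    fun K hK hpK => (le_inf (inf_le_left.trans hQY) hCHC).trans (hLNle K hK hpK)
  have hACH : ⁅S.A, CH⁆ = ⊥ := by
    rw [commutator_eq_bot_iff_le_centralizer, le_centralizer_iff]
    exact hCHT.trans T_le_centralizer
  have hCHA' : ⁅CH, S.A⁆ = ⊥ := by rwa [commutator_comm]
  have hHCH : H ≤ normalizer (CH : Set G) :=
    TwoPrimes.le_normalizer_inf_centralizer (H60.le_normalizer_pCoreOf H)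
  have hcen : ⁅⁅H, S.A⁆, CH⁆ = ⊥ := by
    refine Subgroup.commutator_commutator_eq_bot_of_rotate ?_ ?_
    · rw [hACH, commutator_bot_left]
    · rw [← le_bot_iff]
      refine (commutator_mono ?_ le_rfl).trans hCHA'.le
      rw [commutator_comm]
      exact Coprime.commutator_le_left_of_normalizer hHCH |> fun h1 => (commutator_comm _ _).le.trans h1
  have hcenZ : ⁅H, S.A⁆ ≤ centralizer (Z : Set G) :=
    (commutator_eq_bot_iff_le_centralizer.mp hcen).trans (centralizer_le hZCH)
  refine ⟨?_, hcenZ⟩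
  refine (hH.2.2 _ hNmem (hH.mem.le_normBy ?_)).symm
  rw [← Coprime.commutator_sup_centralizer hH.le_normalizer (coprime_A hH.mem.not_dvd)
    (Or.inl solvable_A), sup_le_iff]
  exact ⟨hcenZ.trans (centralizer_le_normalizer _),
    (hH.mem.inf_centralizer_A_le.trans T_le_normalizer_pMax).trans
      (normalizer_le_normalizer_omegaZ q _)⟩

end CaseB

theorem false_of_capable (hcap : ∀ D, S.IsLine D → ∃ c ∈ D, c ≠ 1 ∧ S.Capable q c) : False := by
  have g := h.symm
  obtain ⟨a, ha, ha1⟩ := exists_ne_one (S := S)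
  obtain ⟨D₀, hD₀, _⟩ := exists_line_through ha
  obtain ⟨m₀, hm₀, hm₀1, hm₀inc, _⟩ := h.exists_incapable_off hcap hD₀
  obtain ⟨N, hN, _, hpN⟩ := h.exists_hh_of_incapable hm₀ hm₀1 hm₀inc
  set Z := H31.omegaZ q (S.pMax q) with hZ
  obtain ⟨hNeq, hNcen⟩ := h.eq_normZ hcap hN hpN
  have hZT : Z ≤ S.T := h.omegaZ_le_T hcap
  have hC : ∀ {m : G}, m ∈ S.A → m ≠ 1 → ¬ S.Capable q m → S.θ m ≤ N := by
    intro m hm hm1 hinc
    obtain ⟨H, hH, hle, hp⟩ := h.exists_hh_of_incapable hm hm1 hinc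
    rw [hNeq, ← (h.eq_normZ hcap hH hp).1]
    exact hle
  refine h.min.false_of_normalizes isMember_yTwo (h.yTwo_ne_bot hcap) ha ha1 fun F hF _ => ?_
  by_cases hall : ∀ f ∈ F, f ≠ 1 → S.Capable q f
  · exact h.step_of_capable hF hall
  push Not at hall
  obtain ⟨m, hm, hm1, hminc⟩ := hall
  refine h.step_of_auxiliary hF (Z := Z) (hZT.trans T_le_centralizer) ?_
    (hZT.trans T_le_normalizer_yTwo) ?_
    (fun b hb hb1 => hZT.trans ((Setup.T_le hb hb1).trans Subgroup.le_normalizer)) ?_ ?_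
  · obtain ⟨n, hn⟩ := IsPGroup.iff_card.mp
      ((isPGroup_pMax (S := S) (p := q)).to_le (omegaZ_le q _) : IsPGroup q Z)
    rw [hn]
    exact Nat.Coprime.pow_left _ ((Nat.coprime_primes Fact.out Fact.out).mpr h.hpq.symm)
  · rw [← le_bot_iff, ← hpN]
    refine le_trans (le_inf inf_le_left ?_) (yTwo_inf_le hN.mem)
    rw [hNeq]
    exact (isMember_yTwo.of_le inf_le_left (Setup.le_normalizer_inf A_le_normalizer_yTwo
      ((le_centralizer_iff.mp (hZT.trans T_le_centralizer)).trans (Subgroup.le_normalizer.trans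
        le_rfl)))).le_normBy (inf_le_right.trans (centralizer_le_normalizer _))
  · intro x hx
    have hxN : S.C F ≤ N := (C_le hm hm1).trans (hC (hF.1 hm) hm1 hminc)
    have hCA := le_normalizer_C (S := S) hF.1
    rw [← Coprime.commutator_sup_centralizer hCA (coprime_A (isMember_C hF).not_dvd)
      (Or.inl solvable_A)] at hx
    obtain ⟨k, hk, t, ht, he⟩ := (Coprime.mem_sup_iff
      (inf_le_left.trans (normalizer_commutator_ge_left (S.C F) S.A))).mp hx
    exact ⟨k, fun w hw => (mem_centralizer_iff.mp (hNcen ((commutator_mono hxN le_rfl) hk)) w hw).symm,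
      t, (isMember_C hF).inf_centralizer_A_le ht, he.symm⟩
  · intro m' hm' hm'1 hinc' D' hD' hm'D'
    exact (commutator_mono ((C_le hm'D' hm'1).trans (hC (hF.1 hm') hm'1 hinc')) le_rfl).trans hNcen

/-- The two-colour case is impossible. -/
theorem false : False := by
  by_cases hcap : ∀ D, S.IsLine D → ∃ c ∈ D, c ≠ 1 ∧ S.Capable q c
  · exact h.false_of_capable hcap
  refine h.symm.false_of_capable fun D hD => ?_
  push Not at hcap
  obtain ⟨D₁, hD₁, hbad⟩ := hcap
  obtain ⟨d, ⟨hdD, hdD₁⟩, hd1⟩ := hD.exists_inter hD₁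
  exact ⟨d, hdD, hd1, (h.capable_or (hD.1 hdD) hd1).resolve_left (hbad d hdD₁ hd1)⟩

end TwoColours

end Cfsg.Agent.Signalizer
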