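import Cfsg.Agent.Signalizer.TwoPrimesSetup

/-!
The mixed case: in a two-colour minimal counterexample no maximal member containing `T` has both
cores nontrivial.
-/

set_option autoImplicit false
set_option linter.unusedSectionVars false
set_option linter.style.haveILetI false

namespace Cfsg.Agent.Signalizer

open Subgroup TwoPrimes Setup

universe u

variable {G : Type u} [Group G] [Finite G] {r p q : ℕ} [hr : Fact r.Prime] [Fact p.Prime]
  [Fact q.Prime] {S : Setup G r}

namespace TwoColours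

variable (h : TwoColours S p q)
include h

/-- Comparison of cores: `X` lies in `O_p(H)`. -/
theorem cores {H M X Y : Subgroup G} (hH : S.IsHH H) (hXp : IsPGroup p X) (hYq : IsPGroup q Y)
    (hX : X ≤ H) (hY : Y ≤ H) (hXY : X ≤ centralizer (Y : Set G))
    (hXA : S.A ≤ normalizer (X : Set G)) (hYA : S.A ≤ normalizer (Y : Set G))
    (hXM : ∀ U, S.IsMember U → U ≤ normalizer (X : Set G) → U ≤ H → U ≤ M)
    (hYM : ∀ U, S.IsMember U → U ≤ normalizer (Y : Set G) → U ≤ H → U ≤ M)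
    (hMX : H ⊓ M ≤ normalizer (X : Set G)) (hMY : H ⊓ M ≤ normalizer (Y : Set G)) :
    X ≤ Cfsg.pCoreOf p H := by
  have hXK : X ≤ pPrimeOf q H := core_le h.hpq.symm hH.mem.solvable hY hYq hX hXp
    (hXY.trans (centralizer_le_normalizer _)) ((le_inf inf_le_left (hYM _ (hH.mem.of_le inf_le_left
      (Setup.le_normalizer_inf hH.le_normalizer (hYA.trans le_normalizer))) inf_le_right
      inf_le_left)).trans hMX)
  have hYJ : Y ≤ pPrimeOf p H := core_le h.hpq hH.mem.solvable hX hXp hY hYq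
    ((le_centralizer_iff.mp hXY).trans (centralizer_le_normalizer _))
    ((le_inf inf_le_left (hXM _ (hH.mem.of_le inf_le_left
      (Setup.le_normalizer_inf hH.le_normalizer (hXA.trans le_normalizer))) inf_le_right
      inf_le_left)).trans hMY)
  set K := pPrimeOf q H with hK
  have hKJ : K ≤ centralizer (pPrimeOf p H : Set G) := by
    rw [← commutator_eq_bot_iff_le_centralizer, ← le_bot_iff,
      ← h.pPrimeOf_inf_eq_bot hH.mem hH.T_le_normalizer, inf_comm]
    exact H60.commutator_le_inf_of_le_normalizer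
      ((pPrimeOf_le H).trans (le_normalizer_pPrimeOf H))
      ((pPrimeOf_le H).trans (le_normalizer_pPrimeOf H))
  have hKM : K ≤ M := hYM K (hH.mem.of_le (pPrimeOf_le H)
    (hH.le_normalizer.trans (normalizer_le_normalizer_pPrimeOf H)))
    (hKJ.trans ((centralizer_le hYJ).trans (centralizer_le_normalizer _))) (pPrimeOf_le H)
  exact (H60.le_pCoreOf hXK ((le_inf (pPrimeOf_le H) hKM).trans hMX) hXp).trans
    (pCoreOf_le_of_normal p (pPrimeOf_le H) (le_normalizer_pPrimeOf H))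

theorem pCore_le_of_cores {M H Y : Subgroup G} (hH : S.IsHH H)
    (hY : Y ≤ Cfsg.pCoreOf q H)
    (hYM : ∀ U, S.IsMember U → U ≤ normalizer (Y : Set G) → U ≤ H → U ≤ M) :
    Cfsg.pCoreOf p H ≤ H ⊓ M :=
  le_inf (H60.pCoreOf_le H) (hYM _ (hH.mem.isMember_pCoreOf p)
    ((pCore_le_centralizer_pCore h.hpq H).trans ((centralizer_le hY).trans
      (centralizer_le_normalizer _))) (H60.pCoreOf_le H))

theorem pCore_le_of_shared {M H : Subgroup G} (hM : S.IsHH M) (hH : S.IsHH H)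
    (hPH : Cfsg.pCoreOf p H ≤ H ⊓ M) (hQH : Cfsg.pCoreOf q H ≤ H ⊓ M)
    (hP0 : Cfsg.pCoreOf p H ≠ ⊥) (hQ0 : Cfsg.pCoreOf q H ≠ ⊥) : Cfsg.pCoreOf p M ≤ H := by
  set P := Cfsg.pCoreOf p H with hP
  set R := Cfsg.pCoreOf q H with hR
  set U := Cfsg.pCoreOf p M with hU
  set C := U ⊓ centralizer (P : Set G) with hC
  have hMU : M ≤ normalizer (U : Set G) := H60.le_normalizer_pCoreOf M
  have hCA : S.A ≤ normalizer (C : Set G) := H60.le_normalizer_inf
    (hM.mem.isMember_pCoreOf p).le_normalizer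
    ((hH.mem.isMember_pCoreOf p).le_normalizer.trans (H60.normalizer_le_normalizer_centralizer P))
  have hCH : C ≤ H := h.le_of_normal_core hH hP0
    (hM.mem.of_le (inf_le_left.trans (H60.pCoreOf_le M)) hCA)
    (inf_le_right.trans (centralizer_le_normalizer _))
  have hRC : R ≤ normalizer (C : Set G) := H60.le_normalizer_inf
    ((hQH.trans inf_le_right).trans hMU)
    ((hQH.trans inf_le_left).trans ((H60.le_normalizer_pCoreOf H).trans
      (H60.normalizer_le_normalizer_centralizer P)))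
  have hcomm : ⁅C, R⁆ = ⊥ := le_bot_iff.mp <|
    (H60.commutator_le_inf_of_le_normalizer (hCH.trans (H60.le_normalizer_pCoreOf H)) hRC).trans
      (IsPGroup.disjoint_of_ne p q h.hpq _ _ ((H60.pCoreOf_isPGroup M).to_le inf_le_left)
        (H60.pCoreOf_isPGroup H)).eq_bot.le
  have hRcop : (Nat.card R).Coprime p := by
    obtain ⟨n, hn⟩ := IsPGroup.iff_card.mp (H60.pCoreOf_isPGroup H : IsPGroup q R)
    rw [hn]
    exact Nat.Coprime.pow_left _ ((Nat.coprime_primes Fact.out Fact.out).mpr h.hpq.symm)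
  have hRU : R ≤ centralizer (U : Set G) :=
    Coprime.thompson_AxB (H60.pCoreOf_isPGroup H) hRcop (pCore_le_centralizer_pCore h.hpq H) U
      (H60.pCoreOf_isPGroup M) ((hPH.trans inf_le_right).trans hMU)
      ((hQH.trans inf_le_right).trans hMU) (commutator_eq_bot_iff_le_centralizer.mp hcomm)
  exact h.le_of_normal_core hH hQ0 (hM.mem.isMember_pCoreOf p)
    ((le_centralizer_iff.mp hRU).trans (centralizer_le_normalizer _))

/-- A maximal member sharing suitable parts of both cores of `M` is `M`. -/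
theorem eq_of_shared {M H X Y : Subgroup G} (hM : S.IsHH M) (hH : S.IsHH H)
    (hFp : Cfsg.pCoreOf p M ≠ ⊥) (hFq : Cfsg.pCoreOf q M ≠ ⊥)
    (hXF : X ≤ Cfsg.pCoreOf p M) (hYF : Y ≤ Cfsg.pCoreOf q M) (hX : X ≤ H) (hY : Y ≤ H)
    (hX0 : X ≠ ⊥) (hY0 : Y ≠ ⊥) (hXA : S.A ≤ normalizer (X : Set G))
    (hYA : S.A ≤ normalizer (Y : Set G))
    (hXM : ∀ U, S.IsMember U → U ≤ normalizer (X : Set G) → U ≤ H → U ≤ M)
    (hYM : ∀ U, S.IsMember U → U ≤ normalizer (Y : Set G) → U ≤ H → U ≤ M)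
    (hMX : H ⊓ M ≤ normalizer (X : Set G)) (hMY : H ⊓ M ≤ normalizer (Y : Set G)) : H = M := by
  have hXY : X ≤ centralizer (Y : Set G) :=
    hXF.trans ((pCore_le_centralizer_pCore h.hpq M).trans (centralizer_le hYF))
  have hXp : IsPGroup p X := (H60.pCoreOf_isPGroup M).to_le hXF
  have hYq : IsPGroup q Y := (H60.pCoreOf_isPGroup M).to_le hYF
  have hXO := h.cores hH hXp hYq hX hY hXY hXA hYA hXM hYM hMX hMY
  have hYO := h.symm.cores hH hYq hXp hY hX (le_centralizer_iff.mp hXY) hYA hXA hYM hXM hMY hMX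
  have hP0 : Cfsg.pCoreOf p H ≠ ⊥ := fun e => hX0 (le_bot_iff.mp (hXO.trans e.le))
  have hQ0 : Cfsg.pCoreOf q H ≠ ⊥ := fun e => hY0 (le_bot_iff.mp (hYO.trans e.le))
  have hPH := h.pCore_le_of_cores hH hYO hYM
  have hQH := h.symm.pCore_le_of_cores hH hXO hXM
  have hFpH := h.pCore_le_of_shared hM hH hPH hQH hP0 hQ0
  have hFqH := h.symm.pCore_le_of_shared hM hH hQH hPH hQ0 hP0
  have hnM : ∀ s : ℕ, H ⊓ M ≤ normalizer (Cfsg.pCoreOf s M : Set G) := fun s =>
    inf_le_right.trans (H60.le_normalizer_pCoreOf M)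
  have hnH : ∀ s : ℕ, M ⊓ H ≤ normalizer (Cfsg.pCoreOf s H : Set G) := fun s =>
    inf_le_right.trans (H60.le_normalizer_pCoreOf H)
  have hA : ∀ {K : Subgroup G}, S.IsHH K → ∀ s : ℕ,
      S.A ≤ normalizer (Cfsg.pCoreOf s K : Set G) :=
    fun hK s => (hK.mem.isMember_pCoreOf s).le_normalizer
  have h1 := h.cores (M := M) hH (H60.pCoreOf_isPGroup M) (H60.pCoreOf_isPGroup M) hFpH hFqH
    (pCore_le_centralizer_pCore h.hpq M) (hA hM p) (hA hM q)
    (fun U hU hn _ => h.le_of_normal_core hM hFp hU hn)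
    (fun U hU hn _ => h.le_of_normal_core hM hFq hU hn) (hnM p) (hnM q)
  have h2 := h.cores (M := H) hM (H60.pCoreOf_isPGroup H) (H60.pCoreOf_isPGroup H)
    (hPH.trans inf_le_right) (hQH.trans inf_le_right) (pCore_le_centralizer_pCore h.hpq H)
    (hA hH p) (hA hH q) (fun U hU hn _ => h.le_of_normal_core hH hP0 hU hn)
    (fun U hU hn _ => h.le_of_normal_core hH hQ0 hU hn) (hnH p) (hnH q)
  refine (hH.2.2 M hM.mem (h.le_of_normal_core hM hFp hH.mem ?_)).symm
  rw [le_antisymm h1 h2]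
  exact H60.le_normalizer_pCoreOf H

/-- Members normalizing a nontrivial `T`-invariant subgroup of `O_p(M)` lie in `M`. -/
theorem le_of_subcore {M X U : Subgroup G} (hM : S.IsHH M)
    (hFp : Cfsg.pCoreOf p M ≠ ⊥) (hFq : Cfsg.pCoreOf q M ≠ ⊥)
    (hXF : X ≤ Cfsg.pCoreOf p M) (hX0 : X ≠ ⊥) (hXA : S.A ≤ normalizer (X : Set G))
    (hXT : S.T ≤ normalizer (X : Set G))
    (hU : S.IsMember U) (hUX : U ≤ normalizer (X : Set G)) : U ≤ M := by
  have hL := h.min.isMember_normBy (hM.mem.of_le (hXF.trans (H60.pCoreOf_le M)) hXA) hX0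
  obtain ⟨H, hH, hLH⟩ := exists_isHH hL (h.T_le_normBy hXT)
  refine (hU.le_normBy hUX).trans (hLH.trans (le_of_eq ?_))
  set Z := Cfsg.pCoreOf p M ⊓ centralizer (Cfsg.pCoreOf p M : Set G) with hZ
  have hZA : S.A ≤ normalizer (Z : Set G) :=
    TwoPrimes.le_normalizer_inf_centralizer (hM.mem.isMember_pCoreOf p).le_normalizer
  have hZM : M ≤ normalizer (Z : Set G) :=
    TwoPrimes.le_normalizer_inf_centralizer (H60.le_normalizer_pCoreOf M)
  have hZmem : S.IsMember Z := hM.mem.of_le (inf_le_left.trans (H60.pCoreOf_le M)) hZA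
  have hZH : Z ≤ H := (hZmem.le_normBy
    (inf_le_right.trans ((centralizer_le hXF).trans (centralizer_le_normalizer _)))).trans hLH
  have hQH : Cfsg.pCoreOf q M ≤ H := ((hM.mem.isMember_pCoreOf q).le_normBy
    ((pCore_le_centralizer_pCore h.hpq.symm M).trans
      ((centralizer_le hXF).trans (centralizer_le_normalizer _)))).trans hLH
  have hZ0 : Z ≠ ⊥ := H60.inf_centralizer_ne_bot (H60.pCoreOf_isPGroup M) (H60.pCoreOf_isPGroup M)
    Subgroup.le_normalizer hFp
  exact h.eq_of_shared hM hH hFp hFq inf_le_left le_rfl hZH hQH hZ0 hFq hZA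
    (hM.mem.isMember_pCoreOf q).le_normalizer
    (fun V hV hn _ => h.le_of_normal hM hZmem hZ0 hZM hV hn)
    (fun V hV hn _ => h.le_of_normal_core hM hFq hV hn)
    (inf_le_right.trans hZM) (inf_le_right.trans (H60.le_normalizer_pCoreOf M))

/-- A member containing `T` and meeting both cores of `M` lies in `M`. -/
theorem le_of_meets {M U : Subgroup G} (hM : S.IsHH M)
    (hFp : Cfsg.pCoreOf p M ≠ ⊥) (hFq : Cfsg.pCoreOf q M ≠ ⊥)
    (hU : S.IsMember U) (hTU : S.T ≤ U) (hUp : Cfsg.pCoreOf p M ⊓ U ≠ ⊥)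
    (hUq : Cfsg.pCoreOf q M ⊓ U ≠ ⊥) : U ≤ M := by
  obtain ⟨H, hH, hUH⟩ := exists_isHH hU hTU
  refine hUH.trans (le_of_eq ?_)
  have hA : ∀ s : ℕ, S.A ≤ normalizer ((Cfsg.pCoreOf s M ⊓ H : Subgroup G) : Set G) := fun s =>
    Setup.le_normalizer_inf (hM.mem.isMember_pCoreOf s).le_normalizer hH.le_normalizer
  have hT : ∀ s : ℕ, S.T ≤ normalizer ((Cfsg.pCoreOf s M ⊓ H : Subgroup G) : Set G) := fun s =>
    H60.le_normalizer_inf (hM.T_le.trans (H60.le_normalizer_pCoreOf M)) hH.T_le_normalizer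
  have hn : ∀ s : ℕ, H ⊓ M ≤ normalizer ((Cfsg.pCoreOf s M ⊓ H : Subgroup G) : Set G) := fun s =>
    H60.le_normalizer_inf (inf_le_right.trans (H60.le_normalizer_pCoreOf M))
      (inf_le_left.trans Subgroup.le_normalizer)
  have hX0 : Cfsg.pCoreOf p M ⊓ H ≠ ⊥ := fun e =>
    hUp (le_bot_iff.mp ((inf_le_inf_left _ hUH).trans e.le))
  have hY0 : Cfsg.pCoreOf q M ⊓ H ≠ ⊥ := fun e =>
    hUq (le_bot_iff.mp ((inf_le_inf_left _ hUH).trans e.le))
  exact h.eq_of_shared hM hH hFp hFq inf_le_left inf_le_left inf_le_right inf_le_right hX0 hY0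
    (hA p) (hA q)
    (fun V hV hVn _ => h.le_of_subcore hM hFp hFq inf_le_left hX0 (hA p) (hT p) hV hVn)
    (fun V hV hVn _ => h.symm.le_of_subcore hM hFq hFp inf_le_left hY0 (hA q) (hT q) hV hVn)
    (hn p) (hn q)

/-- A good point. -/
theorem theta_le_of_good {M : Subgroup G} (hM : S.IsHH M)
    (hFp : Cfsg.pCoreOf p M ≠ ⊥) (hFq : Cfsg.pCoreOf q M ≠ ⊥) {a : G} (ha : a ∈ S.A) (h1 : a ≠ 1)
    (hp : Cfsg.pCoreOf p M ⊓ centralizer {a} ≠ ⊥)
    (hq : Cfsg.pCoreOf q M ⊓ centralizer {a} ≠ ⊥) : S.θ a ≤ M := by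
  have key : ∀ {s : ℕ}, Cfsg.pCoreOf s M ⊓ centralizer {a} ≤ Cfsg.pCoreOf s M ⊓ S.θ a :=
    fun {s} x hx => ⟨hx.1, hM.mem.inf_centralizer_le ha h1 ⟨H60.pCoreOf_le M hx.1, hx.2⟩⟩
  exact h.le_of_meets hM hFp hFq (isMember_theta ha h1) (Setup.T_le ha h1)
    (fun e => hp (le_bot_iff.mp (key.trans e.le))) (fun e => hq (le_bot_iff.mp (key.trans e.le)))

/-- The normalizer of an invariant abelian `p`-subgroup of `M` meeting `O_p(M)` lies in `M`. -/
theorem normBy_le_of_abelian {M Z : Subgroup G} (hM : S.IsHH M)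
    (hFp : Cfsg.pCoreOf p M ≠ ⊥) (hFq : Cfsg.pCoreOf q M ≠ ⊥) (hZM : Z ≤ M) (hZp : IsPGroup p Z)
    (hZc : IsMulCommutative Z) (hZA : S.A ≤ normalizer (Z : Set G))
    (hZT : S.T ≤ normalizer (Z : Set G)) (hX0 : Z ⊓ Cfsg.pCoreOf p M ≠ ⊥) :
    S.normBy Z ≤ M := by
  set Fp := Cfsg.pCoreOf p M with hFpdef
  set Fq := Cfsg.pCoreOf q M with hFqdef
  have hFpA : S.A ≤ normalizer (Fp : Set G) := (hM.mem.isMember_pCoreOf p).le_normalizer
  have hFqA : S.A ≤ normalizer (Fq : Set G) := (hM.mem.isMember_pCoreOf q).le_normalizer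
  have hFpT : S.T ≤ normalizer (Fp : Set G) := hM.T_le.trans (H60.le_normalizer_pCoreOf M)
  have hFqT : S.T ≤ normalizer (Fq : Set G) := hM.T_le.trans (H60.le_normalizer_pCoreOf M)
  have hFpr : ¬ r ∣ Nat.card Fp := (hM.mem.isMember_pCoreOf p).not_dvd
  have hFqr : ¬ r ∣ Nat.card Fq := (hM.mem.isMember_pCoreOf q).not_dvd
  have hZmem : S.IsMember Z := hM.mem.of_le hZM hZA
  have hZ0 : Z ≠ ⊥ := fun e => hX0 (by rw [e, bot_inf_eq])
  set N := S.normBy Z with hNdef
  have hNmem : S.IsMember N := h.min.isMember_normBy hZmem hZ0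
  set X := Z ⊓ Fp with hXdef
  have hXA : S.A ≤ normalizer (X : Set G) := Setup.le_normalizer_inf hZA hFpA
  have hXT : S.T ≤ normalizer (X : Set G) := H60.le_normalizer_inf hZT hFpT
  by_contra hNM
  obtain ⟨B, hB, hBN⟩ : ∃ B, S.IsLine B ∧ ¬ N ⊓ S.C B ≤ M := by
    by_contra hc
    push Not at hc
    exact hNM (hNmem.le_of_C hc)
  set N' := N ⊓ S.C B with hN'
  have hN'mem : S.IsMember N' := hNmem.of_le inf_le_left
    (Setup.le_normalizer_inf hNmem.le_normalizer (le_normalizer_C hB.1))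
  have hTN' : S.T ≤ N' := le_inf (h.T_le_normBy hZT) (T_le_C hB.1)
  have hN'Z : N' ≤ normalizer (Z : Set G) := inf_le_left.trans normBy_le_normalizer
  have hN'cent : N' ≤ centralizer (B : Set G) := inf_le_right.trans (C_le_centralizer hB.1)
  have hmono : ∀ {U D : Subgroup G} {d : G}, d ∈ D →
      U ⊓ centralizer (D : Set G) ≠ ⊥ → U ⊓ centralizer {d} ≠ ⊥ := fun hd hne e =>
    hne (le_bot_iff.mp ((inf_le_inf_left _ (H40.mem_centralizer_singleton_of hd)).trans e.le))
  have hline2 : ∀ {D : Subgroup G}, S.IsLine D → r ^ 2 ≤ Nat.card D := fun hD => hD.2.ge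
  have hpoint : ∀ {D U : Subgroup G}, S.IsLine D → S.A ≤ normalizer (U : Set G) →
      ¬ r ∣ Nat.card U → U ≠ ⊥ → ∃ d ∈ D, d ≠ 1 ∧ U ⊓ centralizer {d} ≠ ⊥ := by
    intro D U hD hUA hUr hU0
    by_contra hc
    push Not at hc
    exact hU0 (le_bot_iff.mp (le_of_points hD.1 (hline2 hD) hUr (hD.1.trans hUA)
      fun d hd hd1 => (hc d hd hd1).le))
  have hsmall : ∀ {D C : Subgroup G}, S.IsLine D → C ≤ D → C.relIndex D ≤ r →
      ∃ c ∈ C, c ≠ 1 := by
    intro D C hD hC hi
    refine C.bot_or_exists_ne_one.resolve_left fun e => ?_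
    rw [e, relIndex_bot_left, hD.2] at hi
    have := hr.out.two_le
    nlinarith
  have hbad : ∀ a ∈ B, a ≠ 1 → Fp ⊓ centralizer {a} ≠ ⊥ → Fq ⊓ centralizer {a} = ⊥ := by
    intro a ha h1 hp
    by_contra hq
    exact hBN (inf_le_right.trans ((C_le ha h1).trans
      (h.theta_le_of_good hM hFp hFq (hB.1 ha) h1 hp hq)))
  set X₂ := Z ⊓ centralizer (Fq : Set G) with hX₂
  have hX₂A : S.A ≤ normalizer (X₂ : Set G) :=
    Setup.le_normalizer_inf hZA (hFqA.trans (H60.normalizer_le_normalizer_centralizer Fq))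
  have hZFq : Z ≤ normalizer (Fq : Set G) := hZM.trans (H60.le_normalizer_pCoreOf M)
  have hfrob : ∀ a ∈ S.A, Fq ⊓ centralizer {a} = ⊥ → ⁅Z, zpowers a⁆ ≤ X₂ := fun a ha hq =>
    le_inf (Coprime.commutator_le_left_of_normalizer (zpowers_le.mpr (hZA ha)))
      (commutator_le_centralizer_of_fpf h.hpq h.hpr hZp hZc (H60.pCoreOf_isPGroup M)
        (S.elem.2 a ha) (hZA ha) (hFqA ha) hZFq hq)
  -- an invariant part of `Z` centralizing `O_q(M)`, normalized by `N'`, is trivial
  have hkill : ∀ a ∈ B, ⁅Z, zpowers a⁆ ≤ X₂ → a ∈ centralizer (Z : Set G) := by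
    intro a ha hle
    set W := ⁅Z, zpowers a⁆ with hW
    have haA : a ∈ S.A := hB.1 ha
    have hWn : ∀ {g : G}, g ∈ normalizer (Z : Set G) → g * a = a * g →
        g ∈ normalizer (W : Set G) := fun {g} hg hga =>
      Coprime.mem_normalizer_commutator hg (centralizer_le_normalizer _
        (by rw [H42.centralizer_zpowers']; exact mem_centralizer_singleton_iff.mpr hga))
    have hWA : S.A ≤ normalizer (W : Set G) := fun b hb =>
      hWn (hZA hb) (H40.elemAb_commute S.elem hb haA)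
    have hN'W : N' ≤ normalizer (W : Set G) := fun n hn =>
      hWn (hN'Z hn) ((mem_centralizer_iff.mp (hN'cent hn) a ha).symm)
    have hWZ : W ≤ Z := hle.trans inf_le_left
    suffices hW0 : W = ⊥ from
      le_centralizer_iff.mp (commutator_eq_bot_iff_le_centralizer.mp hW0) (mem_zpowers a)
    by_contra hW0
    have hWT : S.T ≤ normalizer (W : Set G) := hTN'.trans hN'W
    have hWmem : S.IsMember W := hZmem.of_le hWZ hWA
    have hL := h.min.isMember_normBy hWmem hW0
    have hXW : X ≤ normalizer (W : Set G) := by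
      refine le_trans ?_ (centralizer_le_normalizer _)
      haveI := hZc
      exact inf_le_left.trans ((le_centralizer Z).trans (centralizer_le hWZ))
    have hqL : Fq ≤ S.normBy W := (hM.mem.isMember_pCoreOf q).le_normBy
      ((le_centralizer_iff.mp (hle.trans inf_le_right)).trans (centralizer_le_normalizer _))
    refine hBN ((hN'mem.le_normBy hN'W).trans
      (h.le_of_meets hM hFp hFq hL (h.T_le_normBy hWT) ?_ ?_))
    · exact fun e => hX0 (le_bot_iff.mp ((le_inf inf_le_right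
        ((hZmem.of_le inf_le_left hXA).le_normBy hXW)).trans e.le))
    · rwa [inf_eq_left.mpr hqL]
  -- the distinguished point `E`
  set E := B ⊓ centralizer (Z : Set G) with hE
  have hEp : ∀ b ∈ B, b ≠ 1 → Fp ⊓ centralizer {b} ≠ ⊥ → b ∈ E := fun b hb h1 hp =>
    ⟨hb, hkill b hb (hfrob b (hB.1 hb) (hbad b hb h1 hp))⟩
  have hEB : E ≠ B := by
    intro e
    obtain ⟨b, hb, h1, hq⟩ := hpoint hB hFqA hFqr hFq
    refine hq (hbad b hb h1 fun hp => hX0 (le_bot_iff.mp (le_trans (le_inf inf_le_right ?_) hp.le)))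
    exact inf_le_left.trans ((le_centralizer_iff.mp (e.ge.trans inf_le_right)).trans
      (H40.mem_centralizer_singleton_of hb))
  obtain ⟨e, heB, he1, hep⟩ := hpoint hB hFpA hFpr hFp
  have heE : e ∈ E := hEp e heB he1 hep
  have hEc : Nat.card E = r := by
    obtain ⟨i, hi, hEi⟩ := (Nat.dvd_prime_pow hr.out).mp
      (hB.2 ▸ Subgroup.card_dvd_of_le (inf_le_left : E ≤ B))
    interval_cases i
    · rw [pow_zero, card_eq_one] at hEi
      have : e ∈ (⊥ : Subgroup G) := hEi ▸ heE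
      exact absurd (mem_bot.mp this) he1
    · rw [hEi, pow_one]
    · exact absurd (Subgroup.eq_of_le_of_card_ge inf_le_left (by rw [hB.2, hEi])) hEB
  have hEA : E ≤ S.A := inf_le_left.trans hB.1
  have hFpE : Fp ≤ centralizer (E : Set G) := by
    refine H40.le_of_hyperplanes (H40.elemAb_mono S.elem hB.1) hFpr (hB.1.trans hFpA)
      fun C hC hi => ?_
    by_cases h0 : Fp ⊓ centralizer (C : Set G) = ⊥
    · rw [h0]; exact bot_le
    have hCE : C ≤ E := fun c hc => by
      by_cases h1 : c = 1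
      · rw [h1]; exact one_mem _
      · exact hEp c (hC hc) h1 (hmono hc h0)
    obtain ⟨c, hc, hc1⟩ := hsmall hB hC hi
    exact inf_le_right.trans (centralizer_le (le_of_prime_card hEc (hCE hc) hc hc1))
  have hsupp : ∀ l, S.IsLine l → Fp ⊓ centralizer (l : Set G) ≠ ⊥ → E ≤ l := by
    intro l hl hne
    obtain ⟨b, ⟨hbl, hbB⟩, hb1⟩ := hl.exists_inter hB
    exact le_of_prime_card hEc (hEp b hbB hb1 (hmono hbl hne)) hbl hb1
  set k := S.A ⊓ Coprime.relCentralizer X₂ Z with hk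
  have hk_iff : ∀ a ∈ S.A, (⁅Z, zpowers a⁆ ≤ X₂ ↔ a ∈ k) := by
    intro a ha
    rw [commutator_comm]
    refine ⟨fun hle => ⟨ha, hX₂A ha,
      fun z hz => hle (commutator_mem_commutator (mem_zpowers a) hz)⟩,
      fun hle => Coprime.commutator_le_of_le_relCentralizer (zpowers_le.mpr hle.2)⟩
  have hgood : ∀ a ∈ S.A, a ∉ k → Fq ⊓ centralizer {a} ≠ ⊥ := fun a ha hak hq =>
    hak ((hk_iff a ha).mp (hfrob a ha hq))
  have hkB : k ⊓ B = E := by
    refine le_antisymm (fun g hg => ⟨hg.2, hkill g hg.2 ((hk_iff g hg.1.1).mpr hg.1)⟩) ?_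
    intro x hx
    refine ⟨(hk_iff x (hEA hx)).mp ?_, hx.1⟩
    refine le_trans (le_of_eq ?_) bot_le
    rw [commutator_eq_bot_iff_le_centralizer, le_centralizer_iff, zpowers_le]
    exact hx.2
  by_cases hcase : ∃ l, S.IsLine l ∧ Fp ⊓ centralizer (l : Set G) ≠ ⊥ ∧ ¬ l ≤ k
  · obtain ⟨l, hl, hne, hlk⟩ := hcase
    refine h.min.not_commutators_le (hB.1 heB) he1 hM.mem fun D hD heD x hx => ?_
    obtain ⟨d, ⟨hdl, hdD⟩, hd1⟩ := hl.exists_inter hD
    have hdk : d ∉ k := by
      intro hdk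
      have hElk : E ≤ l ⊓ k := le_inf (hsupp l hl hne) (hkB ▸ inf_le_left)
      obtain ⟨i, hi, hlki⟩ := (Nat.dvd_prime_pow hr.out).mp
        (hl.2 ▸ Subgroup.card_dvd_of_le (inf_le_left : l ⊓ k ≤ l))
      have hle : Nat.card ↥(l ⊓ k) ≤ Nat.card E := by
        rw [hEc, hlki]
        interval_cases i
        · rw [pow_zero]; exact hr.out.pos
        · simp
        · exact absurd ((Subgroup.eq_of_le_of_card_ge inf_le_left (by rw [hl.2, hlki])).ge.trans
            inf_le_right) hlk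
      have heq := Subgroup.eq_of_le_of_card_ge hElk hle
      have hdE : d ∈ E := heq ▸ (⟨hdl, hdk⟩ : d ∈ l ⊓ k)
      exact heD (le_of_prime_card hEc hdE hdD hd1 heE)
    have hxM : x ∈ M := (C_le hdD hd1).trans
      (h.theta_le_of_good hM hFp hFq (hD.1 hdD) hd1 (hmono hdl hne) (hgood d (hD.1 hdD) hdk)) hx
    rw [commutatorElement_def, mul_assoc x, mul_assoc x]
    exact mul_mem hxM (Coprime.conj_mem (hM.le_normalizer (hB.1 heB)) (inv_mem hxM))
  push Not at hcase
  obtain ⟨l, hl, hne⟩ : ∃ l, S.IsLine l ∧ Fp ⊓ centralizer (l : Set G) ≠ ⊥ := by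
    by_contra hc
    push Not at hc
    exact hFp (le_bot_iff.mp (le_of_lines hFpr hFpA fun D hD => (hc D hD).le))
  have hlk : l ≤ k := hcase l hl hne
  have hkc : Nat.card k ≤ r ^ 2 := by
    obtain ⟨i, hi, hki⟩ := (Nat.dvd_prime_pow hr.out).mp
      (S.card_A ▸ Subgroup.card_dvd_of_le (inf_le_left : k ≤ S.A))
    rw [hki]
    rcases Nat.lt_or_ge i 3 with h3 | h3
    · exact Nat.pow_le_pow_right hr.out.pos (by omega)
    · exfalso
      have hkA : k = S.A := Subgroup.eq_of_le_of_card_ge inf_le_left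
        (by rw [S.card_A, hki]; exact Nat.pow_le_pow_right hr.out.pos h3)
      rw [hkA, inf_eq_right.mpr hB.1] at hkB
      exact hEB hkB.symm
  have hlk' : l = k := Subgroup.eq_of_le_of_card_ge hlk (by rw [hl.2]; exact hkc)
  have hFpk : Fp ≤ centralizer (k : Set G) := by
    refine le_of_lines hFpr hFpA fun D hD => ?_
    by_cases h0 : Fp ⊓ centralizer (D : Set G) = ⊥
    · rw [h0]; exact bot_le
    · have : D = k := Subgroup.eq_of_le_of_card_ge (hcase D hD h0) (by rw [hD.2]; exact hkc)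
      rw [this]; exact inf_le_right
  have hkZ : k ≤ centralizer (Z : Set G) := by
    intro a ha
    have hcop := coprime_zpowers h.hpr hZp (S.elem.2 a ha.1)
    refine Coprime.le_centralizer_of_commutator_le (zpowers_le.mpr (hZA ha.1)) hcop
      ((hk_iff a ha.1).mpr ha) ?_ (mem_zpowers a)
    -- `k` centralizes `X₂`
    have hX₂Fp : X₂ ≤ normalizer (Fp : Set G) :=
      inf_le_left.trans (hZM.trans (H60.le_normalizer_pCoreOf M))
    have haFp : ⁅zpowers a, Fp⁆ = ⊥ := commutator_eq_bot_iff_le_centralizer.mpr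
      ((zpowers_le.mpr ha).trans (le_centralizer_iff.mp hFpk))
    have hW1 : ⁅⁅X₂, zpowers a⁆, Fp⁆ = ⊥ := by
      refine commutator_commutator_eq_bot_of_rotate ?_ ?_
      · rw [haFp, commutator_bot_left]
      · refine le_bot_iff.mp ((commutator_mono
          (Coprime.commutator_le_left_of_normalizer hX₂Fp) le_rfl).trans (le_of_eq ?_))
        rw [commutator_comm, haFp]
    have hW2 : ⁅X₂, zpowers a⁆ ≤ X₂ :=
      Coprime.commutator_le_left_of_normalizer (zpowers_le.mpr (hX₂A ha.1))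
    have hWF : ⁅X₂, zpowers a⁆ ≤ Fp ⊔ Fq := by
      refine le_trans (le_inf (hW2.trans (inf_le_left.trans hZM)) ?_)
        (h.inf_centralizer_le hM.mem hM.T_le_normalizer)
      rw [le_centralizer_iff, sup_le_iff, le_centralizer_iff, le_centralizer_iff]
      exact ⟨commutator_eq_bot_iff_le_centralizer.mp ((commutator_comm _ _).trans hW1), le_centralizer_iff.mp (hW2.trans inf_le_right)⟩
    have hWFp : ⁅X₂, zpowers a⁆ ≤ Fp := by
      intro x hx
      obtain ⟨g, hg, f, hf, hgf⟩ := (Coprime.mem_sup_iff ((H60.pCoreOf_le (p := q) M).trans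
        (H60.le_normalizer_pCoreOf (p := p) M))).mp (hWF hx)
      have hfp : f = 1 := by
        have hcomm : Commute g f :=
          (mem_centralizer_iff.mp (pCore_le_centralizer_pCore h.hpq M hg) f hf).symm
        obtain ⟨i, hi⟩ := (hZp.to_le (hW2.trans inf_le_left)) ⟨x, hx⟩
        obtain ⟨j, hj⟩ := H60.pCoreOf_isPGroup (p := p) M ⟨g, hg⟩
        obtain ⟨n, hn⟩ := H60.pCoreOf_isPGroup (p := q) M ⟨f, hf⟩
        have hi' : x ^ p ^ i = 1 := congrArg Subtype.val hi
        have hj' : g ^ p ^ j = 1 := congrArg Subtype.val hj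
        have hn' : f ^ q ^ n = 1 := congrArg Subtype.val hn
        have h3 : f ^ (p ^ i * p ^ j) = 1 := by
          have h4 : x ^ (p ^ i * p ^ j) = 1 := by rw [pow_mul, hi', one_pow]
          rwa [← hgf, hcomm.mul_pow, mul_comm (p ^ i), pow_mul g, hj', one_pow, one_mul,
            mul_comm (p ^ j)] at h4
        rw [← orderOf_eq_one_iff]
        refine Nat.eq_one_of_dvd_coprimes ?_ (orderOf_dvd_of_pow_eq_one h3)
          (orderOf_dvd_of_pow_eq_one hn')
        rw [← pow_add]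
        exact ((Nat.coprime_primes Fact.out Fact.out).mpr h.hpq).pow _ _
      rw [← hgf, hfp, mul_one]
      exact hg
    have hX₂p : IsPGroup p X₂ := hZp.to_le inf_le_left
    exact Coprime.le_centralizer_of_commutator_le_centralizer (zpowers_le.mpr (hX₂A ha.1))
      (coprime_zpowers h.hpr hX₂p (S.elem.2 a ha.1))
      (hWFp.trans (hFpk.trans (centralizer_le (zpowers_le.mpr ha))))
  subst hlk'
  obtain ⟨d, hd, hd1, hdq⟩ := hpoint hl hFqA hFqr hFq
  have hdp : Fp ⊓ centralizer {d} ≠ ⊥ := by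
    rw [inf_eq_left.mpr (hFpk.trans (H40.mem_centralizer_singleton_of hd))]
    exact hFp
  have hdA : d ∈ S.A := hl.1 hd
  set N'' := ⁅N', zpowers d⁆ with hN''
  have hdN : zpowers d ≤ normalizer (N' : Set G) := zpowers_le.mpr (hN'mem.le_normalizer hdA)
  have hN''le : N'' ≤ N' := Coprime.commutator_le_left_of_normalizer hdN
  have hdZ : ⁅zpowers d, Z⁆ = ⊥ :=
    commutator_eq_bot_iff_le_centralizer.mpr (zpowers_le.mpr (hkZ hd))
  have hN''Z : ⁅N'', Z⁆ = ⊥ := by
    refine commutator_commutator_eq_bot_of_rotate ?_ ?_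
    · rw [hdZ, commutator_bot_left]
    · refine le_bot_iff.mp ((commutator_mono
        (Coprime.commutator_le_left_of_normalizer hN'Z) le_rfl).trans (le_of_eq ?_))
      rw [commutator_comm, hdZ]
  have hN''A : S.A ≤ normalizer (N'' : Set G) := fun b hb =>
    Coprime.mem_normalizer_commutator (hN'mem.le_normalizer hb) (centralizer_le_normalizer _
      ((A_le_centralizer_A.trans (centralizer_le (zpowers_le.mpr hdA))) hb))
  have hN''M : N'' ≤ M := h.le_of_subcore hM hFp hFq (inf_le_right : X ≤ Fp) hX0 hXA hXT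
    (hN'mem.of_le hN''le hN''A)
    ((commutator_eq_bot_iff_le_centralizer.mp hN''Z).trans
      ((centralizer_le (inf_le_left : X ≤ Z)).trans (centralizer_le_normalizer _)))
  have hCM : N' ⊓ centralizer (zpowers d : Set G) ≤ M := by
    rw [H42.centralizer_zpowers']
    exact (hN'mem.inf_centralizer_le hdA hd1).trans (h.theta_le_of_good hM hFp hFq hdA hd1 hdp hdq)
  refine hBN ?_
  rw [← Coprime.commutator_sup_centralizer hdN
    ((coprime_A hN'mem.not_dvd).coprime_dvd_left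
      (Subgroup.card_dvd_of_le (zpowers_le.mpr hdA)))
    (Or.inl (Coprime.isSolvable_zpowers d))]
  exact sup_le hN''M hCM

/-- The largest invariant `p`-member lies in `M`. -/
theorem pMax_le {M : Subgroup G} (hM : S.IsHH M) (hFp : Cfsg.pCoreOf p M ≠ ⊥)
    (hFq : Cfsg.pCoreOf q M ≠ ⊥) : S.pMax p ≤ M := by
  set P' := S.pMax p ⊓ M with hP'
  have hFpP : Cfsg.pCoreOf p M ≤ P' :=
    le_inf (hM.mem.pCoreOf_le_pMax h.hpr hM.T_le_normalizer) (H60.pCoreOf_le M)
  have hP'A : S.A ≤ normalizer (P' : Set G) :=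
    Setup.le_normalizer_inf A_le_normalizer_pMax hM.le_normalizer
  have hP'T : S.T ≤ normalizer (P' : Set G) :=
    H60.le_normalizer_inf T_le_normalizer_pMax hM.T_le_normalizer
  set Z := P' ⊓ centralizer (P' : Set G) with hZ
  have hP'p : IsPGroup p P' := isPGroup_pMax.to_le inf_le_left
  have hX0 : Z ⊓ Cfsg.pCoreOf p M ≠ ⊥ := by
    intro e
    refine H60.inf_centralizer_ne_bot hP'p (H60.pCoreOf_isPGroup M)
      (inf_le_right.trans (H60.le_normalizer_pCoreOf M)) hFp (le_bot_iff.mp ?_)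
    exact (le_inf (le_inf (inf_le_left.trans hFpP) inf_le_right) inf_le_left).trans e.le
  have hle := h.normBy_le_of_abelian hM hFp hFq (inf_le_left.trans inf_le_right)
    (hP'p.to_le inf_le_left) (centre_isMulCommutative P')
    (TwoPrimes.le_normalizer_inf_centralizer hP'A) (TwoPrimes.le_normalizer_inf_centralizer hP'T) hX0
  have hN : S.pMax p ⊓ normalizer (P' : Set G) ≤ P' := by
    refine le_inf inf_le_left (le_trans ?_ hle)
    exact (isMember_pMax.of_le inf_le_left (Setup.le_normalizer_inf A_le_normalizer_pMax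
      (hP'A.trans Subgroup.le_normalizer))).le_normBy
        (inf_le_right.trans (TwoPrimes.le_normalizer_inf_centralizer le_rfl))
  exact (eq_of_inf_normalizer_le isPGroup_pMax inf_le_left hN).ge.trans inf_le_right

/-- A maximal member with `O_q = 1` lies in the mixed member `M`. -/
theorem colour_le {M H : Subgroup G} (hM : S.IsHH M) (hFp : Cfsg.pCoreOf p M ≠ ⊥)
    (hFq : Cfsg.pCoreOf q M ≠ ⊥) (hH : S.IsHH H) (hq : Cfsg.pCoreOf q H = ⊥) : H ≤ M := by
  set P := Cfsg.pCoreOf p H with hP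
  have hP0 : P ≠ ⊥ := h.colour_ne_bot hH hq
  have hPle : P ≤ S.pMax p := hH.mem.pCoreOf_le_pMax h.hpr hH.T_le_normalizer
  set Y := S.pMax p with hY
  have hYp : IsPGroup p Y := isPGroup_pMax
  set Z := P ⊓ centralizer (P : Set G) with hZ
  have hFY : Cfsg.pCoreOf p M ≤ Y := hM.mem.pCoreOf_le_pMax h.hpr hM.T_le_normalizer
  have hYFn : Y ≤ normalizer (Cfsg.pCoreOf p M : Set G) :=
    (h.pMax_le hM hFp hFq).trans (H60.le_normalizer_pCoreOf M)
  have hle : Cfsg.pCoreOf p M ⊓ centralizer (Y : Set G) ≤ Z := by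
    have hCA : S.A ≤ normalizer ((Cfsg.pCoreOf p M ⊓ centralizer (Y : Set G) : Subgroup G) : Set G) :=
      H60.le_normalizer_inf (hM.mem.isMember_pCoreOf p).le_normalizer
        (A_le_normalizer_pMax.trans (H60.normalizer_le_normalizer_centralizer Y))
    have hCP : Cfsg.pCoreOf p M ⊓ centralizer (Y : Set G) ≤ centralizer (P : Set G) :=
      inf_le_right.trans (centralizer_le hPle)
    have hCH := h.le_of_normal_core hH hP0
      (hM.mem.of_le (inf_le_left.trans (H60.pCoreOf_le M)) hCA)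
      (hCP.trans (centralizer_le_normalizer _))
    exact le_inf ((le_inf hCH hCP).trans (h.colour_inf_centralizer hH hq)) hCP
  have hX0 : Z ⊓ Cfsg.pCoreOf p M ≠ ⊥ := fun e =>
    H60.inf_centralizer_ne_bot hYp (H60.pCoreOf_isPGroup M) hYFn hFp
      (le_bot_iff.mp ((le_inf hle inf_le_left).trans e.le))
  refine (hH.mem.le_normBy (TwoPrimes.le_normalizer_inf_centralizer
    (H60.le_normalizer_pCoreOf H))).trans
    (h.normBy_le_of_abelian hM hFp hFq ((inf_le_left.trans hPle).trans (h.pMax_le hM hFp hFq))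
      ((H60.pCoreOf_isPGroup H).to_le inf_le_left) (centre_isMulCommutative P)
      (TwoPrimes.le_normalizer_inf_centralizer (hH.mem.isMember_pCoreOf p).le_normalizer)
      (TwoPrimes.le_normalizer_inf_centralizer
        (hH.T_le.trans (H60.le_normalizer_pCoreOf H))) hX0)

/-- No maximal member containing `T` has both cores nontrivial. -/
theorem mixed_false {M : Subgroup G} (hM : S.IsHH M) (hFp : Cfsg.pCoreOf p M ≠ ⊥)
    (hFq : Cfsg.pCoreOf q M ≠ ⊥) : False := by
  refine h.min.1 ⟨M, hM.mem, fun a ha h1 => ?_⟩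
  obtain ⟨H, hH, hle⟩ := exists_isHH_theta ha h1
  refine hle.trans ?_
  by_cases hp : Cfsg.pCoreOf p H = ⊥
  · exact h.symm.colour_le hM hFq hFp hH hp
  by_cases hq : Cfsg.pCoreOf q H = ⊥
  · exact h.colour_le hM hFp hFq hH hq
  have h1' := (hH.mem.pCoreOf_le_pMax h.hpr hH.T_le_normalizer).trans (h.pMax_le hM hFp hFq)
  have h2' := (hH.mem.pCoreOf_le_pMax h.hqr hH.T_le_normalizer).trans (h.symm.pMax_le hM hFq hFp)
  have hMH : M ≤ H := h.le_of_meets hH hp hq hM.mem hM.T_le
    (by rwa [inf_eq_left.mpr h1']) (by rwa [inf_eq_left.mpr h2'])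
  exact (hM.2.2 H hH.mem hMH).le

/-- Every maximal member containing `T` has a colour. -/
theorem colour_or {M : Subgroup G} (hM : S.IsHH M) :
    Cfsg.pCoreOf p M = ⊥ ∨ Cfsg.pCoreOf q M = ⊥ := by
  by_contra hc
  push Not at hc
  exact h.mixed_false hM hc.1 hc.2

end TwoColours

end Cfsg.Agent.Signalizer
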