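import Cfsg.Agent.Signalizer.TwoPrimesCores
import Cfsg.Agent.Signalizer.Pi
import Cfsg.Agent.Signalizer.Gen
import Cfsg.Agent.H46.SignalizerTrans

/-!
The two-colour hypothesis: only two primes have nontrivial invariant members. Maximal members
containing `T` and the largest `T`-invariant `p`-member.
-/

set_option autoImplicit false
set_option linter.unusedSectionVars false
set_option linter.style.haveILetI false

namespace Cfsg.Agent.Signalizer

open Subgroup TwoPrimes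

universe u

variable {G : Type u} [Group G] [Finite G] {r p q : ℕ} [hr : Fact r.Prime] [Fact p.Prime]
  [Fact q.Prime]

/-- The standing hypotheses of the two-prime case. -/
structure TwoColours (S : Setup G r) (p q : ℕ) : Prop where
  min : S.Minimal
  hpq : p ≠ q
  hpr : p ≠ r
  hqr : q ≠ r
  hY : ∀ x : ℕ, x.Prime → x ≠ p → x ≠ q → S.Y {x} = ⊥

theorem TwoColours.symm {S : Setup G r} (h : TwoColours S p q) : TwoColours S q p :=
  ⟨h.min, h.hpq.symm, h.hqr, h.hpr, fun x hx h1 h2 => h.hY x hx h2 h1⟩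

namespace Setup

/-- A maximal member containing `T`. -/
def IsHH (S : Setup G r) (M : Subgroup G) : Prop :=
  S.IsMember M ∧ S.T ≤ M ∧ ∀ H, S.IsMember H → M ≤ H → H = M

/-- The maximal `p`-members. -/
def maxP (S : Setup G r) (p : ℕ) : Set (Subgroup G) :=
  {Q | S.IsMember Q ∧ IsPGroup p Q ∧ ∀ R, S.IsMember R → IsPGroup p R → Q ≤ R → R = Q}

/-- The largest `T`-invariant `p`-member. -/
def pMax (S : Setup G r) (p : ℕ) : Subgroup G := ⨅ Q ∈ S.maxP p, Q

variable {S : Setup G r}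

theorem IsHH.mem {M : Subgroup G} (h : S.IsHH M) : S.IsMember M := h.1

theorem IsHH.T_le {M : Subgroup G} (h : S.IsHH M) : S.T ≤ M := h.2.1

theorem IsHH.le_normalizer {M : Subgroup G} (h : S.IsHH M) :
    S.A ≤ normalizer (M : Set G) := h.1.le_normalizer

theorem IsHH.T_le_normalizer {M : Subgroup G} (h : S.IsHH M) :
    S.T ≤ normalizer (M : Set G) := h.2.1.trans Subgroup.le_normalizer

theorem exists_isHH {U : Subgroup G} (hU : S.IsMember U) (hT : S.T ≤ U) :
    ∃ M, S.IsHH M ∧ U ≤ M := by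
  obtain ⟨M, h1, h2, h3⟩ := hU.exists_le_maximal
  exact ⟨M, ⟨h1, hT.trans h2, h3⟩, h2⟩

theorem exists_isHH_theta {a : G} (ha : a ∈ S.A) (h1 : a ≠ 1) : ∃ M, S.IsHH M ∧ S.θ a ≤ M :=
  exists_isHH (isMember_theta ha h1) (Setup.T_le ha h1)

theorem IsMember.isMember_pCoreOf {K : Subgroup G} (hK : S.IsMember K) (s : ℕ) :
    S.IsMember (Cfsg.pCoreOf s K) :=
  hK.of_le (H60.pCoreOf_le K) (hK.le_normalizer.trans (H60.normalizer_le_normalizer_pCoreOf K))

theorem isPiNumber_singleton_of_isPGroup {s : ℕ} [Fact s.Prime] {U : Subgroup G}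
    (h : IsPGroup s U) : Hall.IsPiNumber {s} (Nat.card U) := by
  intro x hx hd
  obtain ⟨n, hn⟩ := IsPGroup.iff_card.mp h
  rw [hn] at hd
  exact (Nat.prime_dvd_prime_iff_eq hx Fact.out).mp (hx.dvd_of_dvd_pow hd)

theorem pCoreOf_le_of_normal {J K : Subgroup G} (s : ℕ) (hJ : J ≤ K)
    (hn : K ≤ normalizer (J : Set G)) : Cfsg.pCoreOf s J ≤ Cfsg.pCoreOf s K :=
  H60.le_pCoreOf ((H60.pCoreOf_le J).trans hJ) (hn.trans (H60.normalizer_le_normalizer_pCoreOf J))
    (H60.pCoreOf_isPGroup J)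

end Setup

namespace TwoColours

open Setup

variable {S : Setup G r} (h : TwoColours S p q)
include h

theorem pCoreOf_eq_bot {K : Subgroup G} (hK : S.IsMember K) (hT : S.T ≤ normalizer (K : Set G))
    {x : ℕ} (hx : x.Prime) (hxp : x ≠ p) (hxq : x ≠ q) : Cfsg.pCoreOf x K = ⊥ := by
  haveI := Fact.mk hx
  rw [← le_bot_iff, ← h.hY x hx hxp hxq]
  exact (hK.isMember_pCoreOf x).le_Y (hT.trans (H60.normalizer_le_normalizer_pCoreOf K))
    (isPiNumber_singleton_of_isPGroup (H60.pCoreOf_isPGroup K))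

theorem inf_centralizer_le {K : Subgroup G} (hK : S.IsMember K)
    (hT : S.T ≤ normalizer (K : Set G)) :
    K ⊓ centralizer ((Cfsg.pCoreOf p K ⊔ Cfsg.pCoreOf q K : Subgroup G) : Set G) ≤
      Cfsg.pCoreOf p K ⊔ Cfsg.pCoreOf q K :=
  inf_centralizer_cores_le hK.solvable fun _x hx h1 h2 => h.pCoreOf_eq_bot hK hT hx h1 h2

theorem eq_bot_of_cores {K : Subgroup G} (hK : S.IsMember K) (hT : S.T ≤ normalizer (K : Set G))
    (hp : Cfsg.pCoreOf p K = ⊥) (hq : Cfsg.pCoreOf q K = ⊥) : K = ⊥ := by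
  have := h.inf_centralizer_le hK hT
  rw [hp, hq, sup_idem] at this
  refine le_bot_iff.mp (le_trans (le_inf le_rfl ?_) this)
  intro x _
  exact mem_centralizer_iff.mpr fun g hg => by simp [mem_bot.mp hg]

theorem pPrimeOf_inf_eq_bot {K : Subgroup G} (hK : S.IsMember K)
    (hT : S.T ≤ normalizer (K : Set G)) : pPrimeOf p K ⊓ pPrimeOf q K = ⊥ := by
  set J := pPrimeOf p K ⊓ pPrimeOf q K with hJ
  have hn : normalizer (K : Set G) ≤ normalizer (J : Set G) := H60.le_normalizer_inf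
    (normalizer_le_normalizer_pPrimeOf K) (normalizer_le_normalizer_pPrimeOf K)
  have hm := hK.of_le (inf_le_left.trans (pPrimeOf_le K)) (hK.le_normalizer.trans hn)
  refine h.eq_bot_of_cores hm (hT.trans hn) ?_ ?_
  · exact le_bot_iff.mp ((Cores.disjoint_of_isPGroup_of_coprime (H60.pCoreOf_isPGroup J)
      (coprime_pPrimeOf K)).le.trans' (le_inf le_rfl ((H60.pCoreOf_le J).trans inf_le_left)))
  · exact le_bot_iff.mp ((Cores.disjoint_of_isPGroup_of_coprime (H60.pCoreOf_isPGroup J)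
      (coprime_pPrimeOf K)).le.trans' (le_inf le_rfl ((H60.pCoreOf_le J).trans inf_le_right)))

theorem pPrimeOf_eq_bot {K : Subgroup G} (hK : S.IsMember K)
    (hT : S.T ≤ normalizer (K : Set G)) (hq : Cfsg.pCoreOf q K = ⊥) : pPrimeOf p K = ⊥ := by
  have hn := normalizer_le_normalizer_pPrimeOf (p := p) K
  refine h.eq_bot_of_cores (hK.of_le (pPrimeOf_le K) (hK.le_normalizer.trans hn)) (hT.trans hn)
    ?_ ?_
  · exact le_bot_iff.mp ((Cores.disjoint_of_isPGroup_of_coprime (H60.pCoreOf_isPGroup _)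
      (coprime_pPrimeOf K)).le.trans' (le_inf le_rfl (H60.pCoreOf_le _)))
  · exact le_bot_iff.mp ((pCoreOf_le_of_normal q (pPrimeOf_le K) (le_normalizer_pPrimeOf K)).trans
      hq.le)

theorem hh_ne_bot {M : Subgroup G} (hM : S.IsHH M) : M ≠ ⊥ := by
  rintro rfl
  exact h.min.1 ⟨⊥, hM.mem, fun a ha h1 => (hM.2.2 _ (isMember_theta ha h1) bot_le).le⟩

theorem colour_inf_centralizer {M : Subgroup G} (hM : S.IsHH M) (hq : Cfsg.pCoreOf q M = ⊥) :
    M ⊓ centralizer (Cfsg.pCoreOf p M : Set G) ≤ Cfsg.pCoreOf p M :=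
  inf_centralizer_pCoreOf_le hM.mem.solvable (h.pPrimeOf_eq_bot hM.mem hM.T_le_normalizer hq)

theorem colour_ne_bot {M : Subgroup G} (hM : S.IsHH M) (hq : Cfsg.pCoreOf q M = ⊥) :
    Cfsg.pCoreOf p M ≠ ⊥ := fun hp =>
  h.hh_ne_bot hM (h.eq_bot_of_cores hM.mem hM.T_le_normalizer hp hq)

theorem T_le_normBy {X : Subgroup G} (hT : S.T ≤ normalizer (X : Set G)) : S.T ≤ S.normBy X :=
  isMember_T.le_normBy hT

/-- Members normalizing a nontrivial normal member of `M` lie in it. -/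
theorem le_of_normal {M X U : Subgroup G} (hM : S.IsHH M) (hX : S.IsMember X) (hne : X ≠ ⊥)
    (hMX : M ≤ normalizer (X : Set G)) (hU : S.IsMember U) (hUX : U ≤ normalizer (X : Set G)) :
    U ≤ M := by
  rw [← hM.2.2 _ (h.min.isMember_normBy hX hne) (hM.mem.le_normBy hMX)]
  exact hU.le_normBy hUX

theorem le_of_normal_core {M U : Subgroup G} (hM : S.IsHH M) {s : ℕ}
    (hne : Cfsg.pCoreOf s M ≠ ⊥) (hU : S.IsMember U)
    (hUX : U ≤ normalizer (Cfsg.pCoreOf s M : Set G)) : U ≤ M :=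
  h.le_of_normal hM (hM.mem.isMember_pCoreOf s) hne (H60.le_normalizer_pCoreOf M) hU hUX

end TwoColours

namespace Setup

variable {S : Setup G r}

theorem exists_maxP {U : Subgroup G} (hU : S.IsMember U) (hp : IsPGroup p U) :
    ∃ Q ∈ S.maxP p, U ≤ Q := by
  obtain ⟨Q, h1, h2, h3, h4⟩ := H46.SignalizerTrans.exists_max hU hp
  exact ⟨Q, ⟨h1, h2, fun R hR => h4 R hR⟩, h3⟩

theorem exists_mem_maxP : ∃ Q, Q ∈ S.maxP p :=
  let ⟨Q, hQ, _⟩ := exists_maxP (p := p) (isMember_bot (S := S) hr.out) IsPGroup.of_bot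
  ⟨Q, hQ⟩

theorem isPGroup_pMax : IsPGroup p (S.pMax p) :=
  let ⟨Q, hQ⟩ := exists_mem_maxP (S := S) (p := p)
  hQ.2.1.to_le (iInf₂_le Q hQ)

theorem A_le_normalizer_pMax : S.A ≤ normalizer (S.pMax p : Set G) :=
  le_normalizer_iInf fun _ => le_normalizer_iInf fun hQ => hQ.1.le_normalizer

theorem isMember_pMax : S.IsMember (S.pMax p) :=
  let ⟨Q, hQ⟩ := exists_mem_maxP (S := S) (p := p)
  hQ.1.of_le (iInf₂_le Q hQ) A_le_normalizer_pMax

theorem conj_mem_maxP {c : G} (hc : c ∈ S.T) {Q : Subgroup G} (hQ : Q ∈ S.maxP p) :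
    Q.map (MulAut.conj c).toMonoidHom ∈ S.maxP p := by
  refine ⟨H46.SignalizerTrans.conj_mem_family S.functor hc hQ.1, hQ.2.1.map _, fun R hR hRp hle => ?_⟩
  have h := hQ.2.2 _ (H46.SignalizerTrans.conj_mem_family S.functor (inv_mem hc) hR) (hRp.map _) (by
    have h' := Subgroup.map_mono (f := (MulAut.conj c⁻¹).toMonoidHom) hle
    rwa [Coprime.map_conj_map_conj, inv_mul_cancel, Coprime.map_conj_one] at h')
  rw [← h, Coprime.map_conj_map_conj, mul_inv_cancel, Coprime.map_conj_one]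

theorem T_le_normalizer_pMax : S.T ≤ normalizer (S.pMax p : Set G) := by
  rw [le_normalizer_iff]
  intro c hc x hx
  simp only [pMax, mem_iInf] at hx ⊢
  intro Q hQ
  have h := hx _ (conj_mem_maxP (inv_mem hc) hQ)
  obtain ⟨y, hy, rfl⟩ := h
  simpa [mul_assoc] using hy

theorem IsMember.le_pMax (hpr : p ≠ r) {U : Subgroup G} (hU : S.IsMember U) (hp : IsPGroup p U)
    (hT : S.T ≤ normalizer (U : Set G)) : U ≤ S.pMax p := by
  refine le_iInf₂ fun Q hQ => ?_
  obtain ⟨Q', hQ', hle⟩ := exists_maxP hU hp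
  obtain ⟨c, hc, he⟩ := H46.SignalizerTrans.transitive S.elem S.card_A.ge S.functor hpr Q' Q
    hQ'.1 hQ'.2.1 (fun R hR => hQ'.2.2 R hR) hQ.1 hQ.2.1 (fun R hR => hQ.2.2 R hR)
  rw [← he, ← Coprime.map_conj_eq (hT hc)]
  exact Subgroup.map_mono hle

theorem IsMember.pCoreOf_le_pMax (hpr : p ≠ r) {K : Subgroup G} (hK : S.IsMember K)
    (hT : S.T ≤ normalizer (K : Set G)) : Cfsg.pCoreOf p K ≤ S.pMax p :=
  (hK.isMember_pCoreOf p).le_pMax hpr (H60.pCoreOf_isPGroup K)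
    (hT.trans (H60.normalizer_le_normalizer_pCoreOf K))

end Setup

end Cfsg.Agent.Signalizer
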