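import Cfsg.Agent.Signalizer.TwoPrimesFactor
import Cfsg.Agent.S1288

/-!
The subgroup `Y2` and the step showing that the line part `C(F)` normalizes it.
-/

set_option autoImplicit false
set_option linter.unusedSectionVars false
set_option linter.style.haveILetI false

namespace Cfsg.Agent.Signalizer

open Subgroup TwoPrimes Setup
open scoped commutatorElement

universe u

variable {G : Type u} [Group G] [Finite G] {r p q : ℕ} [hr : Fact r.Prime] [Fact p.Prime]
  [Fact q.Prime]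

namespace Setup

/-- The elements of `Y_p` whose conjugates under every line part stay in `Y_p`. -/
def yTwo (S : Setup G r) (p : ℕ) : Subgroup G :=
  S.pMax p ⊓ ⨅ D : {D : Subgroup G // S.IsLine D}, ⨅ g : S.C D,
    (S.pMax p).comap (MulAut.conj (g : G)).toMonoidHom

/-- The value at `x` lies in a maximal member with trivial `q`-core. -/
def Capable (S : Setup G r) (q : ℕ) (x : G) : Prop :=
  ∃ H, S.IsHH H ∧ S.θ x ≤ H ∧ Cfsg.pCoreOf q H = ⊥

variable {S : Setup G r}

theorem mem_yTwo {x : G} : x ∈ S.yTwo p ↔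
    x ∈ S.pMax p ∧ ∀ D, S.IsLine D → ∀ g ∈ S.C D, g * x * g⁻¹ ∈ S.pMax p := by
  rw [yTwo, mem_inf, mem_iInf]
  refine and_congr_right fun _ => ⟨fun h D hD g hg => ?_, fun h D => mem_iInf.mpr fun g => ?_⟩
  · exact (mem_iInf.mp (h ⟨D, hD⟩)) ⟨g, hg⟩
  · exact h D D.2 g g.2

theorem yTwo_le : S.yTwo p ≤ S.pMax p := inf_le_left

theorem isPGroup_yTwo : IsPGroup p (S.yTwo p) := isPGroup_pMax.to_le yTwo_le

theorem A_le_normalizer_yTwo : S.A ≤ normalizer (S.yTwo p : Set G) := by
  refine le_normalizer_iff.mpr fun a ha x hx => ?_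
  rw [mem_yTwo] at hx ⊢
  refine ⟨Coprime.conj_mem (A_le_normalizer_pMax ha) hx.1, fun D hD g hg => ?_⟩
  have h := Coprime.conj_mem (A_le_normalizer_pMax ha)
    (hx.2 D hD _ (Coprime.conj_mem (inv_mem (le_normalizer_C hD.1 ha)) hg))
  simpa [mul_assoc] using h

theorem T_le_normalizer_yTwo : S.T ≤ normalizer (S.yTwo p : Set G) := by
  refine le_normalizer_iff.mpr fun t ht x hx => ?_
  rw [mem_yTwo] at hx ⊢
  refine ⟨Coprime.conj_mem (T_le_normalizer_pMax ht) hx.1, fun D hD g hg => ?_⟩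
  have htC : t ∈ S.C D := T_le_C hD.1 ht
  have h := Coprime.conj_mem (T_le_normalizer_pMax ht)
    (hx.2 D hD _ (mul_mem (mul_mem (inv_mem htC) hg) htC))
  simpa [mul_assoc] using h

theorem isMember_yTwo : S.IsMember (S.yTwo p) := isMember_pMax.of_le yTwo_le A_le_normalizer_yTwo

/-- `Y2` meets every member inside its `p`-core. -/
theorem yTwo_inf_le {K : Subgroup G} (hK : S.IsMember K) :
    S.yTwo p ⊓ K ≤ Cfsg.pCoreOf p K := by
  set U := S.yTwo p ⊓ K with hU
  let V : Subgroup G := K ⊓ ⨅ x : {x : ℕ // x.Prime ∧ x ≠ p}, pPrimeOf x K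
  have hUp : IsPGroup p U := isPGroup_yTwo.to_le inf_le_left
  obtain ⟨n, hn⟩ := IsPGroup.iff_card.mp hUp
  have hUV : U ≤ V := by
    refine le_inf inf_le_right (le_iInf fun x => ?_)
    haveI := Fact.mk x.2.1
    have hxU : ¬ (x : ℕ) ∣ Nat.card U := by
      rw [hn]
      exact fun h => x.2.2 ((Nat.prime_dvd_prime_iff_eq x.2.1 Fact.out).mp (x.2.1.dvd_of_dvd_pow h))
    by_cases hxK : (x : ℕ) ∣ Nat.card K
    · refine S1288.result r S.A K S.elem ?_ hK.not_dvd hK.solvable hK.le_normalizer x hxK U inf_le_right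
        hxU fun B hB hi => ?_
      · rw [S.card_A]; exact Nat.pow_le_pow_right hr.out.pos (by norm_num)
      have hBl : S.IsLine B := by
        refine ⟨hB, ?_⟩
        have h1 := Subgroup.relIndex_mul_relIndex (⊥ : Subgroup G) B S.A bot_le hB
        rw [relIndex_bot_left, relIndex_bot_left, hi, S.card_A, pow_succ] at h1
        exact Nat.eq_of_mul_eq_mul_right hr.out.pos h1
      have hle : ⁅U, K ⊓ centralizer (B : Set G)⁆ ≤ S.pMax p := by
        rw [commutator_le]
        intro u hu g hg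
        have hg' : g ∈ S.C B := hK.inf_centralizer_le_C hB hg
        rw [commutatorElement_def, mul_assoc u, mul_assoc u]
        exact mul_mem (yTwo_le hu.1) ((mem_yTwo.mp ((S.yTwo p).inv_mem hu.1)).2 B hBl g hg')
      obtain ⟨m, hm⟩ := IsPGroup.iff_card.mp ((isPGroup_pMax (S := S) (p := p)).to_le hle)
      rw [hm]
      exact fun h => x.2.2 ((Nat.prime_dvd_prime_iff_eq x.2.1 Fact.out).mp (x.2.1.dvd_of_dvd_pow h))
    · exact inf_le_right.trans (le_pPrimeOf le_rfl Subgroup.le_normalizer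
        ((x.2.1.coprime_iff_not_dvd.mpr hxK).symm))
  have hVp : IsPGroup p V := by
    refine IsPGroup.iff_card.mpr ⟨_,
      Nat.eq_prime_pow_of_unique_prime_dvd (p := p) Nat.card_pos.ne' fun {x} hx hd => ?_⟩
    by_contra hxp
    haveI := Fact.mk hx
    have hle : V ≤ pPrimeOf x K :=
      inf_le_right.trans (iInf_le (fun y : {y : ℕ // y.Prime ∧ y ≠ p} => pPrimeOf (y : ℕ) K) ⟨x, hx, hxp⟩)
    have hd' : x ∣ Nat.card (pPrimeOf x K) := hd.trans (Subgroup.card_dvd_of_le hle)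
    exact hx.ne_one (Nat.eq_one_of_dvd_coprimes (coprime_pPrimeOf (p := x) K) hd' dvd_rfl)
  refine hUV.trans (H60.le_pCoreOf inf_le_left ?_ hVp)
  refine le_normalizer_iff.mpr fun k hk v hv => ⟨K.mul_mem (K.mul_mem hk hv.1) (K.inv_mem hk), ?_⟩
  refine mem_iInf.mpr fun x => ?_
  haveI := Fact.mk x.2.1
  exact Coprime.conj_mem (le_normalizer_pPrimeOf K hk) (mem_iInf.mp hv.2 x)

theorem IsLine.sup_zpowers {D : Subgroup G} (hD : S.IsLine D) {d : G} (hd : d ∈ S.A) (hdD : d ∉ D) :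
    D ⊔ zpowers d = S.A := by
  refine Subgroup.eq_of_le_of_card_ge (sup_le hD.1 (zpowers_le.mpr hd)) ?_
  obtain ⟨i, hi, hci⟩ := (Nat.dvd_prime_pow hr.out).mp
    (S.card_A ▸ Subgroup.card_dvd_of_le (sup_le hD.1 (zpowers_le.mpr hd)) :
      Nat.card (D ⊔ zpowers d : Subgroup G) ∣ r ^ 3)
  rw [hci, S.card_A]
  refine Nat.pow_le_pow_right hr.out.pos ?_
  by_contra hlt
  refine hdD ?_
  have := Subgroup.eq_of_le_of_card_ge (le_sup_left : D ≤ D ⊔ zpowers d)
    (by rw [hci, hD.2]; exact Nat.pow_le_pow_right hr.out.pos (by omega))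
  rw [this]
  exact mem_sup_right (mem_zpowers d)

theorem inf_centralizer_le_of_line {K D : Subgroup G} {d : G} (hD : S.IsLine D) (hd : d ∈ S.A)
    (hdD : d ∉ D) (hK : K ≤ centralizer {d}) :
    K ⊓ centralizer (D : Set G) ≤ K ⊓ centralizer (S.A : Set G) := by
  refine le_inf inf_le_left ?_
  rw [← hD.sup_zpowers hd hdD, le_centralizer_iff, sup_le_iff]
  exact ⟨le_centralizer_iff.mp inf_le_right,
    zpowers_le.mpr (mem_centralizer_iff.mpr fun x hx =>
      (mem_centralizer_singleton_iff.mp (hK hx.1)))⟩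

theorem exists_line_through {c : G} (hc : c ∈ S.A) : ∃ E, S.IsLine E ∧ c ∈ E := by
  obtain ⟨D, hD, hDi⟩ := H40.exists_hyperplane S.elem S.A_ne_bot
  have h1 := Subgroup.relIndex_mul_relIndex (⊥ : Subgroup G) D S.A bot_le hD
  rw [relIndex_bot_left, relIndex_bot_left, hDi, S.card_A, pow_succ] at h1
  have hDl : S.IsLine D := ⟨hD, Nat.eq_of_mul_eq_mul_right hr.out.pos h1⟩
  by_cases hcD : c ∈ D
  · exact ⟨D, hDl, hcD⟩
  obtain ⟨d, hd, hd1⟩ := hDl.exists_ne_one
  refine ⟨zpowers d ⊔ zpowers c, ⟨sup_le (zpowers_le.mpr (hD hd)) (zpowers_le.mpr hc), ?_⟩,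
    mem_sup_right (mem_zpowers c)⟩
  have hdr : Nat.card (zpowers d) = r := by
    rw [Nat.card_zpowers]
    exact (orderOf_eq_prime (S.elem.2 d (hD hd)) hd1)
  have hcr : Nat.card (zpowers c) = r := by
    rw [Nat.card_zpowers]
    exact (orderOf_eq_prime (S.elem.2 c hc) fun e => hcD (e ▸ one_mem D))
  have hn : zpowers c ≤ normalizer (zpowers d : Set G) :=
    ((zpowers_le.mpr hc).trans (A_le_centralizer_A.trans
      (centralizer_le (zpowers_le.mpr (hD hd))))).trans (centralizer_le_normalizer _)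
  rw [Coprime.card_sup hn ?_, hdr, hcr, pow_two]
  refine eq_bot_iff.mpr fun x hx => mem_bot.mpr ?_
  by_contra hx1
  exact hcD ((le_of_prime_card hcr hx.2 (zpowers_le.mpr hd hx.1) hx1) (mem_zpowers c))

/-- The subgroup generated by the conjugates of `C_{Y2}(c)` under `C(F)`. -/
def stepU (S : Setup G r) (p : ℕ) (F : Subgroup G) (c : G) : Subgroup G :=
  ⨆ g : S.C F, (S.yTwo p ⊓ centralizer {c}).map (MulAut.conj (g : G)).toMonoidHom

end Setup

namespace TwoColours

variable {S : Setup G r} (h : TwoColours S p q)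
include h

theorem yTwo_inf_centralizer_eq_bot {x : G} (hx : x ∈ S.A) (h1 : x ≠ 1) (hinc : ¬ S.Capable q x) :
    S.yTwo p ⊓ centralizer {x} = ⊥ := by
  obtain ⟨H, hH, hle⟩ := exists_isHH_theta hx h1
  have hq : Cfsg.pCoreOf q H ≠ ⊥ := fun e => hinc ⟨H, hH, hle, e⟩
  have hp : Cfsg.pCoreOf p H = ⊥ := (h.colour_or hH).resolve_right hq
  rw [← le_bot_iff, ← hp]
  exact (le_inf inf_le_left ((isMember_yTwo.inf_centralizer_le hx h1).trans hle)).trans
    (yTwo_inf_le hH.mem)

theorem capable_of_ne_bot {x : G} (hx : x ∈ S.A) (h1 : x ≠ 1)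
    (hne : S.yTwo p ⊓ centralizer {x} ≠ ⊥) : S.Capable q x :=
  by_contra fun hc => hne (h.yTwo_inf_centralizer_eq_bot hx h1 hc)

theorem yTwo_le_pCoreOf {H : Subgroup G} (hH : S.IsHH H) (hq : Cfsg.pCoreOf q H = ⊥) :
    S.yTwo p ≤ Cfsg.pCoreOf p H := by
  have h0 : S.pMax p ≠ ⊥ := h.pMax_ne_bot hH hq
  refine le_trans (le_inf (le_inf yTwo_le ?_) ?_) (h.xCore_le hH hq)
  · exact (le_inf le_rfl (yTwo_le.trans h.pMax_le_normZ)).trans
      ((yTwo_inf_le (h.isMember_normZ h0)).trans (pCoreOf_le_core12 _))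
  · exact (le_inf le_rfl (yTwo_le.trans h.pMax_le_normJ)).trans
      ((yTwo_inf_le (h.isMember_normJ h0)).trans (pCoreOf_le_core12 _))

/-- The centre of `Y_p` lies in `Y2` if every line has a capable point. -/
theorem centre_le_yTwo (hcap : ∀ D, S.IsLine D → ∃ c ∈ D, c ≠ 1 ∧ S.Capable q c) :
    S.pMax p ⊓ centralizer (S.pMax p : Set G) ≤ S.yTwo p := by
  intro x hx
  refine mem_yTwo.mpr ⟨hx.1, fun D hD g hg => ?_⟩
  obtain ⟨c, hc, hc1, H, hH, hle, hq⟩ := hcap D hD
  set Z := S.pMax p ⊓ centralizer (S.pMax p : Set G) with hZ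
  have hPY := hH.mem.pCoreOf_le_pMax h.hpr hH.T_le_normalizer
  have hZA : S.A ≤ normalizer (Z : Set G) :=
    TwoPrimes.le_normalizer_inf_centralizer A_le_normalizer_pMax
  have hZc : Z ≤ centralizer (Cfsg.pCoreOf p H : Set G) := inf_le_right.trans (centralizer_le hPY)
  have hZH : Z ≤ H := h.le_of_normal_core hH (h.colour_ne_bot hH hq)
    (isMember_pMax.of_le inf_le_left hZA) (hZc.trans (centralizer_le_normalizer _))
  have hxP : x ∈ Cfsg.pCoreOf p H :=
    ((le_inf hZH hZc).trans (h.colour_inf_centralizer hH hq)) hx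
  exact hPY (Coprime.conj_mem (H60.le_normalizer_pCoreOf H (hle (C_le hc hc1 hg))) hxP)

theorem stepU_le_of {F M : Subgroup G} {c : G}
    (hle : S.yTwo p ⊓ centralizer {c} ≤ M) (hn : S.C F ≤ normalizer (M : Set G)) :
    S.stepU p F c ≤ M :=
  iSup_le fun g => (Subgroup.map_mono hle).trans (Coprime.map_conj_eq (hn g.2)).le

/-- A criterion for lying in `Y2`. -/
theorem le_yTwo_of_cores {E P : Subgroup G} (hE : S.IsLine E)
    (hP : ∀ d ∈ E, d ≠ 1 → P ≤ Cfsg.pCoreOf p (S.θ d)) : P ≤ S.yTwo p := by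
  have hle : ∀ d ∈ E, d ≠ 1 → Cfsg.pCoreOf p (S.θ d) ≤ S.pMax p := fun d hd hd1 =>
    (isMember_theta (hE.1 hd) hd1).pCoreOf_le_pMax h.hpr
      ((Setup.T_le (hE.1 hd) hd1).trans Subgroup.le_normalizer)
  intro x hx
  obtain ⟨d, hd, hd1⟩ := hE.exists_ne_one
  refine mem_yTwo.mpr ⟨hle d hd hd1 (hP d hd hd1 hx), fun D hD g hg => ?_⟩
  obtain ⟨d, ⟨hdE, hdD⟩, hd1⟩ := hE.exists_inter hD
  exact hle d hdE hd1
    (Coprime.conj_mem (H60.le_normalizer_pCoreOf _ (C_le hdD hd1 hg)) (hP d hdE hd1 hx))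

section Step

variable {F : Subgroup G} (hF : S.IsLine F) {c : G} (hc : c ∈ F) (hc1 : c ≠ 1)
include hF hc hc1

theorem stepU_le_pCoreOf_theta : S.stepU p F c ≤ Cfsg.pCoreOf p (S.θ c) :=
  h.stepU_le_of ((le_inf inf_le_left (isMember_yTwo.inf_centralizer_le (hF.1 hc) hc1)).trans
      (yTwo_inf_le (isMember_theta (hF.1 hc) hc1)))
    ((C_le hc hc1).trans (H60.le_normalizer_pCoreOf _))

theorem stepU_le_centralizer : S.stepU p F c ≤ centralizer {c} :=
  (h.stepU_le_pCoreOf_theta hF hc hc1).trans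
    ((H60.pCoreOf_le _).trans (theta_le_centralizer (hF.1 hc) hc1))

theorem A_le_normalizer_stepU : S.A ≤ normalizer (S.stepU p F c : Set G) := by
  intro a ha
  refine Coprime.mem_normalizer_of_map_conj (le_antisymm ?_ ?_)
  all_goals
    have hW : ∀ b ∈ S.A, (S.yTwo p ⊓ centralizer {c}).map (MulAut.conj b).toMonoidHom =
        S.yTwo p ⊓ centralizer {c} := fun b hb => Coprime.map_conj_eq
      (Setup.le_normalizer_inf A_le_normalizer_yTwo
        (le_normalizer_centralizer_singleton (hF.1 hc)) hb)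
  · rw [Setup.stepU, Subgroup.map_iSup]
    refine iSup_le fun g => ?_
    refine le_iSup_of_le ⟨a * g * a⁻¹, Coprime.conj_mem (le_normalizer_C hF.1 ha) g.2⟩ (le_of_eq ?_)
    conv_rhs => rw [← hW a ha]
    rw [Coprime.map_conj_map_conj, Coprime.map_conj_map_conj, inv_mul_cancel_right]
  · rw [Setup.stepU, Subgroup.map_iSup]
    refine iSup_le fun g => ?_
    refine le_iSup_of_le ⟨a⁻¹ * g * a,
      Coprime.conj_mem' (le_normalizer_C hF.1 ha) g.2⟩ (le_of_eq ?_)
    conv_lhs => rw [← hW a ha]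
    rw [Coprime.map_conj_map_conj, Coprime.map_conj_map_conj]
    congr 3
    group

theorem isMember_stepU : S.IsMember (S.stepU p F c) :=
  ((isMember_theta (hF.1 hc) hc1).isMember_pCoreOf p).of_le (h.stepU_le_pCoreOf_theta hF hc hc1)
    (h.A_le_normalizer_stepU hF hc hc1)

theorem isPGroup_stepU : IsPGroup p (S.stepU p F c) :=
  (H60.pCoreOf_isPGroup _).to_le (h.stepU_le_pCoreOf_theta hF hc hc1)

theorem stepU_inf_le_theta {E : Subgroup G} (hE : S.IsLine E) {d : G} (hd : d ∈ E) (hd1 : d ≠ 1) :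
    S.stepU p F c ⊓ centralizer (E : Set G) ≤ S.θ d :=
  ((h.isMember_stepU hF hc hc1).inf_centralizer_le_C hE.1).trans (C_le hd hd1)

/-- Through a capable point the fixed points on a line centralize modulo `O_p`. -/
theorem commutator_le_of_capable {E : Subgroup G} (hE : S.IsLine E) {d : G} (hd : d ∈ E)
    (hd1 : d ≠ 1) {D : Subgroup G} (hD : D ≤ S.A) {f : G} (hfD : f ∈ D) (hfF : f ∈ F)
    (hf1 : f ≠ 1) (hf : S.Capable q f) :
    ⁅fitP p (S.θ d) ⊓ centralizer (D : Set G), S.stepU p F c ⊓ centralizer (E : Set G)⁆ ≤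
      Cfsg.pCoreOf p (S.θ d) := by
  obtain ⟨H, hH, hle, hq⟩ := hf
  have hdA := hE.1 hd
  have hUO : S.stepU p F c ≤ Cfsg.pCoreOf p H := h.stepU_le_of
    (inf_le_left.trans (h.yTwo_le_pCoreOf hH hq))
    (((C_le hfF hf1).trans hle).trans (H60.le_normalizer_pCoreOf H))
  refine le_trans ?_ (le_pCoreOf_of_le_fitP
    ((H60.pCoreOf_isPGroup H).to_le (inf_le_left : Cfsg.pCoreOf p H ⊓ fitP p (S.θ d) ≤ _))
    inf_le_right)
  rw [commutator_le]
  intro x hx u hu
  have hxH : x ∈ H := hle (C_le hfD hf1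
    (((isMember_theta hdA hd1).of_le (fitP_le _)
      ((isMember_theta hdA hd1).le_normalizer.trans
        (normalizer_le_normalizer_fitP _))).inf_centralizer_le_C hD hx))
  have huV : u ∈ normalizer (fitP p (S.θ d) : Set G) :=
    le_normalizer_fitP _ (h.stepU_inf_le_theta hF hc hc1 hE hd hd1 hu)
  refine ⟨?_, ?_⟩
  · rw [commutatorElement_def]
    exact (Cfsg.pCoreOf p H).mul_mem (Coprime.conj_mem (H60.le_normalizer_pCoreOf H hxH) (hUO hu.1))
      ((Cfsg.pCoreOf p H).inv_mem (hUO hu.1))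
  · rw [commutatorElement_def, mul_assoc x u, mul_assoc x]
    exact mul_mem hx.1 (Coprime.conj_mem huV (inv_mem hx.1))

theorem commutator_le_of_line_capable (hcc : S.Capable q c) {E : Subgroup G} (hE : S.IsLine E)
    (hcE : c ∈ E) {d : G} (hd : d ∈ E) (hd1 : d ≠ 1) :
    ⁅fitP p (S.θ d) ⊓ centralizer (S.A : Set G), S.stepU p F c ⊓ centralizer (E : Set G)⁆ ≤
      Cfsg.pCoreOf p (S.θ d) :=
  (commutator_mono (inf_le_inf_left _ (centralizer_le hE.1)) le_rfl).trans
    (h.commutator_le_of_capable hF hc hc1 hE hd hd1 hE.1 hcE hc hc1 hcc)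

theorem stepU_le_of_lines {M : Subgroup G}
    (hM : ∀ E, S.IsLine E → c ∈ E → S.stepU p F c ⊓ centralizer (E : Set G) ≤ M) :
    S.stepU p F c ≤ M := by
  refine le_of_lines (h.isMember_stepU hF hc hc1).not_dvd (h.A_le_normalizer_stepU hF hc hc1)
    fun D hD => ?_
  by_cases hcD : c ∈ D
  · exact hM D hD hcD
  obtain ⟨E, hE, hcE⟩ := exists_line_through (hF.1 hc)
  exact ((inf_centralizer_le_of_line hD (hF.1 hc) hcD (h.stepU_le_centralizer hF hc hc1)).trans
    (inf_le_inf_left _ (centralizer_le hE.1))).trans (hM E hE hcE)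

end Step

theorem le_comap_of_stepU {F : Subgroup G} (hF : S.IsLine F)
    (hU : ∀ c ∈ F, c ≠ 1 → S.Capable q c → S.stepU p F c ≤ S.yTwo p) :
    S.C F ≤ normalizer (S.yTwo p : Set G) := by
  refine le_normalizer_iff.mpr fun g hg => ?_
  suffices S.yTwo p ≤ (S.yTwo p).comap (MulAut.conj g).toMonoidHom from fun x hx => this hx
  refine le_of_points hF.1 hF.2.ge isMember_yTwo.not_dvd (hF.1.trans A_le_normalizer_yTwo)
    fun c hc hc1 => ?_
  by_cases h0 : S.yTwo p ⊓ centralizer {c} = ⊥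
  · rw [h0]; exact bot_le
  rw [← Subgroup.map_le_iff_le_comap]
  exact (le_iSup (fun g : S.C F => (S.yTwo p ⊓ centralizer {c}).map
    (MulAut.conj (g : G)).toMonoidHom) ⟨g, hg⟩).trans
      (hU c hc hc1 (h.capable_of_ne_bot (hF.1 hc) hc1 h0))

/-- If every point of `F` is capable, `C(F)` normalizes `Y2`. -/
theorem step_of_capable {F : Subgroup G} (hF : S.IsLine F)
    (hcap : ∀ f ∈ F, f ≠ 1 → S.Capable q f) : S.C F ≤ normalizer (S.yTwo p : Set G) := by
  refine h.le_comap_of_stepU hF fun c hc hc1 hcc => h.stepU_le_of_lines hF hc hc1 fun E hE hcE =>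
    h.le_yTwo_of_cores hE fun d hd hd1 => ?_
  set UE := S.stepU p F c ⊓ centralizer (E : Set G) with hUE
  set θd := S.θ d with hθd
  have hdA := hE.1 hd
  have hθ := isMember_theta hdA hd1
  set V := fitP p θd with hV
  set O := Cfsg.pCoreOf p θd with hO
  have hVA : S.A ≤ normalizer (V : Set G) := hθ.le_normalizer.trans (normalizer_le_normalizer_fitP _)
  have hVR : V ≤ Coprime.relCentralizer O UE := by
    refine le_of_lines (hθ.of_le (fitP_le _) hVA).not_dvd hVA fun D hD => ?_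
    intro x hx
    refine ⟨H60.le_normalizer_pCoreOf _ (fitP_le _ hx.1), fun u hu => ?_⟩
    obtain ⟨f, ⟨hfD, hfF⟩, hf1⟩ := hD.exists_inter hF
    exact h.commutator_le_of_capable hF hc hc1 hE hd hd1 hD.1 hfD hfF hf1 (hcap f hfF hf1)
      (commutator_mem_commutator hx hu)
  refine le_pCoreOf_of_series hθ.solvable
    ((h.isPGroup_stepU hF hc hc1).to_le inf_le_left) (h.stepU_inf_le_theta hF hc hc1 hE hd hd1)
    (Coprime.commutator_le_of_le_relCentralizer hVR) ?_
  refine (commutator_le.mpr fun o ho u hu => ?_).trans le_sup_left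
  rw [commutatorElement_def, mul_assoc o u, mul_assoc o]
  exact mul_mem ho (Coprime.conj_mem
    (H60.le_normalizer_pCoreOf _ (h.stepU_inf_le_theta hF hc hc1 hE hd hd1 hu)) (inv_mem ho))

/-- The step with an auxiliary subgroup `Z` centralizing `A`. -/
theorem step_of_auxiliary {F : Subgroup G} (hF : S.IsLine F) {Z : Subgroup G}
    (hZA : Z ≤ centralizer (S.A : Set G)) (hZc : (Nat.card Z).Coprime p)
    (hZY : Z ≤ normalizer (S.yTwo p : Set G))
    (hZ0 : S.yTwo p ⊓ centralizer (Z : Set G) = ⊥)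
    (hZθ : ∀ a ∈ S.A, a ≠ 1 → Z ≤ normalizer (S.θ a : Set G))
    (hK0 : ∀ g ∈ S.C F, ∃ k, (∀ w ∈ Z, k * w = w * k) ∧ ∃ t ∈ S.T, g = k * t)
    (hinc : ∀ m ∈ F, m ≠ 1 → ¬ S.Capable q m → ∀ D, S.IsLine D → m ∈ D →
      ⁅S.C D, S.A⁆ ≤ centralizer (Z : Set G)) :
    S.C F ≤ normalizer (S.yTwo p : Set G) := by
  refine h.le_comap_of_stepU hF fun c hc hc1 hcc => ?_
  set U := S.stepU p F c with hU
  set W₀ := S.yTwo p ⊓ centralizer {c} with hW₀
  have hcA : c ∈ S.A := hF.1 hc
  have hUp : IsPGroup p U := h.isPGroup_stepU hF hc hc1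
  have hUA := h.A_le_normalizer_stepU hF hc hc1
  haveI : Group.IsNilpotent U := hUp.isNilpotent
  have hcopZ : ∀ {X : Subgroup G}, IsPGroup p X → (Nat.card Z).Coprime (Nat.card X) := fun hX => by
    obtain ⟨n, hn⟩ := IsPGroup.iff_card.mp hX
    rw [hn]
    exact hZc.pow_right n
  have hZcA : ∀ {B : Subgroup G}, B ≤ S.A → Z ≤ normalizer (centralizer (B : Set G) : Set G) :=
    fun hB => (hZA.trans (centralizer_le hB)).trans Subgroup.le_normalizer
  have hW₀Z : Z ≤ normalizer (W₀ : Set G) := H60.le_normalizer_inf hZY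
    ((hZA.trans (centralizer_le (Set.singleton_subset_iff.mpr hcA))).trans Subgroup.le_normalizer)
  have hW₀T : S.T ≤ normalizer (W₀ : Set G) := H60.le_normalizer_inf T_le_normalizer_yTwo
    ((T_le_centralizer.trans (centralizer_le (Set.singleton_subset_iff.mpr hcA))).trans
      Subgroup.le_normalizer)
  have hW₀p : IsPGroup p W₀ := isPGroup_yTwo.to_le inf_le_left
  haveI := hW₀p.isNilpotent
  have hW₀eq : ⁅W₀, Z⁆ = W₀ := by
    have h1 := Coprime.commutator_sup_centralizer hW₀Z (hcopZ hW₀p) (Or.inr inferInstance)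
    rwa [show W₀ ⊓ centralizer (Z : Set G) = ⊥ from
      le_bot_iff.mp ((inf_le_inf_right _ inf_le_left).trans hZ0.le), sup_bot_eq] at h1
  -- conjugates of `W₀` by `C(F)`
  have hconj : ∀ g : S.C F, ∃ k : G, (∀ w ∈ Z, k * w = w * k) ∧
      W₀.map (MulAut.conj (g : G)).toMonoidHom = W₀.map (MulAut.conj k).toMonoidHom := by
    intro g
    obtain ⟨k, hk, t, ht, he⟩ := hK0 g g.2
    refine ⟨k, hk, ?_⟩
    rw [he, ← Coprime.map_conj_map_conj, Coprime.map_conj_eq (hW₀T ht)]
  have hkZ : ∀ {k : G}, (∀ w ∈ Z, k * w = w * k) → Z.map (MulAut.conj k).toMonoidHom = Z :=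
    fun {k} hk => Coprime.map_conj_eq (centralizer_le_normalizer _
      (mem_centralizer_iff.mpr fun w hw => (hk w hw).symm))
  have hUZ : Z ≤ normalizer (U : Set G) := by
    intro z hz
    refine Coprime.mem_normalizer_of_map_conj ?_
    rw [hU, Setup.stepU, Subgroup.map_iSup]
    refine iSup_congr fun g => ?_
    obtain ⟨k, hk, he⟩ := hconj g
    rw [he, Coprime.map_conj_map_conj, ← hk z hz, ← Coprime.map_conj_map_conj,
      Coprime.map_conj_eq (hW₀Z hz)]
  have hUeq : ⁅U, Z⁆ = U := by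
    refine le_antisymm (Coprime.commutator_le_left_of_normalizer hUZ) (iSup_le fun g => ?_)
    obtain ⟨k, hk, he⟩ := hconj g
    refine le_trans (le_of_eq ?_) (commutator_mono (le_iSup (fun g : S.C F =>
      W₀.map (MulAut.conj (g : G)).toMonoidHom) g) le_rfl)
    conv_lhs => rw [he, ← hW₀eq, Subgroup.map_commutator, hkZ hk]
    rw [he]
  -- the generating parts
  let gen : {E : Subgroup G // S.IsLine E ∧ c ∈ E} → Subgroup G := fun E =>
    ⁅U ⊓ centralizer (E : Set G), Z⁆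
  have hUE : ∀ {E : Subgroup G}, S.IsLine E → Z ≤ normalizer ((U ⊓ centralizer (E : Set G) : Subgroup G) : Set G) :=
    fun hE => H60.le_normalizer_inf hUZ (hZcA hE.1)
  set W := ⨆ E, gen E with hW
  have hWU : W ≤ U := iSup_le fun E =>
    (Coprime.commutator_le_left_of_normalizer (hUE E.2.1)).trans inf_le_left
  set M := W ⊔ ⁅U, U⁆ with hM
  have hUUle : ⁅U, U⁆ ≤ U := commutator_le_of_le le_rfl le_rfl
  have hMU : M ≤ U := sup_le hWU hUUle
  have hUM : U ≤ normalizer (M : Set G) := le_normalizer_iff.mpr fun x hx m hm => by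
    rw [show x * m * x⁻¹ = ⁅x, m⁆ * m by simp only [commutatorElement_def]; group]
    exact mul_mem (mem_sup_right (commutator_mem_commutator hx (hMU hm))) hm
  have hZM : Z ≤ normalizer (M : Set G) := by
    intro z hz
    refine Coprime.mem_normalizer_of_map_conj ?_
    rw [hM, Subgroup.map_sup, hW, Subgroup.map_iSup, Subgroup.map_commutator,
      Coprime.map_conj_eq (hUZ hz)]
    congr 1
    refine iSup_congr fun E => ?_
    rw [Subgroup.map_commutator, Coprime.map_conj_eq (hUE E.2.1 hz),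
      Coprime.map_conj_eq (Subgroup.le_normalizer hz)]
  have hUrel : U ≤ Coprime.relCentralizer M Z := by
    refine h.stepU_le_of_lines hF hc hc1 fun E hE hcE => ?_
    have hEp : IsPGroup p (U ⊓ centralizer (E : Set G) : Subgroup G) := hUp.to_le inf_le_left
    haveI := hEp.isNilpotent
    rw [← Coprime.commutator_sup_centralizer (hUE hE) (hcopZ hEp) (Or.inr inferInstance), sup_le_iff]
    constructor
    · have hPM : ⁅U ⊓ centralizer (E : Set G), Z⁆ ≤ M :=
        (le_iSup gen ⟨E, hE, hcE⟩).trans le_sup_left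
      intro x hx
      refine ⟨hUM ((hPM.trans hMU) hx), fun z hz => ?_⟩
      rw [commutatorElement_def, mul_assoc x z, mul_assoc x]
      exact mul_mem (hPM hx) (Coprime.conj_mem (hZM hz) (inv_mem (hPM hx)))
    · intro x hx
      refine ⟨hUM hx.1.1, fun z hz => ?_⟩
      rw [commutatorElement_eq_one_iff_mul_comm.mpr ((mem_centralizer_iff.mp hx.2 z hz).symm)]
      exact one_mem _
  have hWeq : W = U := eq_of_sup_commutator hUp hWU (le_antisymm hMU
    (hUeq.ge.trans (Coprime.commutator_le_of_le_relCentralizer hUrel)))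
  rw [← hWeq]
  refine iSup_le fun ⟨E, hE, hcE⟩ => h.le_yTwo_of_cores hE fun d hd hd1 => ?_
  set UE := U ⊓ centralizer (E : Set G) with hUEdef
  set θd := S.θ d with hθd
  have hdA := hE.1 hd
  have hθ := isMember_theta hdA hd1
  set V := fitP p θd with hV
  set O := Cfsg.pCoreOf p θd with hO
  set Φ := O ⊔ ⁅V, V⁆ with hΦ
  set Sg := V ⊓ Coprime.relCentralizer Φ UE with hSg
  have hUEθ : UE ≤ θd := h.stepU_inf_le_theta hF hc hc1 hE hd hd1
  have hVn : normalizer (θd : Set G) ≤ normalizer (V : Set G) := normalizer_le_normalizer_fitP θd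
  have hUEV : UE ≤ normalizer (V : Set G) := (hUEθ.trans Subgroup.le_normalizer).trans hVn
  have hZV : Z ≤ normalizer (V : Set G) := (hZθ d hdA hd1).trans hVn
  have hΦn : normalizer (θd : Set G) ≤ normalizer (Φ : Set G) := fun g hg =>
    inf_normalizer_le_normalizer_join ⟨H60.normalizer_le_normalizer_pCoreOf θd hg,
      Coprime.mem_normalizer_commutator (hVn hg) (hVn hg)⟩
  have hΦV : Φ ≤ V := sup_le (pCoreOf_le_fitP θd) (commutator_le_of_le le_rfl le_rfl)
  have hUEΦ : UE ≤ normalizer (Φ : Set G) := (hUEθ.trans Subgroup.le_normalizer).trans hΦn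
  have hVΦ : V ≤ normalizer (Φ : Set G) := ((fitP_le θd).trans Subgroup.le_normalizer).trans hΦn
  have hZΦ : Z ≤ normalizer (Φ : Set G) := (hZθ d hdA hd1).trans hΦn
  have hΦS : Φ ≤ Sg := le_inf hΦV fun x hx => ⟨Subgroup.le_normalizer hx, fun u hu => by
    rw [commutatorElement_def, mul_assoc x u, mul_assoc x]
    exact mul_mem hx (Coprime.conj_mem (hUEΦ hu) (inv_mem hx))⟩
  have hVS : V ≤ normalizer (Sg : Set G) := le_normalizer_iff.mpr fun v hv x hx => by
    rw [show v * x * v⁻¹ = ⁅v, x⁆ * x by simp only [commutatorElement_def]; group]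
    exact mul_mem (hΦS (mem_sup_right (commutator_mem_commutator hv hx.1))) hx
  have hSU : ⁅Sg, UE⁆ ≤ Φ := Coprime.commutator_le_of_le_relCentralizer inf_le_right
  have hUES : UE ≤ normalizer (Sg : Set G) := le_normalizer_iff.mpr fun u hu x hx => by
    rw [show u * x * u⁻¹ = ⁅x, u⁆⁻¹ * x by simp only [commutatorElement_def]; group]
    exact mul_mem (hΦS (inv_mem (hSU (commutator_mem_commutator hx hu)))) hx
  have hZUE : Z ≤ normalizer (UE : Set G) := hUE hE
  have hZS : Z ≤ normalizer (Sg : Set G) := le_normalizer_iff.mpr fun z hz x hx => by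
    refine ⟨Coprime.conj_mem (hZV hz) hx.1,
      mul_mem (mul_mem (hZΦ hz) hx.2.1) (inv_mem (hZΦ hz)), fun u hu => ?_⟩
    rw [show ⁅z * x * z⁻¹, u⁆ = z * ⁅x, z⁻¹ * u * z⁆ * z⁻¹ by
      simp only [commutatorElement_def]; group]
    exact Coprime.conj_mem (hZΦ hz) (hx.2.2 _ (Coprime.conj_mem' (hZUE hz) hu))
  have hVA : S.A ≤ normalizer (V : Set G) := hθ.le_normalizer.trans hVn
  have hVmem : S.IsMember V := hθ.of_le (fitP_le θd) hVA
  have hin : ∀ {X : Subgroup G}, X ≤ V → ⁅X, UE⁆ ≤ O → X ≤ Coprime.relCentralizer Sg Z := by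
    intro X hX hc' x hx
    have hxS : x ∈ Sg := ⟨hX hx, hVΦ (hX hx),
      fun u hu => mem_sup_left (hc' (commutator_mem_commutator hx hu))⟩
    refine ⟨hVS (hX hx), fun z hz => ?_⟩
    rw [commutatorElement_def, mul_assoc x z, mul_assoc x]
    exact mul_mem hxS (Coprime.conj_mem (hZS hz) (inv_mem hxS))
  have hAfix : V ⊓ centralizer (S.A : Set G) ≤ Coprime.relCentralizer Sg Z :=
    hin inf_le_left (h.commutator_le_of_line_capable hF hc hc1 hcc hE hcE hd hd1)
  have hVR : V ≤ Coprime.relCentralizer Sg Z := by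
    refine le_of_lines hVmem.not_dvd hVA fun D hD => ?_
    by_cases hcapD : ∃ f ∈ D, f ∈ F ∧ f ≠ 1 ∧ S.Capable q f
    · obtain ⟨f, hfD, hfF, hf1, hf⟩ := hcapD
      exact hin inf_le_left (h.commutator_le_of_capable hF hc hc1 hE hd hd1 hD.1 hfD hfF hf1 hf)
    push Not at hcapD
    obtain ⟨m, ⟨hmD, hmF⟩, hm1⟩ := hD.exists_inter hF
    set X := V ⊓ centralizer (D : Set G) with hX
    have hXA : S.A ≤ normalizer (X : Set G) :=
      Setup.le_normalizer_inf hVA (le_normalizer_centralizer hD.1)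
    have hXmem : S.IsMember X := hVmem.of_le inf_le_left hXA
    rw [← Coprime.commutator_sup_centralizer hXA (coprime_A hXmem.not_dvd) (Or.inl solvable_A),
      sup_le_iff]
    constructor
    · intro x hx
      refine ⟨hVS (Coprime.commutator_le_left_of_normalizer hXA hx).1, fun z hz => ?_⟩
      have hxc : x ∈ centralizer (Z : Set G) := hinc m hmF hm1 (hcapD m hmD hmF hm1) D hD hmD
        (commutator_mono (hVmem.inf_centralizer_le_C hD.1) le_rfl hx)
      rw [commutatorElement_eq_one_iff_mul_comm.mpr ((mem_centralizer_iff.mp hxc z hz).symm)]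
      exact one_mem _
    · exact (inf_le_inf_right _ inf_le_left).trans hAfix
  have hVZ : ⁅V, Z⁆ ≤ Sg := Coprime.commutator_le_of_le_relCentralizer hVR
  have hVU : ⁅V, UE⁆ ≤ V := Coprime.commutator_le_left_of_normalizer hUEV
  have h1 : ⁅⁅UE, Z⁆, V⁆ ≤ Sg := Coprime.commutator_rotate_le hUES hZS hVS
    ((commutator_mono ((commutator_comm Z V).le.trans hVZ) le_rfl).trans (hSU.trans hΦS))
    ((commutator_mono hVU le_rfl).trans hVZ)
  have h2 : ⁅⁅UE, Z⁆, Sg⁆ ≤ Φ := Coprime.commutator_rotate_le hUEΦ hZΦ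
    ((inf_le_left : Sg ≤ V).trans hVΦ)
    ((commutator_mono ((commutator_comm Z Sg).le.trans
      (Coprime.commutator_le_left_of_normalizer hZS)) le_rfl).trans hSU)
    ((commutator_mono hSU le_rfl).trans (Coprime.commutator_le_left_of_normalizer hZΦ))
  exact le_pCoreOf_of_series hθ.solvable
    (hUp.to_le ((Coprime.commutator_le_left_of_normalizer hZUE).trans inf_le_left))
    ((Coprime.commutator_le_left_of_normalizer hZUE).trans hUEθ)
    ((commutator_comm _ _).le.trans h1) ((commutator_comm _ _).le.trans h2)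

end TwoColours

end Cfsg.Agent.Signalizer
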